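import Cfsg.Agent.Lib.Spor.MTwentyThreeOrder.SylowArith
import Cfsg.Agent.Lib.Spor.MTwelve.OrderFront.Eleven
import Cfsg.Agent.Lib.Spor.MTwelve.OrderFront.Generic
import Cfsg.Agent.Lib.Small.MathieuEleven.Tools
import Cfsg.Agent.Lib.Solv.BrauerReynoldsBlock

/-!
A simple group of the order of the Mathieu group of degree twenty-three has a self-centralising Sylow subgroup of
order twenty-three, with automiser of order eleven.
-/

set_option autoImplicit false
set_option linter.unusedSectionVars false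
set_option linter.style.haveILetI false
set_option maxHeartbeats 1000000

namespace Cfsg.Agent.MTwentyThree.ByOrder

open Cfsg Cfsg.Agent.Char Cfsg.Agent.Small.Order459648 Cfsg.Agent.Char.PrimeSylowCount
open Cfsg.Agent.Char.OrderJanko (mem_of_normalizes)
open Cfsg.Agent.MTwelve.OrderFront (val_one mult_nat exists_invol modEq_cent one_add_sq_le)
open scoped ComplexConjugate

universe u

variable {G : Type u} [Group G] [Fintype G] [IsSimpleGroup G]

theorem na (hG : Nat.card G = 10200960) : ¬ IsMulCommutative G :=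
  Lead.BlockDeg.not_comm (p := 23) (m := 443520) (by norm_num) (by rw [hG]) (by norm_num)

theorem deg_mem (hG : Nat.card G = 10200960) {χ : IrrCharacter G} (hne : χ ≠ oneChar)
    (h23 : ¬ 23 ∣ charDegree (χ : G → ℂ)) : charDegree (χ : G → ℂ) ∈ dEven := by
  have hd : charDegree (χ : G → ℂ) ∣ 23 * 443520 := by
    rw [show 23 * 443520 = Nat.card G from hG.symm]; exact deg_dvd_card χ.2
  have hd' : charDegree (χ : G → ℂ) ∣ 443520 :=
    (((show Nat.Prime 23 by norm_num).coprime_iff_not_dvd.2 h23).symm).dvd_of_dvd_mul_left hd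
  have h1 := one_lt_degree (na hG) hne
  have h := one_add_sq_le (g := (1 : G)) hne (val_one χ)
  have hC : Nat.card (Subgroup.centralizer ({1} : Set G)) ≤ 10200960 := hG ▸ Subgroup.card_le_card_group _
  refine List.mem_filter.2 ⟨List.mem_range.2 ?_, by simp [Nat.mod_eq_zero_of_dvd hd']; omega⟩
  by_contra hb
  have : (3195 : ℤ) * 3195 ≤ (charDegree (χ : G → ℂ) : ℤ) * (charDegree (χ : G → ℂ) : ℤ) :=
    mul_le_mul (by omega) (by omega) (by norm_num) (by omega)
  omega

/-- The multiplicity of the trivial constituent at an element of prime order, and its bound. -/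
theorem exists_fix (hG : Nat.card G = 10200960) {χ : IrrCharacter G} (hne : χ ≠ oneChar) {v : G} {q : ℕ}
    (hq : q.Prime) (hv : orderOf v = q) :
    ∃ m : ℕ, (∑ j ∈ Finset.range q, (χ : G → ℂ) (v ^ j) = (q : ℂ) * m) ∧ m < charDegree (χ : G → ℂ) := by
  obtain ⟨m, hm⟩ := mult_nat (irr_isCharacter χ.2) (n := q) hq.ne_zero (hv ▸ pow_orderOf_eq_one v)
    (ζ := 1) (one_pow _)
  simp only [one_pow, one_mul] at hm
  refine ⟨m, hm, ?_⟩
  by_contra hb
  have h1 : ‖∑ j ∈ Finset.range q, (χ : G → ℂ) (v ^ j)‖ < ∑ j ∈ Finset.range q, (charDegree (χ : G → ℂ) : ℝ) := by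
    refine lt_of_le_of_lt (norm_sum_le _ _) (Finset.sum_lt_sum (fun j _ => ?_) ⟨1, Finset.mem_range.2 hq.one_lt, ?_⟩)
    · have h := char_norm_le (irr_isCharacter χ.2) (v ^ j)
      rwa [char_one_eq_deg (irr_isCharacter χ.2), ← charDegree_eq_deg, Complex.natCast_re] at h
    · have h := char_norm_le (irr_isCharacter χ.2) (v ^ 1)
      rw [char_one_eq_deg (irr_isCharacter χ.2), ← charDegree_eq_deg, Complex.natCast_re] at h
      refine lt_of_le_of_ne h (SmallOrderGraph.norm_ne_deg (na hG) hne fun e => ?_)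
      rw [pow_one] at e
      rw [e, orderOf_one] at hv
      exact hq.ne_one hv.symm
  rw [hm, norm_mul, Complex.norm_natCast, Complex.norm_natCast, Finset.sum_const, Finset.card_range,
    nsmul_eq_mul] at h1
  exact absurd h1 (not_lt.2 (mul_le_mul_of_nonneg_left (by exact_mod_cast not_lt.1 hb) (Nat.cast_nonneg q)))

/-- The sum of the central character over the powers of an element is an algebraic integer. -/
theorem fix_class_dvd (χ : IrrCharacter G) {v : G} {q : ℕ} {S : ℤ}
    (hS : ∑ j ∈ Finset.range q, (χ : G → ℂ) (v ^ j) = (S : ℂ)) {r : ℕ}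
    (hr : r ∣ Nat.card (Subgroup.centralizer ({v} : Set G))) :
    (charDegree (χ : G → ℂ) : ℤ) ∣ ((Nat.card G / r : ℕ) : ℤ) * S := by
  have hd0 : (charDegree (χ : G → ℂ) : ℂ) ≠ 0 := Nat.cast_ne_zero.2 (deg_pos χ.2).ne'
  have hint : ∀ j : ℕ, IsIntegral ℤ (((Nat.card G / r : ℕ) : ℂ) * (χ : G → ℂ) (v ^ j) /
      (charDegree (χ : G → ℂ) : ℂ)) := by
    intro j
    have h := omega_isIntegral χ.2 (v ^ j)
    rw [omega, char_one_eq_deg (irr_isCharacter χ.2), ← charDegree_eq_deg] at h
    have hle : r ∣ Nat.card (Subgroup.centralizer ({v ^ j} : Set G)) :=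
      hr.trans (Subgroup.card_dvd_of_le fun x hx => Subgroup.mem_centralizer_singleton_iff.2
        ((show Commute x v from Subgroup.mem_centralizer_singleton_iff.1 hx).pow_right j).eq)
    obtain ⟨c, hc⟩ : Nat.card {x : G // IsConj (v ^ j) x} ∣ Nat.card G / r := by
      have h1 := Subgroup.card_mul_index (Subgroup.centralizer ({v ^ j} : Set G))
      have hr0 : 0 < r := Nat.pos_of_dvd_of_pos hr Nat.card_pos
      obtain ⟨c, hc⟩ := hle
      rw [card_conjClass_eq_index, ← h1, hc, mul_assoc, Nat.mul_div_cancel_left _ hr0]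
      exact dvd_mul_left _ _
    have h2 := (isIntegral_algebraMap (R := ℤ) (A := ℂ) (x := (c : ℤ))).mul h
    rw [hc, show ((((Nat.card {x : G // IsConj (v ^ j) x}) * c : ℕ) : ℂ) * (χ : G → ℂ) (v ^ j) /
      (charDegree (χ : G → ℂ) : ℂ)) = algebraMap ℤ ℂ (c : ℤ) * ((Nat.card {x : G // IsConj (v ^ j) x} : ℂ) *
        (χ : G → ℂ) (v ^ j) / (charDegree (χ : G → ℂ) : ℂ)) by simp only [map_natCast, Nat.cast_mul]; ring]
    exact h2
  have h2 : IsIntegral ℤ ((((Nat.card G / r : ℕ) : ℚ) * S / (charDegree (χ : G → ℂ) : ℚ) : ℚ) : ℂ) := by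
    have h3 := IsIntegral.sum (fun j => ((Nat.card G / r : ℕ) : ℂ) * (χ : G → ℂ) (v ^ j) /
      (charDegree (χ : G → ℂ) : ℂ)) (s := Finset.range q) (fun j _ => hint j)
    rw [← Finset.sum_div, ← Finset.mul_sum, hS] at h3
    push_cast
    exact h3
  obtain ⟨w, hw⟩ := isIntegral_rat_cast_imp h2
  rw [eq_div_iff (Nat.cast_ne_zero.2 (deg_pos χ.2).ne')] at hw
  generalize Nat.card G / r = N at hw ⊢
  exact ⟨w, by rw [mul_comm _ w]; exact_mod_cast hw.symm⟩

/-- The data of the principal block. -/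
structure Blk (P : Sylow 23 G) [Fact (Nat.Prime 23)] (e : ℕ) (M : Ideal AlgInt) (X Y : Finset (IrrCharacter G))
    (a : IrrCharacter G → ℤ) (δ : ℤ) : Prop where
  modular : IsPModular 23 M
  frob : FrobSylow P e
  pp : PrimePrincipal M P e X Y a δ

local instance fact_twentyThree : Fact (Nat.Prime 23) := ⟨by norm_num⟩

variable {P : Sylow 23 G} {e : ℕ} {M : Ideal AlgInt} {X Y : Finset (IrrCharacter G)}
  {a : IrrCharacter G → ℤ} {δ : ℤ}

/-- The split of a character of the block at an element of prime order centralising the Sylow subgroup. -/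
theorem Blk.split (B : Blk P e M X Y a δ) (hP : Nat.card P = 23) {χ : IrrCharacter G} (hχ : χ ∈ X ∨ χ ∈ Y)
    {y : G} (hy : y ∈ (P : Subgroup G)) (hy1 : y ≠ 1) {q : ℕ} (hq : q.Prime) (hq23 : q ≠ 23) {v : G}
    (hv : v ^ q = 1) (hc : v * y = y * v) {S : ℤ}
    (hS : ∑ j ∈ Finset.range q, (χ : G → ℂ) (v ^ j) = (S : ℂ)) :
    ((23 * q : ℕ) : ℤ) ∣ S - (q : ℤ) * (charDegree (χ : G → ℂ) : ℤ) := by
  classical
  have hcy : Commute y v := hc.symm
  have hy23 : y ^ 23 = 1 := by
    rw [← hP]; exact congrArg Subtype.val (pow_card_eq_one' (x := (⟨y, hy⟩ : ↥(P : Subgroup G))))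
  have hoy : orderOf y = 23 := orderOf_eq_prime hy23 hy1
  have hconst : ∀ i j : ℕ, i < 23 → i ≠ 0 → (χ : G → ℂ) (y ^ i * v ^ j) = (χ : G → ℂ) (y ^ i) := by
    intro i j hi hi0
    have hyi : y ^ i ≠ 1 := fun h => by
      have := Nat.le_of_dvd (by omega) (hoy ▸ orderOf_dvd_of_pow_eq_one h)
      omega
    have hm : v ^ j ∈ Subgroup.centralizer ({y ^ i} : Set G) :=
      Subgroup.mem_centralizer_singleton_iff.2 (hcy.symm.pow_pow j i).eq
    refine B.frob.principal_const B.modular ((B.pp.mem_iff χ).2 hχ) (y := ⟨y ^ i, pow_mem hy i⟩) hyi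
      ⟨v ^ j, hm⟩ ?_
    rw [Subgroup.orderOf_mk]
    intro h23
    have h2 : orderOf (v ^ j) ∣ q := orderOf_dvd_of_pow_eq_one (by rw [← pow_mul, mul_comm, pow_mul, hv, one_pow])
    exact hq23 ((Nat.prime_dvd_prime_iff_eq (by norm_num) hq).1 (h23.trans h2)).symm
  have hco : Nat.Coprime 23 q := (Nat.coprime_primes (by norm_num) hq).2 (Ne.symm hq23)
  have hg : (y * v) ^ (23 * q) = 1 := by
    rw [hcy.mul_pow, pow_mul, hy23, one_pow, one_mul, mul_comm 23, pow_mul, hv, one_pow]
  obtain ⟨T, hT⟩ := mult_nat (irr_isCharacter χ.2) (n := 23 * q) (Nat.mul_ne_zero (by norm_num) hq.ne_zero)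
    hg (ζ := 1) (one_pow _)
  obtain ⟨Ty, hTy⟩ := mult_nat (irr_isCharacter χ.2) (n := 23) (by norm_num) hy23 (ζ := 1) (one_pow _)
  simp only [one_pow, one_mul] at hT hTy
  have hinj : Set.InjOn (fun i : ℕ => (i % 23, i % q)) (Finset.range (23 * q) : Set ℕ) := by
    intro i hi j hj hij
    simp only [Finset.coe_range, Set.mem_Iio, Prod.mk.injEq] at hi hj hij
    exact ((Nat.modEq_and_modEq_iff_modEq_mul hco).1 hij).eq_of_lt_of_lt hi hj
  have himg : (Finset.range (23 * q)).image (fun i : ℕ => (i % 23, i % q)) = Finset.range 23 ×ˢ Finset.range q := by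
    refine Finset.eq_of_subset_of_card_le (fun x hx => ?_) ?_
    · obtain ⟨i, -, rfl⟩ := Finset.mem_image.1 hx
      exact Finset.mem_product.2 ⟨Finset.mem_range.2 (Nat.mod_lt _ (by norm_num)),
        Finset.mem_range.2 (Nat.mod_lt _ hq.pos)⟩
    · rw [Finset.card_image_of_injOn hinj]; simp
  have hsum : ∑ i ∈ Finset.range (23 * q), (χ : G → ℂ) ((y * v) ^ i) =
      ∑ a ∈ Finset.range 23, ∑ b ∈ Finset.range q, (χ : G → ℂ) (y ^ a * v ^ b) := by
    rw [← Finset.sum_product', ← himg, Finset.sum_image hinj]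
    refine Finset.sum_congr rfl fun i _ => ?_
    rw [hcy.mul_pow, pow_eq_pow_mod i hy23, pow_eq_pow_mod i hv]
  rw [hsum, show (23 : ℕ) = 22 + 1 from rfl, Finset.sum_range_succ'] at hT
  rw [show (23 : ℕ) = 22 + 1 from rfl, Finset.sum_range_succ'] at hTy
  simp only [pow_zero, one_mul, hS, val_one] at hT hTy
  rw [Finset.sum_congr rfl fun i hi => Finset.sum_congr rfl fun j _ =>
    hconst (i + 1) j (by have := Finset.mem_range.1 hi; omega) (by omega)] at hT
  simp only [Finset.sum_const, Finset.card_range, nsmul_eq_mul, ← Finset.mul_sum] at hT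
  refine ⟨(T : ℤ) - Ty, ?_⟩
  have hE : ((S - (q : ℤ) * (charDegree (χ : G → ℂ) : ℤ) : ℤ) : ℂ) =
      (((23 * q : ℕ) : ℤ) * ((T : ℤ) - Ty) : ℤ) := by
    push_cast at hT hTy ⊢
    linear_combination hT - (q : ℂ) * hTy
  exact_mod_cast hE

/-- If there are twenty-four Sylow subgroups, the Sylow subgroup is self-centralising. -/
theorem cent_regular (P : Sylow 23 G) (hP : Nat.card P = 23) (hn : Nat.card (Sylow 23 G) = 24) :
    centCard 23 P ≤ 23 := by
  classical
  haveI := Fintype.ofFinite (Sylow 23 G)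
  have hne : ∃ Q : Sylow 23 G, Q ≠ P := by
    by_contra hcon
    push Not at hcon
    haveI : Subsingleton (Sylow 23 G) := ⟨fun a b => (hcon a).trans (hcon b).symm⟩
    have := Finite.card_le_one_iff_subsingleton.2 (inferInstance : Subsingleton (Sylow 23 G))
    omega
  obtain ⟨Q, hQ⟩ := hne
  have hker : (MulAction.toPermHom G (Sylow 23 G)).ker = ⊥ := by
    refine (IsSimpleGroup.eq_bot_or_eq_top_of_normal _ inferInstance).resolve_right fun h => hQ ?_
    obtain ⟨g, hg⟩ := MulAction.exists_smul_eq G P Q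
    have h1 : (MulAction.toPermHom G (Sylow 23 G)) g = 1 :=
      MonoidHom.mem_ker.1 (h ▸ Subgroup.mem_top g)
    have h2 : g • P = P := Equiv.congr_fun h1 P
    rw [h2] at hg
    exact hg.symm
  -- the orbit of `Q` under `P` is everything but `P`
  have horb : ∀ R : Sylow 23 G, R ≠ P → ∃ y ∈ (P : Subgroup G), y • Q = R := by
    have hmove : ∀ y : G, y ∈ (P : Subgroup G) → y • Q = Q → y = 1 := by
      intro y hy hyQ
      by_contra hy1
      have ho : orderOf y = 23 := by
        have h := (P : Subgroup G).orderOf_dvd_natCard hy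
        rw [show Nat.card (P : Subgroup G) = 23 from hP] at h
        rcases (Nat.dvd_prime (by norm_num)).1 h with h' | h'
        · exact absurd (orderOf_eq_one_iff.1 h') hy1
        · exact h'
      have hyQ' := mem_of_normalizes Q (k := 1) (by rw [ho, pow_one])
        (Sylow.smul_eq_iff_mem_normalizer.1 hyQ)
      apply hQ
      apply Sylow.ext
      have h1 : Subgroup.zpowers y = (P : Subgroup G) := Subgroup.eq_of_le_of_card_ge
        (Subgroup.zpowers_le.2 hy) (by rw [Nat.card_zpowers, ho]; exact hP.le)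
      have h2 : Subgroup.zpowers y = (Q : Subgroup G) := Subgroup.eq_of_le_of_card_ge
        (Subgroup.zpowers_le.2 hyQ') (by
          rw [Nat.card_zpowers, ho, Q.card_eq_multiplicity, ← P.card_eq_multiplicity, hP])
      exact h2.symm.trans h1
    let f : ↥(P : Subgroup G) → {R : Sylow 23 G // R ≠ P} := fun y => ⟨(y : G) • Q, fun h => by
      apply hQ
      have h3 : Q = (y : G)⁻¹ • P :=
        (inv_smul_smul (y : G) Q).symm.trans (congrArg ((y : G)⁻¹ • ·) h)
      rw [h3]
      exact Sylow.smul_eq_iff_mem_normalizer.2 (Subgroup.le_normalizer ((P : Subgroup G).inv_mem y.2))⟩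
    have hinj : Function.Injective f := by
      intro a b hab
      have h : ((b : G)⁻¹ * a) • Q = Q := by
        have hab' : (a : G) • Q = (b : G) • Q := congrArg Subtype.val hab
        rw [mul_smul, hab', inv_smul_smul]
      exact Subtype.ext (inv_mul_eq_one.1 (hmove _ ((P : Subgroup G).mul_mem
        ((P : Subgroup G).inv_mem b.2) a.2) h)).symm
    have hsurj : Function.Surjective f := by
      refine (Nat.bijective_iff_injective_and_card f).2 ⟨hinj, ?_⟩ |>.2
      rw [show Nat.card (P : Subgroup G) = 23 from hP, Nat.card_eq_fintype_card,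
        Fintype.card_subtype_compl, Fintype.card_subtype_eq, ← Nat.card_eq_fintype_card, hn]
    intro R hR
    obtain ⟨y, hy⟩ := hsurj ⟨R, hR⟩
    exact ⟨y, y.2, congrArg Subtype.val hy⟩
  let g : Subgroup.centralizer ((P : Subgroup G) : Set G) → {R : Sylow 23 G // R ≠ P} :=
    fun c => ⟨(c : G) • Q, fun h => hQ (by
      have h3 : Q = (c : G)⁻¹ • P :=
        (inv_smul_smul (c : G) Q).symm.trans (congrArg ((c : G)⁻¹ • ·) h)
      rw [h3]
      exact Sylow.smul_eq_iff_mem_normalizer.2 (Subgroup.centralizer_le_normalizer _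
        ((Subgroup.centralizer _).inv_mem c.2)))⟩
  have hg : Function.Injective g := by
    intro a b hab
    set d := (b : G)⁻¹ * a with hd
    have hdC : d ∈ Subgroup.centralizer ((P : Subgroup G) : Set G) :=
      mul_mem (inv_mem b.2) a.2
    have hab' : (a : G) • Q = (b : G) • Q := congrArg Subtype.val hab
    have hdQ : d • Q = Q := by rw [hd, mul_smul, hab', inv_smul_smul]
    have hd1 : d = 1 := by
      rw [← Subgroup.mem_bot, ← hker, MonoidHom.mem_ker]
      refine Equiv.ext fun R => ?_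
      show d • R = R
      by_cases hR : R = P
      · rw [hR]; exact Sylow.smul_eq_iff_mem_normalizer.2 (Subgroup.centralizer_le_normalizer _ hdC)
      · obtain ⟨y, hy, rfl⟩ := horb R hR
        rw [← mul_smul, ← Subgroup.mem_centralizer_iff.1 hdC y hy, mul_smul, hdQ]
    exact Subtype.ext (inv_mul_eq_one.1 hd1).symm
  have := Nat.card_le_card_of_injective g hg
  rw [Nat.card_eq_fintype_card (α := {R : Sylow 23 G // R ≠ P}),
    Fintype.card_subtype_compl, Fintype.card_subtype_eq, ← Nat.card_eq_fintype_card, hn] at this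
  exact this


/-- An element of order eleven of the normaliser and an involution of the centraliser commute. -/
theorem exists_fixed (P : Sylow 23 G) {e k : ℕ}
    (hk : Nat.card (Subgroup.centralizer ((P : Subgroup G) : Set G)) = 23 * k)
    (he : (Subgroup.centralizer ((P : Subgroup G) : Set G)).relIndex
      (Subgroup.normalizer ((P : Subgroup G) : Set G)) = e) (h11e : 11 ∣ e)
    (hmod : 2 ^ k.factorization 2 % 11 ≠ 1) (hk0 : k ≠ 0) :
    ∃ v f : G, v ∈ Subgroup.centralizer ((P : Subgroup G) : Set G) ∧ orderOf v = 2 ∧ orderOf f = 11 ∧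
      f * v = v * f := by
  classical
  haveI : Fact (Nat.Prime 2) := ⟨Nat.prime_two⟩
  have : Fact (Nat.Prime 11) := ⟨by norm_num⟩
  set C := Subgroup.centralizer ((P : Subgroup G) : Set G)
  set N := Subgroup.normalizer ((P : Subgroup G) : Set G)
  haveI : (C.subgroupOf N).Normal := Subgroup.normal_subgroupOf_centralizer_normalizer _
  set C' := C.subgroupOf N
  obtain ⟨T⟩ := (Sylow.nonempty : Nonempty (Sylow 2 C'))
  set T' : Subgroup N := (T : Subgroup C').map C'.subtype
  set H := Subgroup.normalizer (T' : Set N)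
  have hsup : H ⊔ C' = ⊤ := Sylow.normalizer_sup_eq_top T
  have h11 : 11 ∣ Nat.card H := by
    let ψ : H →* N ⧸ C' := (QuotientGroup.mk' C').comp H.subtype
    have hsur : Function.Surjective ψ := by
      intro x
      obtain ⟨n, rfl⟩ := QuotientGroup.mk'_surjective C' x
      have hn : n ∈ ((H ⊔ C' : Subgroup N) : Set N) := by rw [hsup]; exact Subgroup.mem_top n
      rw [Subgroup.mul_normal] at hn
      obtain ⟨a, ha, c, hc, rfl⟩ := Set.mem_mul.1 hn
      refine ⟨⟨a, ha⟩, (QuotientGroup.eq.2 ?_ : _)⟩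
      simp only [Subgroup.subtype_apply, ← mul_assoc, inv_mul_cancel, one_mul, SetLike.mem_coe] at hc ⊢
      exact hc
    have h := Subgroup.card_dvd_of_surjective ψ hsur
    rw [← Subgroup.index_eq_card, show C'.index = e from he] at h
    exact h11e.trans h
  obtain ⟨f, hf⟩ := exists_prime_orderOf_dvd_card' (G := H) 11 h11
  have hC' : Nat.card C' = 23 * k := by
    rw [Solv.card_subgroupOf (Subgroup.centralizer_le_normalizer _), hk]
  have hT : Nat.card T' = 2 ^ k.factorization 2 := by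
    rw [Subgroup.card_map_of_injective C'.subtype_injective, T.card_eq_multiplicity, hC',
      Nat.factorization_mul (by norm_num) hk0, Finsupp.add_apply,
      Nat.factorization_eq_zero_of_not_dvd (by norm_num : ¬ 2 ∣ 23), zero_add]
  set A : Subgroup G := T'.map N.subtype
  have hA : Nat.card A = 2 ^ k.factorization 2 := by
    rw [Subgroup.card_map_of_injective N.subtype_injective, hT]
  have hAC : A ≤ C := by
    rintro _ ⟨x, ⟨c, -, rfl⟩, rfl⟩
    exact c.2
  have hfo : orderOf ((f : N) : G) = 11 := by rw [Subgroup.orderOf_coe, Subgroup.orderOf_coe, hf]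
  have hnorm : ∀ x ∈ A, ((f : N) : G) * x * ((f : N) : G)⁻¹ ∈ A := by
    rintro _ ⟨x, hx, rfl⟩
    exact ⟨(f : N) * x * (f : N)⁻¹, (Subgroup.mem_normalizer_iff.1 f.2 x).1 hx, by simp⟩
  have hfix := modEq_cent (p := 11) (k := 1) (x := ((f : N) : G))
    (by rw [pow_one, ← hfo, pow_orderOf_eq_one]) A hnorm
  set F := A ⊓ Subgroup.centralizer ({((f : N) : G)} : Set G)
  have hne : Nat.card F ≠ 1 := fun h => hmod (by
    rw [h, hA] at hfix
    exact (show _ % 11 = 1 % 11 from hfix))
  have hdvd : 2 ∣ Nat.card F := by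
    obtain ⟨i, -, hi⟩ := (Nat.dvd_prime_pow Nat.prime_two).1 (hA ▸ Subgroup.card_dvd_of_le (inf_le_left : F ≤ A))
    rcases i with _ | i
    · exact absurd (hi.trans (pow_zero 2)) hne
    · rw [hi]; exact dvd_pow_self 2 (Nat.succ_ne_zero i)
  obtain ⟨v, hv⟩ := exists_prime_orderOf_dvd_card' (G := F) 2 hdvd
  exact ⟨v, ((f : N) : G), hAC v.2.1, by rw [Subgroup.orderOf_coe, hv], hfo,
    (Subgroup.mem_centralizer_singleton_iff.1 v.2.2).symm⟩

/-- An element of order seven of the centraliser with large centraliser. -/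
theorem exists_seven (P : Sylow 23 G) (hP : Nat.card P = 23) {e k : ℕ}
    (hk : Nat.card (Subgroup.centralizer ((P : Subgroup G) : Set G)) = 23 * k)
    (he : (Subgroup.centralizer ((P : Subgroup G) : Set G)).relIndex
      (Subgroup.normalizer ((P : Subgroup G) : Set G)) = e)
    (hk7 : k = 63 ∨ k = 385 ∨ k = 35) :
    ∃ v : G, v ∈ Subgroup.centralizer ((P : Subgroup G) : Set G) ∧ orderOf v = 7 ∧
      23 * k * e ∣ 6 * Nat.card (Subgroup.centralizer ({v} : Set G)) := by
  classical
  haveI : Fact (Nat.Prime 7) := ⟨by norm_num⟩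
  set C := Subgroup.centralizer ((P : Subgroup G) : Set G)
  set N := Subgroup.normalizer ((P : Subgroup G) : Set G)
  haveI : (C.subgroupOf N).Normal := Subgroup.normal_subgroupOf_centralizer_normalizer _
  set C' := C.subgroupOf N
  have hCN : C ≤ N := Subgroup.centralizer_le_normalizer _
  have hC' : Nat.card C' = 23 * k := by rw [Solv.card_subgroupOf hCN, hk]
  have hN : Nat.card N = 23 * k * e := by
    have h := Subgroup.card_mul_index C'
    rw [hC', show C'.index = e from he] at h
    exact h.symm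
  obtain ⟨T⟩ := (Sylow.nonempty : Nonempty (Sylow 7 C'))
  have hTc : Nat.card (T : Subgroup C') = 7 := by
    rw [T.card_eq_multiplicity, hC']
    rcases hk7 with rfl | rfl | rfl
    · rw [show 23 * 63 = 7 * 207 from rfl, Nat.factorization_mul (by norm_num) (by norm_num), Finsupp.add_apply,
        (show Nat.Prime 7 by norm_num).factorization_self, Nat.factorization_eq_zero_of_not_dvd (by norm_num)]
      norm_num
    · rw [show 23 * 385 = 7 * 1265 from rfl, Nat.factorization_mul (by norm_num) (by norm_num), Finsupp.add_apply,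
        (show Nat.Prime 7 by norm_num).factorization_self, Nat.factorization_eq_zero_of_not_dvd (by norm_num)]
      norm_num
    · rw [show 23 * 35 = 7 * 115 from rfl, Nat.factorization_mul (by norm_num) (by norm_num), Finsupp.add_apply,
        (show Nat.Prime 7 by norm_num).factorization_self, Nat.factorization_eq_zero_of_not_dvd (by norm_num)]
      norm_num
  -- the Sylow subgroup of order twenty-three normalises that of order seven
  set H := Subgroup.normalizer ((T : Subgroup C') : Set C')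
  have hPC : (P : Subgroup G) ≤ C := by
    haveI : IsCyclic ↥(P : Subgroup G) := isCyclic_of_prime_card hP
    intro x hx
    refine Subgroup.mem_centralizer_iff.2 fun z hz => ?_
    exact congrArg Subtype.val (mul_comm' (⟨z, hz⟩ : ↥(P : Subgroup G)) ⟨x, hx⟩)
  obtain ⟨y, hy⟩ := exists_prime_orderOf_dvd_card' (G := ↥(P : Subgroup G)) 23 (dvd_of_eq hP.symm)
  let y' : C' := ⟨⟨(y : G), hCN (hPC y.2)⟩, hPC y.2⟩
  have hyo : orderOf y' = 23 := by
    rw [← Subgroup.orderOf_coe y', ← Subgroup.orderOf_coe, show (((y' : N) : G)) = (y : G) from rfl,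
      Subgroup.orderOf_coe, hy]
  have hyH : y' ∈ H := by
    refine Subgroup.mem_normalizer_iff.2 fun x => ?_
    rw [show y' * x * y'⁻¹ = x from ?_]
    refine mul_inv_eq_iff_eq_mul.2 (Subtype.ext (Subtype.ext ?_))
    exact Subgroup.mem_centralizer_iff.1 x.2 (y : G) y.2
  have hH : 7 * 23 ∣ Nat.card H := Nat.Coprime.mul_dvd_of_dvd_of_dvd (by norm_num)
    (hTc ▸ Subgroup.card_dvd_of_le Subgroup.le_normalizer) (hyo ▸ H.orderOf_dvd_natCard hyH)
  have hn : Nat.card (Sylow 7 C') = 1 := by
    have h1 := card_sylow_modEq_one 7 C'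
    have h2 := Subgroup.card_mul_index H
    rw [show H.index = Nat.card (Sylow 7 C') from (Sylow.card_eq_index_normalizer T).symm, hC'] at h2
    obtain ⟨c, hc⟩ := hH
    rw [hc] at h2
    have h1' : Nat.card (Sylow 7 C') % 7 = 1 := h1
    have hd : ∀ m, k = 7 * m → Nat.card (Sylow 7 C') ∣ m := fun m hm => Dvd.intro_left c (by
      rw [hm] at h2; linarith)
    have hb : ∀ m, k = 7 * m → 0 < m → m < 56 → Nat.card (Sylow 7 C') ∈ List.range 56 := fun m hm h0 hlt =>
      List.mem_range.2 (by have := Nat.le_of_dvd h0 (hd m hm); omega)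
    rcases hk7 with rfl | rfl | rfl
    · exact seven_index (63, 9) (by simp) _ (hb 9 rfl (by norm_num) (by norm_num)) (hd 9 rfl) h1'
    · exact seven_index (385, 55) (by simp) _ (hb 55 rfl (by norm_num) (by norm_num)) (hd 55 rfl) h1'
    · exact seven_index (35, 5) (by simp) _ (hb 5 rfl (by norm_num) (by norm_num)) (hd 5 rfl) h1'
  set T' : Subgroup N := (T : Subgroup C').map C'.subtype
  have hHtop : Subgroup.normalizer (T' : Set N) = ⊤ := by
    have hsup : Subgroup.normalizer (T' : Set N) ⊔ C' = ⊤ := Sylow.normalizer_sup_eq_top T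
    rw [← hsup, eq_comm, sup_eq_left]
    haveI : Subsingleton (Sylow 7 C') := (Nat.card_eq_one_iff_unique.1 hn).1
    haveI := T.normal_of_subsingleton
    intro c hc
    refine Subgroup.mem_normalizer_iff.2 fun x => ⟨?_, fun hx => ?_⟩
    · rintro ⟨t, ht, rfl⟩
      exact ⟨⟨c, hc⟩ * t * ⟨c, hc⟩⁻¹, ‹(T : Subgroup C').Normal›.conj_mem t ht _, rfl⟩
    · obtain ⟨t, ht, htx⟩ := hx
      refine ⟨⟨c, hc⟩⁻¹ * t * (⟨c, hc⟩⁻¹)⁻¹, ‹(T : Subgroup C').Normal›.conj_mem t ht _, ?_⟩
      rw [map_mul, map_mul, map_inv, map_inv, htx]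
      simp [mul_assoc]
  set A : Subgroup G := T'.map N.subtype
  have hAc : Nat.card A = 7 := by
    rw [Subgroup.card_map_of_injective N.subtype_injective, Subgroup.card_map_of_injective C'.subtype_injective,
      hTc]
  obtain ⟨v, hv⟩ := exists_prime_orderOf_dvd_card' (G := A) 7 (dvd_of_eq hAc.symm)
  have hvA : Subgroup.zpowers (v : G) = A := Subgroup.eq_of_le_of_card_ge (Subgroup.zpowers_le.2 v.2)
    (by rw [Nat.card_zpowers, Subgroup.orderOf_coe, hv, hAc])
  refine ⟨v, ?_, by rw [Subgroup.orderOf_coe, hv], ?_⟩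
  · obtain ⟨_, ⟨c, -, rfl⟩, hcv⟩ := v.2
    rw [← hcv]
    exact c.2
  have hNA : N ≤ Subgroup.normalizer (A : Set G) := by
    intro g hg
    have h := Subgroup.le_normalizer_map (H := T') N.subtype
      ⟨⟨g, hg⟩, by rw [hHtop]; exact Subgroup.mem_top _, rfl⟩
    exact h
  have h := (Subgroup.card_dvd_of_le hNA).trans (MathieuEleven.normalizer_dvd (by norm_num) hAc)
  rw [hN] at h
  refine h.trans (mul_dvd_mul (dvd_of_eq (by norm_num)) (Subgroup.card_dvd_of_le fun x hx => ?_))
  exact Subgroup.mem_centralizer_singleton_iff.2 (Subgroup.mem_centralizer_iff.1 hx v v.2).symm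

/-- The Sylow subgroup of order twenty-three. -/
theorem exists_twentythree (hG : Nat.card G = 10200960) :
    ∃ P : Sylow 23 G, Nat.card P = 23 ∧ Nat.card (Subgroup.centralizer ((P : Subgroup G) : Set G)) = 23 ∧
      (Subgroup.centralizer ((P : Subgroup G) : Set G)).relIndex
        (Subgroup.normalizer ((P : Subgroup G) : Set G)) = 11 := by
  classical
  obtain ⟨P, n, e, k, hP, hn, hk, hnek, hn1, hne1, he22, he1, he⟩ :=
    data (G := G) (p := 23) (m := 443520) (by rw [hG]) (by norm_num) (by norm_num)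
  have hC : Nat.card (Subgroup.centralizer ((P : Subgroup G) : Set G)) = 23 * k := hk
  have hk0 : k ≠ 0 := by rintro rfl; simp at hnek
  obtain ⟨i, hi⟩ : ∃ i, n = 23 * i + 1 := ⟨n / 23, by omega⟩
  have hel : e = 2 ∨ e = 11 ∨ e = 22 := by
    have : e ≤ 22 := Nat.le_of_dvd (by norm_num) he22
    interval_cases e <;> simp_all
  have hcases := sylow_options (i := i) (by omega) hel (hi ▸ hnek)
  rcases hcases with ⟨rfl, rfl⟩ | rfl | hcase
  · subst hi
    exact ⟨P, hP, by rw [hC]; omega, he⟩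
  · exfalso
    have h : centCard 23 P ≤ 23 := cent_regular P hP (by rw [hn, hi])
    rw [show centCard 23 P = 23 * k from hk] at h
    have hk1 : k = 1 := by omega
    subst hk1 hi
    omega
  exfalso
  obtain ⟨y0, hy0⟩ := SmallOrderGraph.nonOne_nonempty P hP
  set y : G := (y0 : G)
  have hy : y ∈ (P : Subgroup G) := y0.2
  have hy1 : y ≠ 1 := mem_nonOne.1 hy0
  obtain ⟨t, ht, het⟩ : ∃ t, 0 < t ∧ e * t + 1 = 23 := by
    rcases hel with rfl | rfl | rfl
    exacts [⟨11, by norm_num⟩, ⟨2, by norm_num⟩, ⟨1, by norm_num⟩]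
  obtain ⟨M, hM⟩ := exists_pModular (show Nat.Prime 23 by norm_num)
  obtain ⟨X, Y, a, δ, h, h1X, hone, hYc⟩ := Solv.BReyn.exists_principal_one_mem hM hP he (by omega) ht het
  have B : Blk P e M X Y a δ := ⟨hM, he ▸ frobSylow_of_prime hP, h⟩
  have hdX : ∀ χ ∈ X, charDegree (χ : G → ℂ) % 23 = 1 ∨ charDegree (χ : G → ℂ) % 23 = 22 := fun χ hχ => by
    have h2 := (h.a_congr χ hχ).eq
    rcases h.a_sign χ hχ with e' | e' <;> rw [e'] at h2 <;> omega
  have hdY : ∀ θ ∈ Y, ¬ 23 ∣ charDegree (θ : G → ℂ) ∧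
      (e ≠ 2 → charDegree (θ : G → ℂ) % 23 ∈ [1, 22, 11, 12]) ∧
      (e = 22 → charDegree (θ : G → ℂ) % 23 ∈ [1, 22]) := fun θ hθ => by
    have h2 := (h.congrY θ hθ).eq
    rcases h.sign with e' | e' <;> rw [e'] at h2 <;> rcases hel with rfl | rfl | rfl <;>
      refine ⟨by omega, fun he2 => ?_, fun he2 => ?_⟩ <;>
        simp only [List.mem_cons, List.not_mem_nil, or_false] <;> omega
  have hYne : ∀ θ ∈ Y, θ ≠ oneChar := fun θ hθ e1 => Finset.disjoint_left.1 h.disj h1X (by subst e1; exact hθ)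
  obtain ⟨θ, hθ⟩ : Y.Nonempty := Finset.card_pos.1 (by omega)
  have hrel : δ * (charDegree (θ : G → ℂ) : ℤ) = 1 + ∑ χ ∈ X.erase oneChar, a χ * (charDegree (χ : G → ℂ) : ℤ) := by
    have h2 := h.rel θ hθ 1 (by simp)
    rw [← Finset.add_sum_erase X _ h1X, hone] at h2
    simp only [val_one] at h2
    have h3 : ((δ * (charDegree (θ : G → ℂ) : ℤ) : ℤ) : ℂ) =
        ((1 + ∑ χ ∈ X.erase oneChar, a χ * (charDegree (χ : G → ℂ) : ℤ) : ℤ) : ℂ) := by
      push_cast at h2 ⊢
      simp only [oneChar, charDegree] at h2 ⊢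
      simpa using h2
    exact_mod_cast h3
  have hXd : ∀ χ ∈ X.erase oneChar, charDegree (χ : G → ℂ) ∈ dEven := fun χ hχ =>
    deg_mem hG (Finset.mem_erase.1 hχ).1 fun h23 => by
      have := hdX χ (Finset.mem_erase.1 hχ).2
      omega
  have hYd : charDegree (θ : G → ℂ) ∈ dEven := deg_mem hG (hYne θ hθ) (hdY θ hθ).1
  have hyC : ∀ v ∈ Subgroup.centralizer ((P : Subgroup G) : Set G), v * y = y * v := fun v hv =>
    (Subgroup.mem_centralizer_iff.1 hv y hy).symm
  -- the facts at an involution centralising the Sylow subgroup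
  have hadm2 : ∀ v ∈ Subgroup.centralizer ((P : Subgroup G) : Set G), orderOf v = 2 →
      ∀ χ : IrrCharacter G, χ ≠ oneChar → (χ ∈ X ∨ χ ∈ Y) → ∃ z : ℤ, (χ : G → ℂ) v = z ∧
        z.natAbs < charDegree (χ : G → ℂ) ∧ ((charDegree (χ : G → ℂ) : ℤ) - z) % 92 = 0 := by
    intro v hvC hv χ hne hmem
    obtain ⟨z, hz, h4, hlt⟩ := SmallOrderGraph.invol_value (na hG) hne hv
    have h46 := B.split hP hmem hy hy1 (q := 2) Nat.prime_two (by norm_num) (v := v)
      (by rw [← hv]; exact pow_orderOf_eq_one v) (hyC v hvC) (S := (charDegree (χ : G → ℂ) : ℤ) + z) (by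
        simp only [Finset.sum_range_succ, Finset.sum_range_zero, pow_zero, pow_one, val_one, hz]
        push_cast; ring)
    refine ⟨z, hz, hlt, ?_⟩
    norm_num at h46
    omega
  -- the facts at an element of order seven centralising the Sylow subgroup
  have hseven : k = 63 ∨ k = 385 ∨ k = 35 → ∀ (r cl : ℕ), (∀ c : ℕ, 23 * k * e ∣ 6 * c → r ∣ c) →
      10200960 / r = cl → ∀ χ : IrrCharacter G, χ ≠ oneChar → (χ ∈ X ∨ χ ∈ Y) →
        (charDegree (χ : G → ℂ), cl) ∈ [(22, 21120), (45, 21120), (22, 1152), (45, 1152), (231, 1152)] → False := by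
    intro hk7 r cl hr hcl χ hne hmem hlist
    obtain ⟨v, hvC, hv, hdiv⟩ := exists_seven P hP hC he hk7
    obtain ⟨m, hm, hlt⟩ := exists_fix hG hne (q := 7) (by norm_num) hv
    have hS : ∑ j ∈ Finset.range 7, (χ : G → ℂ) (v ^ j) = ((7 * (m : ℤ) : ℤ) : ℂ) := by
      rw [hm]; push_cast; norm_num
    have h161 := B.split hP hmem hy hy1 (q := 7) (by norm_num) (by norm_num) (v := v)
      (by rw [← hv]; exact pow_orderOf_eq_one v) (hyC v hvC) hS
    have hcd := fix_class_dvd χ hS (hr _ hdiv)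
    rw [hG, hcl] at hcd
    refine seven_table _ hlist m (List.mem_range.2 hlt) ?_ (Int.emod_eq_zero_of_dvd hcd)
    norm_num at h161
    omega
  rcases hcase with ⟨rfl, hk2⟩ | hk11
  · -- automiser of order two
    obtain ⟨χ, hsing⟩ : ∃ χ, X.erase oneChar = {χ} :=
      Finset.card_eq_one.1 ((Finset.card_erase_of_mem h1X).trans (by rw [h.cardX]))
    obtain ⟨hne, hχX⟩ := Finset.mem_erase.1 (show χ ∈ X.erase oneChar by rw [hsing]; simp)
    rw [hsing, Finset.sum_singleton] at hrel
    have hd : charDegree (χ : G → ℂ) = 22 ∨ charDegree (χ : G → ℂ) = 45 := by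
      refine two_degree _ (hXd χ (by rw [hsing]; simp)) (a χ) ?_ ?_ _ hYd δ ?_ ?_ hrel
      · rcases h.a_sign χ hχX with h' | h' <;> simp [h']
      · exact Int.emod_eq_zero_of_dvd (Int.modEq_iff_dvd.1 (h.a_congr χ hχX).symm)
      · rcases h.sign with h' | h' <;> simp [h']
      · exact Int.emod_eq_zero_of_dvd (Int.modEq_iff_dvd.1 (h.congrY θ hθ).symm)
    rcases hk2 with h2 | hk7
    · obtain ⟨v, hvC, hv⟩ := exists_invol _ (hC ▸ dvd_mul_of_dvd_right h2 23)
      obtain ⟨z, -, hlt, h92⟩ := hadm2 v hvC hv χ hne (Or.inl hχX)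
      exact small_invol _ (by simpa using hd) z (mem_valRange hlt) hlt h92
    · simp only [List.mem_cons, List.not_mem_nil, or_false] at hk7
      rcases hk7 with hk7 | hk7
      · refine hseven (Or.inl hk7) 483 21120 (fun c hc => ?_) (by norm_num) χ hne (Or.inl hχX) ?_
        · rw [hk7] at hc; omega
        · rcases hd with e' | e' <;> rw [e'] <;> simp
      · refine hseven (Or.inr (Or.inl hk7)) 8855 1152 (fun c hc => ?_) (by norm_num) χ hne (Or.inl hχX) ?_
        · rw [hk7] at hc; omega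
        · rcases hd with e' | e' <;> rw [e'] <;> simp
  -- automiser of order eleven or twenty-two: all degrees of the block are even
  suffices heven : ∀ χ : IrrCharacter G, χ ≠ oneChar → (χ ∈ X ∨ χ ∈ Y) → charDegree (χ : G → ℂ) % 2 = 0 by
    have h1 : (2 : ℤ) ∣ δ * (charDegree (θ : G → ℂ) : ℤ) :=
      Dvd.dvd.mul_left (Int.natCast_dvd_natCast.2 (Nat.dvd_of_mod_eq_zero (heven θ (hYne θ hθ) (Or.inr hθ)))) _
    have h2 : (2 : ℤ) ∣ ∑ χ ∈ X.erase oneChar, a χ * (charDegree (χ : G → ℂ) : ℤ) :=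
      Finset.dvd_sum fun χ hχ => Dvd.dvd.mul_left (Int.natCast_dvd_natCast.2 (Nat.dvd_of_mod_eq_zero
        (heven χ (Finset.mem_erase.1 hχ).1 (Or.inl (Finset.mem_erase.1 hχ).2)))) _
    omega
  intro χ hne hmem
  by_contra hodd
  have he2 : e ≠ 2 := by rcases hk11 with ⟨rfl | rfl, -⟩ | ⟨rfl, -⟩ <;> norm_num
  have hmem' : charDegree (χ : G → ℂ) ∈ dEven := by
    rcases hmem with hX | hY
    · exact hXd χ (Finset.mem_erase.2 ⟨hne, hX⟩)
    · exact deg_mem hG hne (hdY χ hY).1
  have hdl : charDegree (χ : G → ℂ) ∈ [11, 35, 45, 231, 495] := by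
    refine odd_degree _ hmem' ?_ (by omega)
    rcases hmem with hX | hY
    · rcases hdX χ hX with e' | e' <;> rw [e'] <;> simp
    · exact (hdY χ hY).2.1 he2
  rcases hk11 with ⟨he11, hklist⟩ | ⟨rfl, hk35⟩
  · have hfac : 2 ^ k.factorization 2 % 11 ≠ 1 := by
      have hl : 1 ≤ k.factorization 2 ∧ k.factorization 2 < 10 := by
        refine ⟨(Nat.prime_two.pow_dvd_iff_le_factorization hk0).1 ?_, ?_⟩
        · simp only [List.mem_cons, List.not_mem_nil, or_false] at hklist
          rcases hklist with rfl | rfl | rfl | rfl | rfl | rfl | rfl <;> norm_num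
        · by_contra h10
          have h16 := (Nat.prime_two.pow_dvd_iff_le_factorization hk0).2 (not_lt.1 h10)
          simp only [List.mem_cons, List.not_mem_nil, or_false] at hklist
          rcases hklist with rfl | rfl | rfl | rfl | rfl | rfl | rfl <;> norm_num at h16
      obtain ⟨h1, h10⟩ := hl
      generalize k.factorization 2 = j at h1 h10 ⊢
      interval_cases j <;> norm_num
    obtain ⟨v, f, hvC, hv, hf, hfv⟩ :=
      exists_fixed P hC he (by rcases he11 with rfl | rfl <;> norm_num) hfac hk0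
    obtain ⟨z, hz, hlt, h92⟩ := hadm2 v hvC hv χ hne hmem
    refine odd_invol _ hdl z (mem_valRange hlt) hlt h92 ?_
    have hoy : orderOf y = 23 := by
      have h' := (P : Subgroup G).orderOf_dvd_natCard hy
      rw [show Nat.card (P : Subgroup G) = 23 from hP] at h'
      exact ((Nat.dvd_prime (by norm_num)).1 h').resolve_left fun h' => hy1 (orderOf_eq_one_iff.1 h')
    have m1 : ∀ x : G, x * v = v * x → orderOf x ∣ Nat.card (Subgroup.centralizer ({v} : Set G)) := fun x hx =>
      (Subgroup.centralizer ({v} : Set G)).orderOf_dvd_natCard (Subgroup.mem_centralizer_singleton_iff.2 hx)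
    have h253 : 253 ∣ Nat.card (Subgroup.centralizer ({v} : Set G)) :=
      Nat.Coprime.mul_dvd_of_dvd_of_dvd (by norm_num : Nat.Coprime 11 23) (hf ▸ m1 f hfv)
        (hoy ▸ m1 y (hyC v hvC).symm)
    have hcd := fix_class_dvd χ (q := 2) (S := (charDegree (χ : G → ℂ) : ℤ) + z) (by
      simp only [Finset.sum_range_succ, Finset.sum_range_zero, pow_zero, pow_one, val_one, hz]
      push_cast; ring) h253
    rw [hG, show 10200960 / 253 = 40320 from rfl, mul_add] at hcd
    exact Int.emod_eq_zero_of_dvd ((dvd_add_right (dvd_mul_left _ _)).1 hcd)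
  · refine hseven (Or.inr (Or.inr hk35)) 8855 1152 (fun c hc => ?_) (by norm_num) χ hne hmem ?_
    · rw [hk35] at hc; omega
    · have h2 : charDegree (χ : G → ℂ) ∈ [45, 231] := by
        refine odd_degree_max _ hdl ?_
        rcases hmem with hX | hY
        · rcases hdX χ hX with e' | e' <;> rw [e'] <;> simp
        · exact (hdY χ hY).2.2 rfl
      simp only [List.mem_cons, List.not_mem_nil, or_false] at h2
      rcases h2 with e' | e' <;> rw [e'] <;> simp

end Cfsg.Agent.MTwentyThree.ByOrder
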