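import Cfsg.Agent.Lib.Spor.MTwentyThreeOrder.Seven
import Cfsg.Agent.Lib.Spor.MTwentyThreeOrder.SylowTwentyThree
import Cfsg.Agent.Lib.Spor.MTwentyThreeNse.Iso

/-!
The centraliser data following from the two self-centralising Sylow subgroups, and the conclusion from the
character data of a simple group of the order of the Mathieu group of degree twenty-three.
-/

set_option autoImplicit false
set_option linter.unusedSectionVars false
set_option linter.style.haveILetI false

namespace Cfsg.Agent.MTwentyThree.ByOrder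

universe u

variable {G : Type u} [Group G] [Fintype G]

/-- The centraliser of an element of prime order with a self-centralising Sylow subgroup of that order. -/
theorem cent_of_sylow {p : ℕ} [Fact p.Prime] (hp2 : ¬ p ^ 2 ∣ Nat.card G) {P : Sylow p G} (hP : Nat.card P = p)
    (hC : Nat.card (Subgroup.centralizer ((P : Subgroup G) : Set G)) = p) {y : G} (hy : orderOf y = p) :
    Nat.card (Subgroup.centralizer ({y} : Set G)) = p := by
  haveI : Nontrivial ↥(P : Subgroup G) := Finite.one_lt_card_iff_nontrivial.1 (by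
    rw [show Nat.card ↥(P : Subgroup G) = p from hP]; exact (Fact.out : p.Prime).one_lt)
  obtain ⟨⟨z, hz⟩, hz1⟩ := exists_ne (1 : ↥(P : Subgroup G))
  have ho : orderOf z = p := by
    refine ((Nat.dvd_prime (Fact.out : p.Prime)).1 ?_).resolve_left fun h =>
      hz1 (Subtype.ext (orderOf_eq_one_iff.1 h))
    have := (P : Subgroup G).orderOf_dvd_natCard hz
    rwa [show Nat.card (P : Subgroup G) = p from hP] at this
  have hgen : Subgroup.zpowers z = (P : Subgroup G) := Subgroup.eq_of_le_of_card_ge
    (Subgroup.zpowers_le.2 hz) (by rw [Nat.card_zpowers, ho]; exact hP.le)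
  have hz' : Nat.card (Subgroup.centralizer ({z} : Set G)) = p := by
    rw [← Subgroup.centralizer_closure, ← Subgroup.zpowers_eq_closure, hgen]; exact hC
  obtain ⟨g, hg⟩ := Nse.exists_conj_zpowers hp2 ho hy
  obtain ⟨_, ⟨i, rfl⟩, e⟩ : y ∈ (Subgroup.zpowers z).map (MulAut.conj g).toMonoidHom := hg ▸ Subgroup.mem_zpowers y
  refine Nat.dvd_antisymm ?_ (hy ▸ dvd_cent (Commute.refl y))
  have hle : (Subgroup.centralizer ({z} : Set G)).map (MulAut.conj g).toMonoidHom =
      Subgroup.centralizer ({y} : Set G) := by
    have hzy : Subgroup.zpowers y = (Subgroup.zpowers z).map (MulAut.conj g).toMonoidHom := hg.symm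
    have hcy : Subgroup.centralizer ({y} : Set G) =
        Subgroup.centralizer (((Subgroup.zpowers z).map (MulAut.conj g).toMonoidHom : Subgroup G) : Set G) := by
      rw [← hzy, Subgroup.zpowers_eq_closure, Subgroup.centralizer_closure]
    rw [hcy, MonoidHom.map_zpowers, Subgroup.zpowers_eq_closure, Subgroup.centralizer_closure]
    ext v
    rw [Subgroup.mem_centralizer_singleton_iff, Subgroup.mem_map]
    refine ⟨fun ⟨w, hw, hwv⟩ => ?_, fun hv => ⟨(MulAut.conj g).symm v, ?_, MulEquiv.apply_symm_apply _ _⟩⟩
    · rw [← hwv]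
      exact ((show Commute w z from Subgroup.mem_centralizer_singleton_iff.1 hw).map
        (MulAut.conj g).toMonoidHom).eq
    · refine Subgroup.mem_centralizer_singleton_iff.2 ?_
      have := ((show Commute v _ from hv).map (MulAut.conj g).symm.toMonoidHom).eq
      simpa [mul_assoc] using this
  have h := Nat.card_congr ((Subgroup.centralizer ({z} : Set G)).equivMapOfInjective
    (MulAut.conj g).toMonoidHom (MulAut.conj g).injective).toEquiv
  rw [hle, hz'] at h
  rw [← h]

/-- The centralisers of the elements of order prime to eleven and twenty-three. -/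
theorem cdvd_of_sylow (hG : Nat.card G = 10200960)
    (h11 : ∀ y : G, orderOf y = 11 → Nat.card (Subgroup.centralizer ({y} : Set G)) = 11)
    (h23 : ∀ y : G, orderOf y = 23 → Nat.card (Subgroup.centralizer ({y} : Set G)) = 23)
    (g : G) (hg : g ≠ 1) (ha : ¬ 11 ∣ orderOf g) (hb : ¬ 23 ∣ orderOf g) :
    Nat.card (Subgroup.centralizer ({g} : Set G)) ∣ 40320 := by
  have key : ∀ p : ℕ, p.Prime → (∀ y : G, orderOf y = p → Nat.card (Subgroup.centralizer ({y} : Set G)) = p) →
      ¬ p ∣ orderOf g → ¬ p ∣ Nat.card (Subgroup.centralizer ({g} : Set G)) := by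
    intro p hp hp' hpg h
    haveI := Fact.mk hp
    obtain ⟨y, hy, hc⟩ := Nse.exists_comm h
    have h1 := dvd_cent hc.symm
    rw [hp' y hy] at h1
    rcases (Nat.dvd_prime hp).1 h1 with e | e
    · exact hg (orderOf_eq_one_iff.1 e)
    · exact hpg (e ▸ dvd_rfl)
  have hd : Nat.card (Subgroup.centralizer ({g} : Set G)) ∣ 11 * (23 * 40320) :=
    (Subgroup.card_subgroup_dvd_card _).trans (dvd_of_eq hG)
  exact ((Nat.Prime.coprime_iff_not_dvd (by norm_num)).2 (key 23 (by norm_num) h23 hb)).symm.dvd_of_dvd_mul_left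
    (((Nat.Prime.coprime_iff_not_dvd (by norm_num)).2 (key 11 (by norm_num) h11 ha)).symm.dvd_of_dvd_mul_left hd)

/-- The conclusion from the character data. -/
theorem Cols.isoM23 [IsSimpleGroup G] (K : Cols G) : Cfsg.Spor.IsoM23 G := (Cols.loc K).iso

end Cfsg.Agent.MTwentyThree.ByOrder
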