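import Mathlib

/-!
Numerical facts for the Sylow subgroup of order eleven of a group of the order of the Mathieu group of
degree twenty-three.
-/

set_option autoImplicit false
set_option maxRecDepth 100000

namespace Cfsg.Agent.MTwentyThree.ByOrder.Eleven

/-- Is the target a sum of the given number of members of the list, with repetitions? -/
def reach {A : Type*} [AddCommGroup A] [DecidableEq A] : List A → ℕ → A → Bool
  | [], m, t => m == 0 && decide (t = 0)
  | v :: vs, m, t => (List.range (m + 1)).any fun c => reach vs (m - c) (t - c • v)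

theorem reach_of_multiset {A : Type*} [AddCommGroup A] [DecidableEq A] :
    ∀ (vals : List A) (s : Multiset A), (∀ x ∈ s, x ∈ vals) →
      reach vals (Multiset.card s) s.sum = true
  | [], s, h => by
    have hs : s = 0 := Multiset.eq_zero_of_forall_notMem fun x hx => by simpa using h x hx
    simp [reach, hs]
  | v :: vs, s, h => by
    simp only [reach, List.any_eq_true, List.mem_range]
    refine ⟨s.count v, Nat.lt_succ_of_le (Multiset.count_le_card v s), ?_⟩
    have h1 := Multiset.filter_add_not (fun x => v = x) s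
    rw [Multiset.filter_eq] at h1
    have h2 := congrArg Multiset.card h1
    have h3 := congrArg Multiset.sum h1
    rw [Multiset.card_add, Multiset.card_replicate] at h2
    rw [Multiset.sum_add, Multiset.sum_replicate] at h3
    have h4 := reach_of_multiset vs (s.filter fun x => ¬ v = x) fun x hx => by
      obtain ⟨hx1, hx2⟩ := Multiset.mem_filter.1 hx
      exact (List.mem_cons.1 (h x hx1)).resolve_left (Ne.symm hx2)
    rwa [show s.card - s.count v = (s.filter fun x => ¬ v = x).card by omega,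
      show s.sum - s.count v • v = (s.filter fun x => ¬ v = x).sum by rw [← h3]; abel]

/-- the possible degrees of the non-trivial characters of the principal block -/
def degs (k : ℕ) : List ℕ :=
  (List.range 3195).filter fun d =>
    decide (2 ≤ d) && (927360 / k % d == 0) && [0, 1, 22, 11, 12].contains (d % 23)

/-- the possible values at an involution of the centraliser commuting with an element of order five -/
def zvals (d : ℕ) : List ℤ :=
  ((List.range (2 * d)).map fun i : ℕ => (i : ℤ) - (d : ℤ)).filter fun z =>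
    decide (z.natAbs < d ∧ ((d : ℤ) - z) % 44 = 0 ∧ 185472 * z % (d : ℤ) = 0)

theorem mem_zvals {d : ℕ} {z : ℤ} (h1 : z.natAbs < d) (h2 : ((d : ℤ) - z) % 44 = 0)
    (h3 : 185472 * z % (d : ℤ) = 0) : z ∈ zvals d :=
  List.mem_filter.2 ⟨List.mem_map.2 ⟨(z + d).toNat, List.mem_range.2 (by omega), by omega⟩,
    by simp [h1, h2, h3]⟩

/-- the possible signed degrees with the given residue modulo eleven -/
def sdeg (l : List ℕ) (r : ℤ) : List ℤ :=
  (l.flatMap fun d : ℕ => [(d : ℤ), -(d : ℤ)]).filter fun x => decide ((x - r) % 11 = 0)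

theorem mem_sdeg {l : List ℕ} {r a : ℤ} {d : ℕ} (hd : d ∈ l) (ha : a = 1 ∨ a = -1)
    (h : (a * (d : ℤ) - r) % 11 = 0) : a * (d : ℤ) ∈ sdeg l r :=
  List.mem_filter.2 ⟨List.mem_flatMap.2 ⟨d, hd, by rcases ha with rfl | rfl <;> simp⟩, by simpa using h⟩

/-- the degrees with a possible value at the involution -/
def degsInv (k : ℕ) : List ℕ := (degs k).filter fun d => !(zvals d).isEmpty

theorem mem_degsInv {k d : ℕ} (hd : d ∈ degs k) {z : ℤ} (hz : z ∈ zvals d) : d ∈ degsInv k :=
  List.mem_filter.2 ⟨hd, by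
    cases h : zvals d with
    | nil => rw [h] at hz; simp at hz
    | cons => rfl⟩

/-- the pairs of a signed degree and a weighted square of a value, modulo sixty-four -/
def pairVals (l : List ℤ) (c : ℤ) : List (ℤ × ZMod 64) :=
  (l.flatMap fun x => (zvals x.natAbs).map fun z => (x - (if c = 0 then 0 else 1),
    ((z * z * (77280 / x) - c : ℤ) : ZMod 64))).dedup

theorem mem_pairVals {l : List ℤ} {c x z : ℤ} (hx : x ∈ l) (hz : z ∈ zvals x.natAbs) :
    (x - (if c = 0 then 0 else 1), ((z * z * (77280 / x) - c : ℤ) : ZMod 64)) ∈ pairVals l c :=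
  List.mem_dedup.2 (List.mem_flatMap.2 ⟨x, hx, List.mem_map.2 ⟨z, hz, rfl⟩⟩)

/-- The cases left by the count of Sylow subgroups. -/
def cases : List (ℕ × ℕ) :=
  [(2, 20160), (2, 1680), (2, 448), (2, 360), (2, 140), (2, 96), (2, 63), (2, 30), (2, 8),
    (5, 8064), (5, 672), (5, 144), (5, 56), (5, 12), (5, 1),
    (10, 4032), (10, 336), (10, 72), (10, 28), (10, 6)]

theorem case_table : ((List.range 40321).all fun k => k == 0 || 40320 % k != 0 ||
    [2, 5, 10].all fun e => 927360 % (e * k) != 0 || 927360 / (e * k) % 11 != 1 ||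
      cases.contains (e, k)) = true := by
  decide +kernel

theorem case_options {n e k : ℕ} (he : e = 2 ∨ e = 5 ∨ e = 10) (h : n * e * k = 927360) (hn : n % 11 = 1)
    (h23 : ¬ 23 ∣ k) : (e, k) ∈ cases := by
  have hk0 : k ≠ 0 := by rintro rfl; simp at h
  have hd : k ∣ 40320 :=
    ((show Nat.Prime 23 by norm_num).coprime_iff_not_dvd.2 h23).symm.dvd_of_dvd_mul_left
      ⟨n * e, by linarith⟩
  have hek : 0 < e * k := Nat.mul_pos (by omega) (Nat.pos_of_ne_zero hk0)
  have hq : 927360 / (e * k) = n := by rw [← h, mul_assoc, Nat.mul_div_cancel _ hek]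
  have hm : 927360 % (e * k) = 0 := by rw [← h, mul_assoc, Nat.mul_mod_left]
  have ht := List.all_eq_true.1 case_table k
    (List.mem_range.2 (Nat.lt_succ_of_le (Nat.le_of_dvd (by norm_num) hd)))
  simp [Nat.mod_eq_zero_of_dvd hd, Nat.mod_eq_zero_of_dvd (dvd_refl k), hk0] at ht
  rcases he with rfl | rfl | rfl <;> simp [hq, hm, hn] at ht <;> tauto

theorem two_table : ∀ k ∈ [20160, 1680, 448, 360, 140, 96, 63, 30, 8], ∀ x ∈ sdeg (degs k) 1,
    ∀ y ∈ sdeg (degs k) 2, y = 1 + x →
      (x = 23 ∧ k ∈ [1680, 140, 30, 8]) ∨ (x = 45 ∧ k ∈ [448, 8]) := by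
  decide +kernel

theorem linear_five : ∀ k ∈ [8064, 672, 144], ∀ y ∈ sdeg (degs k) 5,
    reach (sdeg (degs k) 1) 4 (y - 1) = false := by
  decide +kernel

theorem linear_five_inv : ∀ y ∈ sdeg (degsInv 56) 5,
    reach (sdeg (degsInv 56) 1) 4 (y - 1) = false := by
  decide +kernel

theorem linear_ten : ∀ k ∈ [4032, 336, 72, 6], ∀ y ∈ sdeg (degs k) 10,
    reach (sdeg (degs k) 1) 9 (y - 1) = false := by
  decide +kernel

theorem linear_ten_inv : ∀ y ∈ sdeg (degsInv 28) 10,
    reach (sdeg (degsInv 28) 1) 9 (y - 1) = false := by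
  decide +kernel

theorem square_five : ∀ y ∈ pairVals (sdeg (degs 12) 5) 77280,
    reach (pairVals (sdeg (degs 12) 1) 0) 4 y = false := by
  decide +kernel

/-- The element of order five or seven: its fixed space has no possible dimension. -/
theorem rational_table : ∀ x ∈ ([(23, 5), (45, 7)] : List (ℕ × ℕ)), ∀ m : ℕ, m < x.1 →
    ((x.1 : ℤ) - (m : ℕ)) % 11 = 0 → ((x.1 : ℤ) - (m : ℕ)) % (((x.2 : ℕ) : ℤ) - 1) ≠ 0 := by
  decide +kernel

theorem lift_coprime : ∀ q ∈ [5, 7], ∀ j < q, j ≠ 0 →
    ∃ k ∈ [29, 31, 37, 41, 43, 47, 53, 59, 61, 67, 71, 73, 79], k % q = j ∧ Nat.Coprime k 10200960 := by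
  decide +kernel

/-- the possible numbers of Sylow subgroups of a centraliser -/
def sylowNums : List ℕ :=
  [1, 12, 23, 45, 56, 144, 210, 276, 320, 672, 1035, 1288, 2520, 3312, 4830, 7360, 15456, 57960]

theorem nums_table : ((List.range 20161).all fun b => b % 11 != 1 || 20160 % b != 0 ||
    (sylowNums.contains b && sylowNums.contains (23 * b))) = true := by
  decide +kernel

theorem mem_sylowNums {f : ℕ} (h : f ∣ 463680) (h11 : f % 11 = 1) : f ∈ sylowNums := by
  obtain ⟨a, b, ha, hb, rfl⟩ := exists_dvd_and_dvd_of_dvd_mul (show f ∣ 23 * 20160 from h)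
  have hb' : b < 20161 := Nat.lt_succ_of_le (Nat.le_of_dvd (by norm_num) hb)
  rcases (Nat.dvd_prime (by norm_num)).1 ha with rfl | rfl <;>
  · have hb11 : b % 11 = 1 := by omega
    have ht := List.all_eq_true.1 nums_table b (List.mem_range.2 hb')
    simp [hb11, Nat.mod_eq_zero_of_dvd hb] at ht
    simp [ht]

/-- the orders of the centralisers of an involution allowed by the count of Sylow subgroups -/
def centOrders : List ℕ :=
  [22, 44, 88, 176].flatMap fun r => (sylowNums.map (r * ·)).filter fun C => 10200960 % C == 0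

theorem mem_centOrders {r f C : ℕ} (hr : r ∈ [22, 44, 88, 176]) (hC : r * f = C) (hCd : C ∣ 10200960)
    (h11 : f % 11 = 1) : C ∈ centOrders := by
  refine List.mem_flatMap.2 ⟨r, hr, List.mem_filter.2 ⟨List.mem_map.2 ⟨f, ?_, hC⟩,
    by simp [Nat.mod_eq_zero_of_dvd hCd]⟩⟩
  refine mem_sylowNums (Nat.dvd_of_mul_dvd_mul_left (show 0 < 22 by norm_num) ?_) h11
  refine (Nat.mul_dvd_mul_right ?_ f).trans (hC ▸ hCd)
  simp only [List.mem_cons, List.not_mem_nil, or_false] at hr
  rcases hr with rfl | rfl | rfl | rfl <;> norm_num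

/-- The count of factorisations in the section is no integer in the allowed range. -/
theorem count_table : ∀ d ∈ [23, 45], ∀ z ∈ (List.range (2 * d)).map (fun i : ℕ => (i : ℤ) - (d : ℤ)),
    ((d : ℤ) - z) % 44 = 0 → z.natAbs < d → ∀ C ∈ centOrders,
      let num : ℤ := 8 * (((10200960 / C : ℕ) : ℤ) ^ 2) *
        ((d : ℤ) * ((d : ℤ) + 1) + z * z * ((d : ℤ) + 1) - (1 + z) ^ 2 * (d : ℤ))
      let den : ℤ := 10200960 * ((d : ℤ) * ((d : ℤ) + 1))
      num % den = 0 → num < 0 ∨ 1408 * den < num := by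
  decide +kernel

end Cfsg.Agent.MTwentyThree.ByOrder.Eleven
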