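import Cfsg.Agent.Lib.Spor.MTwentyThreeOrder.SylowTwentyThree
import Cfsg.Agent.Lib.Spor.MTwentyThreeOrder.SylowElevenArith
import Cfsg.Agent.Lib.Spor.MTwentyTwoOrder.Sylow
import Cfsg.Agent.Lib.Char.GTwoSpectrum.PairCount
import Cfsg.Agent.Lib.Char.SmallOrderGraph.Block

/-!
A simple group of the order of the Mathieu group of degree twenty-three has a self-centralising Sylow subgroup of
order eleven, with automiser of order five.

The block of the Sylow subgroup of order twenty-three restricts all degrees modulo twenty-three; the linear relation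
of the principal block at eleven then leaves few cases, which are excluded by counting the factorisations of the
elements of the section at an element of order eleven into two conjugate involutions.
-/

set_option autoImplicit false
set_option linter.unusedSectionVars false
set_option linter.style.haveILetI false
set_option maxHeartbeats 1000000

namespace Cfsg.Agent.MTwentyThree.ByOrder.Eleven

open Cfsg Cfsg.Agent.Char Cfsg.Agent.Small.Order459648 Cfsg.Agent.Char.PrimeSylowCount
open Cfsg.Agent.Solv.BReyn (val_one)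
open Cfsg.Agent.MTwentyThree.ByOrder (na fix_class_dvd exists_fix exists_twentythree)
open scoped ComplexConjugate Classical

universe u

variable {G : Type u} [Group G] [Fintype G]

local instance fact_eleven : Fact (Nat.Prime 11) := ⟨by norm_num⟩

section Local

variable {P : Sylow 11 G} {e : ℕ} {M : Ideal AlgInt} {X Y : Finset (IrrCharacter G)}
  {a : IrrCharacter G → ℤ} {δ : ℤ}

/-- The regular elements of the centraliser of an element. -/
noncomputable def regs (y : G) : Finset (Subgroup.centralizer ({y} : Set G)) :=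
  Finset.univ.filter fun w => ¬ 11 ∣ orderOf w

theorem one_mem_regs (y : G) : (1 : Subgroup.centralizer ({y} : Set G)) ∈ regs y := by
  simp [regs]

theorem mem_regs {y : G} {w : Subgroup.centralizer ({y} : Set G)} : w ∈ regs y ↔ ¬ 11 ∣ orderOf w := by
  simp [regs]

/-- The Sylow subgroup is generated by each of its non-trivial elements. -/
theorem cent_eq (hP : Nat.card P = 11) {y : G} (hy : y ∈ (P : Subgroup G)) (hy1 : y ≠ 1) :
    Subgroup.centralizer ({y} : Set G) = Subgroup.centralizer ((P : Subgroup G) : Set G) := by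
  rw [← eq_zpowers_of_prime_sylow hP hy hy1, centralizer_zpowers_eq]

theorem order_eleven (hP : Nat.card P = 11) {y : G} (hy : y ∈ (P : Subgroup G)) (hy1 : y ≠ 1) :
    orderOf y = 11 := by
  have h := (P : Subgroup G).orderOf_dvd_natCard hy
  rw [show Nat.card (P : Subgroup G) = 11 from hP] at h
  exact ((Nat.dvd_prime (by norm_num)).1 h).resolve_left fun h => hy1 (orderOf_eq_one_iff.1 h)

/-- The count of factorisations of the section only involves the principal block. -/
theorem section_count (hM : IsPModular 11 M) (hP : Nat.card P = 11)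
    (h : PrimePrincipal M P e X Y a δ) (hYn : Y.Nonempty) (hf : FrobSylow P e)
    {y : ↥(P : Subgroup G)} (hy : y ∈ nonOne P) {v : G} (hv : v ^ 2 = 1) {θ : IrrCharacter G} (hθ : θ ∈ Y) :
    (Nat.card G : ℂ) * ((∑ w ∈ regs (y : G), (GTwoSpectrum.pairs v ((y : G) * (w : G))).card : ℕ) : ℂ) =
      (Nat.card {x : G // IsConj v x} : ℂ) ^ 2 * ((regs (y : G)).card : ℂ) *
        (∑ χ ∈ X, (a χ : ℂ) * ((χ : G → ℂ) v) ^ 2 / (χ : G → ℂ) 1 -
          (δ : ℂ) * ((θ : G → ℂ) v) ^ 2 / (θ : G → ℂ) 1) := by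
  have hy1 : (y : G) ≠ 1 := mem_nonOne.1 hy
  have hvi : v⁻¹ = v := inv_eq_of_mul_eq_one_right (by rw [← pow_two, hv])
  have hreal : ∀ χ : IrrCharacter G, conj ((χ : G → ℂ) v) = (χ : G → ℂ) v := fun χ => by
    rw [← char_inv (irr_isCharacter χ.2), hvi]
  have hvreg : ¬ 11 ∣ orderOf v := fun h11 => by
    have := Nat.le_of_dvd (by norm_num) (h11.trans (orderOf_dvd_of_pow_eq_one hv))
    omega
  have h1reg : ¬ 11 ∣ orderOf (1 : G) := by simp
  push_cast
  rw [Finset.mul_sum, Finset.sum_congr rfl fun w _ => GTwoSpectrum.pairs_formula v _ hreal,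
    ← Finset.mul_sum, Finset.sum_comm, mul_assoc]
  congr 1
  simp only [← Finset.mul_sum]
  have hin : ∀ χ : IrrCharacter G, χ ∈ principalBlock M G →
      ∑ w ∈ regs (y : G), (χ : G → ℂ) ((y : G) * (w : G)) = ((regs (y : G)).card : ℂ) * (χ : G → ℂ) (y : G) := by
    intro χ hχ
    rw [Finset.sum_congr rfl fun w hw => hf.principal_const hM hχ hy1 w (mem_regs.1 hw),
      Finset.sum_const, nsmul_eq_mul]
  have hsupp : ∀ χ ∈ (Finset.univ : Finset (IrrCharacter G)), χ ∉ X ∪ Y →
      ((χ : G → ℂ) v) ^ 2 / (χ : G → ℂ) 1 * ∑ w ∈ regs (y : G), (χ : G → ℂ) ((y : G) * (w : G)) = 0 := by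
    intro χ _ hχ
    have h0 := hf.nonprincipal_sum_zero hM (fun hb => hχ (Finset.mem_union.2 ((h.mem_iff χ).1 hb))) hy1
    rw [show ∑ w ∈ regs (y : G), (χ : G → ℂ) ((y : G) * (w : G)) = 0 by convert h0 using 2; ext; simp [regs], mul_zero]
  rw [← Finset.sum_subset (Finset.subset_univ (X ∪ Y)) hsupp, Finset.sum_union h.disj,
    Finset.sum_congr rfl (g := fun χ : IrrCharacter G => ((regs (y : G)).card : ℂ) *
      ((a χ : ℂ) * ((χ : G → ℂ) v) ^ 2 / (χ : G → ℂ) 1)) fun χ hχ => by
        rw [hin χ ((h.mem_iff χ).2 (Or.inl hχ)), h.a_val χ hχ y hy]; ring,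
    Finset.sum_congr rfl (s₁ := Y) (g := fun χ : IrrCharacter G => ((regs (y : G)).card : ℂ) *
      (((θ : G → ℂ) v) ^ 2 / (θ : G → ℂ) 1) * (χ : G → ℂ) (y : G)) fun χ hχ => by
        rw [hin χ ((h.mem_iff χ).2 (Or.inr hχ)), h.regY χ hχ θ hθ v hvreg, h.regY χ hχ θ hθ 1 h1reg]; ring,
    ← Finset.mul_sum, ← Finset.mul_sum, Solv.BReyn.sum_exc hM hP h hYn hy]
  ring

/-- An involution factorising an element of the section inverts an element of the Sylow subgroup. -/
theorem pairs_normalize (hP : Nat.card P = 11) {y : G} (hy : y ∈ (P : Subgroup G)) (hy1 : y ≠ 1) {v : G}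
    (hv : v * v = 1) {w : Subgroup.centralizer ({y} : Set G)} (hw : w ∈ regs y) {g : G}
    (hg : g ∈ GTwoSpectrum.pairs v (y * (w : G))) :
    g * g = 1 ∧ g ∈ Subgroup.normalizer ((P : Subgroup G) : Set G) ∧
      g ∉ Subgroup.centralizer ((P : Subgroup G) : Set G) := by
  obtain ⟨hgg, hinv⟩ := GTwoSpectrum.pairs_invert hv hg
  have hcw : Commute y (w : G) := (Subgroup.mem_centralizer_singleton_iff.1 w.2).symm
  set m := orderOf (w : G)
  have hm : ¬ 11 ∣ m := fun h => (Finset.mem_filter.1 hw).2 (by rwa [← Subgroup.orderOf_coe])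
  set x := y ^ m with hx
  have hxP : x ∈ (P : Subgroup G) := pow_mem hy m
  have hx1 : x ≠ 1 := fun h => hm (order_eleven hP hy hy1 ▸ orderOf_dvd_of_pow_eq_one h)
  have hgx : g * x * g⁻¹ = x⁻¹ := by
    have h1 : (y * (w : G)) ^ m = x := by rw [hcw.mul_pow, pow_orderOf_eq_one, mul_one]
    rw [← h1, ← conj_pow, hinv, inv_pow]
  have hgi : g⁻¹ = g := inv_eq_of_mul_eq_one_right hgg
  refine ⟨hgg, ?_, fun hc => ?_⟩
  · rw [← eq_zpowers_of_prime_sylow hP hxP hx1]
    have hmem : ∀ z ∈ Subgroup.zpowers x, g * z * g⁻¹ ∈ Subgroup.zpowers x := by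
      rintro z ⟨j, rfl⟩
      refine ⟨-j, ?_⟩
      show x ^ (-j) = g * x ^ j * g⁻¹
      rw [← conj_zpow, hgx, inv_zpow, zpow_neg]
    refine Subgroup.mem_normalizer_iff.2 fun z => ⟨hmem z, fun hz => ?_⟩
    have h2 := hmem _ hz
    rwa [hgi, show g * (g * z * g) * g = (g * g) * z * (g * g) by group, hgg, one_mul, mul_one] at h2
  · have h1 : g * x * g⁻¹ = x := by
      rw [← Subgroup.mem_centralizer_iff.1 hc x hxP, mul_inv_cancel_right]
    have h2 : x ^ 2 = 1 := by
      rw [pow_two]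
      nth_rewrite 2 [← h1]
      rw [hgx, mul_inv_cancel]
    have := Nat.le_of_dvd (by norm_num) (order_eleven hP hxP hx1 ▸ orderOf_dvd_of_pow_eq_one h2)
    omega

/-- With an automiser of odd order, no element of the section is a product of two conjugate involutions. -/
theorem pairs_empty (hP : Nat.card P = 11)
    (he : (Subgroup.centralizer ((P : Subgroup G) : Set G)).relIndex
      (Subgroup.normalizer ((P : Subgroup G) : Set G)) = 5)
    {y : G} (hy : y ∈ (P : Subgroup G)) (hy1 : y ≠ 1) {v : G} (hv : v * v = 1)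
    {w : Subgroup.centralizer ({y} : Set G)} (hw : w ∈ regs y) :
    GTwoSpectrum.pairs v (y * (w : G)) = ∅ := by
  refine Finset.eq_empty_of_forall_notMem fun g hg => ?_
  obtain ⟨hgg, hgN, hgC⟩ := pairs_normalize hP hy hy1 hv hw hg
  haveI := Subgroup.normal_subgroupOf_centralizer_normalizer ((P : Subgroup G) : Set G)
  have h := Subgroup.pow_index_mem ((Subgroup.centralizer ((P : Subgroup G) : Set G)).subgroupOf
    (Subgroup.normalizer ((P : Subgroup G) : Set G))) ⟨g, hgN⟩
  rw [show ((Subgroup.centralizer ((P : Subgroup G) : Set G)).subgroupOf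
    (Subgroup.normalizer ((P : Subgroup G) : Set G))).index = 5 from he, Subgroup.mem_subgroupOf] at h
  refine hgC ?_
  have h5 : g ^ 5 = g := by rw [show (5 : ℕ) = 2 * 2 + 1 from rfl, pow_succ, pow_mul, pow_two g, hgg, one_pow, one_mul]
  simpa [h5] using h

/-- The count is at most the number of pairs of a regular element and an element of the normaliser. -/
theorem pairs_le (hP : Nat.card P = 11) {y : G} (hy : y ∈ (P : Subgroup G)) (hy1 : y ≠ 1) {v : G}
    (hv : v * v = 1) :
    ∑ w ∈ regs y, (GTwoSpectrum.pairs v (y * (w : G))).card ≤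
      (regs y).card * Nat.card (Subgroup.normalizer ((P : Subgroup G) : Set G)) := by
  rw [← smul_eq_mul]
  refine Finset.sum_le_card_nsmul _ _ _ fun w hw => ?_
  rw [Nat.card_eq_fintype_card, ← Finset.card_univ,
    ← Finset.card_map (Function.Embedding.subtype fun g => g ∈ Subgroup.normalizer ((P : Subgroup G) : Set G))]
  exact Finset.card_le_card fun g hg =>
    Finset.mem_map.2 ⟨⟨g, (pairs_normalize hP hy hy1 hv hw hg).2.1⟩, Finset.mem_univ _, rfl⟩

/-- The regular elements of a centraliser of order eighty-eight. -/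
theorem regs_card {y : G} (hoy : orderOf y = 11)
    (hC : Nat.card (Subgroup.centralizer ({y} : Set G)) = 88) : (regs y).card = 8 := by
  set C := Subgroup.centralizer ({y} : Set G)
  let y' : C := ⟨y, Subgroup.mem_centralizer_singleton_iff.2 rfl⟩
  have hyy : orderOf y' = 11 := by rw [← Subgroup.orderOf_coe]; exact hoy
  have hcent : ∀ c : C, Commute y' c := fun c =>
    Subtype.ext (Subgroup.mem_centralizer_singleton_iff.1 c.2).symm
  have h88 : ∀ c : C, c ^ 88 = 1 := fun c => hC ▸ pow_card_eq_one'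
  have hregs : regs y = Finset.univ.filter fun c : C => c ^ 8 = 1 := by
    refine Finset.filter_congr fun c _ => ⟨fun h => ?_, fun h h11 => ?_⟩
    · have hd : orderOf c ∣ 11 * 8 := orderOf_dvd_of_pow_eq_one (h88 c)
      exact orderOf_dvd_iff_pow_eq_one.1
        (((show Nat.Prime 11 by norm_num).coprime_iff_not_dvd.2 h).symm.dvd_of_dvd_mul_left hd)
    · have := Nat.le_of_dvd (by norm_num) (h11.trans (orderOf_dvd_of_pow_eq_one h))
      omega
  -- the elements of order dividing eleven are the powers of `y`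
  have hsy : ∀ c : C, c ^ 11 = 1 → c ∈ Subgroup.zpowers y' := by
    intro c hc
    have hcard : Nat.card (Subgroup.zpowers y') = 11 := by rw [Nat.card_zpowers, hyy]
    haveI : (Subgroup.zpowers y').Normal := ⟨by
      rintro z ⟨j, rfl⟩ g
      exact ⟨j, by simp [((hcent g).zpow_left j).eq.symm]⟩⟩
    rw [← QuotientGroup.eq_one_iff]
    have hq : Nat.card (C ⧸ Subgroup.zpowers y') = 8 := by
      have := Subgroup.card_eq_card_quotient_mul_card_subgroup (Subgroup.zpowers y')
      rw [hC, hcard] at this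
      omega
    refine orderOf_eq_one_iff.1 (Nat.eq_one_of_dvd_coprimes (by norm_num : Nat.Coprime 11 8)
      (orderOf_dvd_of_pow_eq_one ?_) (hq ▸ orderOf_dvd_natCard _))
    rw [← QuotientGroup.mk_pow, hc, QuotientGroup.mk_one]
  let f : C → Subgroup.zpowers y' × {c : C // c ^ 8 = 1} := fun c =>
    (⟨c ^ 56, hsy _ (by rw [← pow_mul, show 56 * 11 = 88 * 7 from rfl, pow_mul, h88, one_pow])⟩,
      ⟨c ^ 33, by rw [← pow_mul, show 33 * 8 = 88 * 3 from rfl, pow_mul, h88, one_pow]⟩)
  have hf : Function.Bijective f := by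
    refine ⟨fun c d h => ?_, fun ⟨⟨z, hz⟩, ⟨w, hw⟩⟩ => ⟨z * w, ?_⟩⟩
    · have h1 : c ^ 56 = d ^ 56 := congrArg (fun x => (x.1 : C)) h
      have h2 : c ^ 33 = d ^ 33 := congrArg (fun x => (x.2 : C)) h
      calc c = c ^ 56 * c ^ 33 := by rw [← pow_add, show 56 + 33 = 88 + 1 from rfl, pow_succ, h88, one_mul]
        _ = d ^ 56 * d ^ 33 := by rw [h1, h2]
        _ = d := by rw [← pow_add, show 56 + 33 = 88 + 1 from rfl, pow_succ, h88, one_mul]
    · obtain ⟨j, rfl⟩ := hz
      have hc : Commute (y' ^ j) w := (hcent w).zpow_left j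
      have hz11 : (y' ^ j) ^ 11 = 1 := by
        rw [← zpow_natCast, ← zpow_mul, mul_comm, zpow_mul, zpow_natCast, ← hyy, pow_orderOf_eq_one, one_zpow]
      refine Prod.ext (Subtype.ext ?_) (Subtype.ext ?_)
      · show (y' ^ j * w) ^ 56 = y' ^ j
        rw [hc.mul_pow, show 56 = 11 * 5 + 1 from rfl, pow_succ, pow_mul, hz11, one_pow, one_mul,
          show 11 * 5 + 1 = 8 * 7 from rfl, pow_mul, hw, one_pow, mul_one]
      · show (y' ^ j * w) ^ 33 = w
        rw [hc.mul_pow, show 33 = 11 * 3 from rfl, pow_mul, hz11, one_pow, one_mul,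
          show 11 * 3 = 8 * 4 + 1 from rfl, pow_succ, pow_mul, hw, one_pow, one_mul]
  have h := Nat.card_eq_of_bijective f hf
  rw [Nat.card_prod, Nat.card_zpowers, hyy, hC] at h
  rw [hregs, ← Fintype.card_subtype, ← Nat.card_eq_fintype_card]
  exact Nat.eq_of_mul_eq_mul_left (show 0 < 11 by norm_num) (h.symm.trans (by norm_num))

/-- A centraliser containing the Sylow subgroup: its part in the normaliser and its number of Sylow subgroups. -/
theorem cent_split {H : Subgroup G} (hle : (P : Subgroup G) ≤ H) :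
    ∃ f : ℕ, Nat.card ↥(Subgroup.normalizer ((P : Subgroup G) : Set G) ⊓ H) * f = Nat.card H ∧
      f % 11 = 1 := by
  set Q : Sylow 11 H := P.subtype hle
  refine ⟨Nat.card (Sylow 11 H), ?_, card_sylow_modEq_one 11 H⟩
  rw [Sylow.card_eq_index_normalizer Q]
  have h := Subgroup.card_mul_index (Subgroup.normalizer ((Q : Subgroup H) : Set H))
  convert h using 2
  any_goals rfl
  rw [show (Q : Subgroup H) = (P : Subgroup G).subgroupOf H from P.coe_subtype hle,
    ← Subgroup.subgroupOf_normalizer_eq hle, ← Subgroup.inf_subgroupOf_right,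
    Solv.card_subgroupOf inf_le_right]

/-- The split of a character of the block at an element of prime order centralising the Sylow subgroup. -/
theorem split (hM : IsPModular 11 M) (hf : FrobSylow P e) (hP : Nat.card P = 11) {χ : IrrCharacter G}
    (hχ : χ ∈ principalBlock M G) {y : G} (hy : y ∈ (P : Subgroup G)) (hy1 : y ≠ 1) {q : ℕ} (hq : q.Prime)
    (hq11 : q ≠ 11) {v : G} (hv : v ^ q = 1) (hc : v * y = y * v) {S : ℤ}
    (hS : ∑ j ∈ Finset.range q, (χ : G → ℂ) (v ^ j) = (S : ℂ)) :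
    ((11 * q : ℕ) : ℤ) ∣ S - (q : ℤ) * (charDegree (χ : G → ℂ) : ℤ) := by
  have hcy : Commute y v := hc.symm
  have hoy : orderOf y = 11 := order_eleven hP hy hy1
  have hy11 : y ^ 11 = 1 := by rw [← hoy, pow_orderOf_eq_one]
  have hconst : ∀ i j : ℕ, i < 11 → i ≠ 0 → (χ : G → ℂ) (y ^ i * v ^ j) = (χ : G → ℂ) (y ^ i) := by
    intro i j hi hi0
    have hyi : y ^ i ≠ 1 := fun h => by
      have := Nat.le_of_dvd (by omega) (hoy ▸ orderOf_dvd_of_pow_eq_one h)
      omega
    have hm : v ^ j ∈ Subgroup.centralizer ({y ^ i} : Set G) :=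
      Subgroup.mem_centralizer_singleton_iff.2 (hcy.symm.pow_pow j i).eq
    refine hf.principal_const hM hχ (y := ⟨y ^ i, pow_mem hy i⟩) hyi ⟨v ^ j, hm⟩ ?_
    rw [Subgroup.orderOf_mk]
    intro h11
    have h2 : orderOf (v ^ j) ∣ q := orderOf_dvd_of_pow_eq_one (by rw [← pow_mul, mul_comm, pow_mul, hv, one_pow])
    exact hq11 ((Nat.prime_dvd_prime_iff_eq (by norm_num) hq).1 (h11.trans h2)).symm
  have hco : Nat.Coprime 11 q := (Nat.coprime_primes (by norm_num) hq).2 (Ne.symm hq11)
  have hg : (y * v) ^ (11 * q) = 1 := by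
    rw [hcy.mul_pow, pow_mul, hy11, one_pow, one_mul, mul_comm 11, pow_mul, hv, one_pow]
  obtain ⟨T, hT⟩ := MTwelve.OrderFront.mult_nat (irr_isCharacter χ.2) (n := 11 * q)
    (Nat.mul_ne_zero (by norm_num) hq.ne_zero) hg (ζ := 1) (one_pow _)
  obtain ⟨Ty, hTy⟩ := MTwelve.OrderFront.mult_nat (irr_isCharacter χ.2) (n := 11) (by norm_num) hy11
    (ζ := 1) (one_pow _)
  simp only [one_pow, one_mul] at hT hTy
  have hinj : Set.InjOn (fun i : ℕ => (i % 11, i % q)) (Finset.range (11 * q) : Set ℕ) := by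
    intro i hi j hj hij
    simp only [Finset.coe_range, Set.mem_Iio, Prod.mk.injEq] at hi hj hij
    exact ((Nat.modEq_and_modEq_iff_modEq_mul hco).1 hij).eq_of_lt_of_lt hi hj
  have himg : (Finset.range (11 * q)).image (fun i : ℕ => (i % 11, i % q)) = Finset.range 11 ×ˢ Finset.range q := by
    refine Finset.eq_of_subset_of_card_le (fun x hx => ?_) ?_
    · obtain ⟨i, -, rfl⟩ := Finset.mem_image.1 hx
      exact Finset.mem_product.2 ⟨Finset.mem_range.2 (Nat.mod_lt _ (by norm_num)),
        Finset.mem_range.2 (Nat.mod_lt _ hq.pos)⟩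
    · rw [Finset.card_image_of_injOn hinj]; simp
  have hsum : ∑ i ∈ Finset.range (11 * q), (χ : G → ℂ) ((y * v) ^ i) =
      ∑ a ∈ Finset.range 11, ∑ b ∈ Finset.range q, (χ : G → ℂ) (y ^ a * v ^ b) := by
    rw [← Finset.sum_product', ← himg, Finset.sum_image hinj]
    refine Finset.sum_congr rfl fun i _ => ?_
    rw [hcy.mul_pow, pow_eq_pow_mod i hy11, pow_eq_pow_mod i hv]
  rw [hsum, show (11 : ℕ) = 10 + 1 from rfl, Finset.sum_range_succ'] at hT
  rw [show (11 : ℕ) = 10 + 1 from rfl, Finset.sum_range_succ'] at hTy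
  simp only [pow_zero, one_mul, hS, val_one] at hT hTy
  rw [Finset.sum_congr rfl fun i hi => Finset.sum_congr rfl fun j _ =>
    hconst (i + 1) j (by have := Finset.mem_range.1 hi; omega) (by omega)] at hT
  simp only [Finset.sum_const, Finset.card_range, nsmul_eq_mul, ← Finset.mul_sum] at hT
  refine ⟨(T : ℤ) - Ty, ?_⟩
  have hE : ((S - (q : ℤ) * (charDegree (χ : G → ℂ) : ℤ) : ℤ) : ℂ) =
      (((11 * q : ℕ) : ℤ) * ((T : ℤ) - Ty) : ℤ) := by
    push_cast at hT hTy ⊢
    linear_combination hT - (q : ℂ) * hTy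
  exact_mod_cast hE

/-- In an automiser of order two the non-trivial non-exceptional character is rational. -/
theorem rational_two (hM : IsPModular 11 M) (hP : Nat.card P = 11) (hf : FrobSylow P e)
    (h : PrimePrincipal M P e X Y a δ) {χ : IrrCharacter G} (hχ : χ ∈ X) (hX : X.erase oneChar = {χ})
    (hd : 2 ≤ charDegree (χ : G → ℂ)) (hY : ∀ θ ∈ Y, charDegree (θ : G → ℂ) ≠ charDegree (χ : G → ℂ))
    {k : ℕ} (hk : k.Coprime (Nat.card G)) (g : G) : (χ : G → ℂ) (g ^ k) = (χ : G → ℂ) g := by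
  obtain ⟨y, hy⟩ := SmallOrderGraph.nonOne_nonempty P hP
  have hy1 : (y : G) ≠ 1 := mem_nonOne.1 hy
  have hmem : SmallOrderGraph.galConj χ hk ∈ principalBlock M G := by
    by_contra hne
    have h0 := hf.nonprincipal_sum_zero hM hne hy1
    have hyk : y ^ k ∈ nonOne P := SmallOrderGraph.pow_mem_nonOne hP hy hk
    rw [Finset.sum_congr rfl (g := fun _ => (a χ : ℂ)) fun w hw => ?_, Finset.sum_const, nsmul_eq_mul] at h0
    · rcases mul_eq_zero.1 h0 with h0 | h0
      · exact (Finset.card_pos.2 ⟨1, by simp⟩).ne' (Nat.cast_eq_zero.1 h0)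
      · rcases h.a_sign χ hχ with e1 | e1 <;> rw [e1] at h0 <;> norm_num at h0
    · have hc : Commute (y : G) (w : G) := (Subgroup.mem_centralizer_singleton_iff.1 w.2).symm
      rw [SmallOrderGraph.galConj_apply, hc.mul_pow]
      refine (hf.principal_const hM ((h.mem_iff χ).2 (Or.inl hχ)) (y := y ^ k) (mem_nonOne.1 hyk)
        ⟨(w : G) ^ k, Subgroup.mem_centralizer_singleton_iff.2 ?_⟩ ?_).trans (h.a_val χ hχ _ hyk)
      · rw [SubmonoidClass.coe_pow]
        exact (hc.pow_pow k k).eq.symm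
      · rw [Subgroup.orderOf_mk]
        intro h11
        refine (Finset.mem_filter.1 hw).2 ?_
        rw [← Subgroup.orderOf_coe]
        exact h11.trans (orderOf_pow_dvd k)
  have hdeg : charDegree (SmallOrderGraph.galConj χ hk : G → ℂ) = charDegree (χ : G → ℂ) :=
    SmallOrderGraph.charDegree_galConj χ hk
  rcases (h.mem_iff _).1 hmem with hXm | hYm
  · have hne : SmallOrderGraph.galConj χ hk ≠ oneChar := fun e1 => by
      rw [e1, show charDegree ((oneChar : IrrCharacter G) : G → ℂ) = 1 by simp [oneChar, charDegree]] at hdeg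
      omega
    have he : SmallOrderGraph.galConj χ hk = χ :=
      Finset.mem_singleton.1 (hX ▸ Finset.mem_erase.2 ⟨hne, hXm⟩)
    rw [← SmallOrderGraph.galConj_apply χ hk, he]
  · exact absurd hdeg (hY _ hYm)

end Local

variable [IsSimpleGroup G]

/-- The degrees modulo twenty-three. -/
theorem deg_twentythree (hG : Nat.card G = 10200960) (χ : IrrCharacter G) :
    charDegree (χ : G → ℂ) % 23 ∈ [0, 1, 22, 11, 12] := by
  haveI : Fact (Nat.Prime 23) := ⟨by norm_num⟩
  obtain ⟨Q, hQ, hC, he⟩ := exists_twentythree hG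
  obtain ⟨M, X, Y, a, δ, h, -, hdiv⟩ := SmallOrderGraph.exists_data Q hQ he hC
  simp only [List.mem_cons, List.not_mem_nil, or_false]
  by_cases hX : χ ∈ X
  · have h2 := (h.a_congr χ hX).eq
    rcases h.a_sign χ hX with e' | e' <;> rw [e'] at h2 <;> omega
  by_cases hY : χ ∈ Y
  · have h2 := (h.congrY χ hY).eq
    rcases h.sign with e' | e' <;> rw [e'] at h2 <;> omega
  have := Nat.mod_eq_zero_of_dvd (hdiv χ hX hY)
  omega

/-- The Sylow subgroup of order eleven. -/
theorem exists_eleven (hG : Nat.card G = 10200960) :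
    ∃ P : Sylow 11 G, Nat.card P = 11 ∧ Nat.card (Subgroup.centralizer ((P : Subgroup G) : Set G)) = 11 ∧
      (Subgroup.centralizer ((P : Subgroup G) : Set G)).relIndex
        (Subgroup.normalizer ((P : Subgroup G) : Set G)) = 5 := by
  obtain ⟨P, n, e, k, hP, -, hk, hnek, hn1, -, he10, he1, he⟩ :=
    data (G := G) (p := 11) (m := 927360) (by rw [hG]) (by norm_num) (by norm_num)
  have hC : Nat.card (Subgroup.centralizer ((P : Subgroup G) : Set G)) = 11 * k := hk
  have hk0 : k ≠ 0 := by rintro rfl; simp at hnek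
  have hel : e = 2 ∨ e = 5 ∨ e = 10 := by
    have : e ≤ 10 := Nat.le_of_dvd (by norm_num) he10
    interval_cases e <;> simp_all
  have h23 : ¬ 23 ∣ k := fun h => by
    haveI : Fact (Nat.Prime 23) := ⟨by norm_num⟩
    obtain ⟨Q, hQ, hQC, -⟩ := exists_twentythree hG
    have h2 := cross P Q hP hQ (hk ▸ Dvd.dvd.mul_left h 11)
    rw [show centCard 23 Q = 23 from hQC] at h2
    norm_num at h2
  have hcase := case_options hel hnek hn1 h23
  by_cases hgood : e = 5 ∧ k = 1
  · exact ⟨P, hP, by rw [hC, hgood.2], by rw [he, hgood.1]⟩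
  exfalso
  obtain ⟨t, ht, het⟩ : ∃ t, 0 < t ∧ e * t + 1 = 11 := by
    rcases hel with rfl | rfl | rfl
    exacts [⟨5, by norm_num⟩, ⟨2, by norm_num⟩, ⟨1, by norm_num⟩]
  obtain ⟨M, hM⟩ := exists_pModular (show Nat.Prime 11 by norm_num)
  obtain ⟨X, Y, a, δ, h, h1X, hone, hYc⟩ := Solv.BReyn.exists_principal_one_mem hM hP he (by omega) ht het
  have hf : FrobSylow P e := he ▸ frobSylow_of_prime hP
  change (oneChar : IrrCharacter G) ∈ X at h1X
  change a (oneChar : IrrCharacter G) = 1 at hone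
  obtain ⟨y, hyn⟩ := SmallOrderGraph.nonOne_nonempty P hP
  have hy1 : (y : G) ≠ 1 := mem_nonOne.1 hyn
  obtain ⟨θ, hθ⟩ : Y.Nonempty := Finset.card_pos.1 (by omega)
  have hθne : θ ≠ oneChar := fun e1 => Finset.disjoint_left.1 h.disj h1X (by subst e1; exact hθ)
  have hoy := order_eleven hP y.2 hy1
  have hCy : Nat.card (Subgroup.centralizer ({(y : G)} : Set G)) = 11 * k := by rw [cent_eq hP y.2 hy1, hC]
  -- the degrees
  have hcl : Nat.card {x : G // IsConj (y : G) x} = 927360 / k := by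
    have h1 := card_conjClass_mul_centralizer (y : G)
    rw [hCy, hG] at h1
    exact (Nat.div_eq_of_eq_mul_left (Nat.pos_of_ne_zero hk0) (by nlinarith)).symm
  have hrange : ∀ χ : IrrCharacter G, χ ≠ oneChar →
      2 ≤ charDegree (χ : G → ℂ) ∧ charDegree (χ : G → ℂ) < 3195 := by
    intro χ hne
    have h1 := one_lt_degree (na hG) hne
    have h2 := MTwelve.OrderFront.one_add_sq_le (g := (1 : G)) hne (MTwelve.OrderFront.val_one χ)
    have h3 : (Nat.card (Subgroup.centralizer ({1} : Set G)) : ℤ) ≤ 10200960 := by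
      exact_mod_cast hG ▸ Subgroup.card_le_card_group _
    refine ⟨h1, ?_⟩
    by_contra hb
    have : (3195 : ℤ) * 3195 ≤ (charDegree (χ : G → ℂ) : ℤ) * (charDegree (χ : G → ℂ) : ℤ) :=
      mul_le_mul (by omega) (by omega) (by norm_num) (by omega)
    omega
  have hdegs : ∀ χ : IrrCharacter G, χ ≠ oneChar → charDegree (χ : G → ℂ) ∣ 927360 / k →
      charDegree (χ : G → ℂ) ∈ degs k := fun χ hne hd =>
    List.mem_filter.2 ⟨List.mem_range.2 (hrange χ hne).2, by
      have := deg_twentythree hG χ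
      simp only [List.mem_cons, List.not_mem_nil, or_false] at this
      simp [(hrange χ hne).1, Nat.mod_eq_zero_of_dvd hd, this]⟩
  have hnd : ∀ (χ : IrrCharacter G) (b : ℤ), b = 1 ∨ b = -1 →
      IsIntegral ℤ (((927360 / k : ℕ) : ℂ) * b / (charDegree (χ : G → ℂ) : ℂ)) →
      charDegree (χ : G → ℂ) ∣ 927360 / k := fun χ b hb hI =>
    Solv.BReyn.nat_dvd_of_integral (deg_pos χ.2).ne' hb hI
  have hXd : ∀ χ ∈ X.erase oneChar, charDegree (χ : G → ℂ) ∈ degs k := by
    intro χ hχ
    obtain ⟨hne, hX⟩ := Finset.mem_erase.1 hχ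
    refine hdegs χ hne (hnd χ (a χ) (h.a_sign χ hX) ?_)
    have := omega_isIntegral χ.2 (y : G)
    rwa [omega, hcl, val_one, h.a_val χ hX y hyn] at this
  have hYd : charDegree (θ : G → ℂ) ∈ degs k := by
    refine hdegs θ hθne (hnd θ (-δ) (by rcases h.sign with e' | e' <;> simp [e']) ?_)
    have h1reg : ¬ 11 ∣ orderOf (1 : G) := by simp
    have hI : IsIntegral ℤ (∑ χ ∈ Y, omega (χ : G → ℂ) (y : G)) :=
      IsIntegral.sum _ fun χ _ => omega_isIntegral χ.2 _
    rw [Finset.sum_congr rfl (g := fun χ : IrrCharacter G => ((927360 / k : ℕ) : ℂ) /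
        (charDegree (θ : G → ℂ) : ℂ) * (χ : G → ℂ) (y : G)) fun χ hχ => by
      rw [omega, hcl, h.regY χ hχ θ hθ 1 h1reg, val_one]; ring,
      ← Finset.mul_sum, Solv.BReyn.sum_exc hM hP h ⟨θ, hθ⟩ hyn] at hI
    convert hI using 1
    push_cast
    ring
  have hsX : ∀ χ ∈ X, (a χ * (charDegree (χ : G → ℂ) : ℤ) - 1) % 11 = 0 := fun χ hχ => by
    have h2 := Int.modEq_iff_dvd.1 (h.a_congr χ hχ).symm
    rcases h.a_sign χ hχ with e' | e' <;> rw [e'] at h2 ⊢ <;> omega
  have hsY : (δ * (charDegree (θ : G → ℂ) : ℤ) - (e : ℤ)) % 11 = 0 := by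
    have h2 := Int.modEq_iff_dvd.1 (h.congrY θ hθ).symm
    rcases h.sign with e' | e' <;> rw [e'] at h2 ⊢ <;> omega
  have hrel : δ * (charDegree (θ : G → ℂ) : ℤ) = 1 + ∑ χ ∈ X.erase oneChar, a χ * (charDegree (χ : G → ℂ) : ℤ) := by
    have h2 := h.rel θ hθ 1 (by simp)
    rw [← Finset.add_sum_erase X _ h1X, hone] at h2
    simp only [val_one] at h2
    have h3 : ((δ * (charDegree (θ : G → ℂ) : ℤ) : ℤ) : ℂ) =
        ((1 + ∑ χ ∈ X.erase oneChar, a χ * (charDegree (χ : G → ℂ) : ℤ) : ℤ) : ℂ) := by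
      push_cast at h2 ⊢
      simp only [oneChar, charDegree] at h2 ⊢
      simpa using h2
    exact_mod_cast h3
  have hcardE : (X.erase oneChar).card = e - 1 := by rw [Finset.card_erase_of_mem h1X, h.cardX]
  have hlin : ∀ l : List ℕ, (∀ χ ∈ X.erase oneChar, charDegree (χ : G → ℂ) ∈ l) →
      charDegree (θ : G → ℂ) ∈ l → ∀ m : ℕ, e - 1 = m →
      (∀ x ∈ sdeg l (e : ℤ), reach (sdeg l 1) m (x - 1) = false) → False := by
    intro l hlX hlY m hm htab
    have h1 := reach_of_multiset (sdeg l 1)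
      ((X.erase oneChar).val.map fun χ => a χ * (charDegree (χ : G → ℂ) : ℤ)) fun x hx => by
        obtain ⟨χ, hχ, rfl⟩ := Multiset.mem_map.1 hx
        exact mem_sdeg (hlX χ hχ) (h.a_sign χ (Finset.mem_erase.1 hχ).2) (hsX χ (Finset.mem_erase.1 hχ).2)
    rw [Multiset.card_map] at h1
    change reach (sdeg l 1) (X.erase oneChar).card (∑ χ ∈ X.erase oneChar, a χ * (charDegree (χ : G → ℂ) : ℤ))
      = true at h1
    rw [hcardE, hm, show (∑ χ ∈ X.erase oneChar, a χ * (charDegree (χ : G → ℂ) : ℤ)) =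
      δ * (charDegree (θ : G → ℂ) : ℤ) - 1 by omega, htab _ (mem_sdeg hlY h.sign hsY)] at h1
    exact Bool.false_ne_true h1
  -- the values at an involution of the centraliser
  have hval2 : ∀ v ∈ Subgroup.centralizer ((P : Subgroup G) : Set G), orderOf v = 2 →
      ∀ χ : IrrCharacter G, χ ≠ oneChar → (χ ∈ X ∨ χ ∈ Y) → ∃ z : ℤ, (χ : G → ℂ) v = z ∧
        z.natAbs < charDegree (χ : G → ℂ) ∧ ((charDegree (χ : G → ℂ) : ℤ) - z) % 44 = 0 := by
    intro v hvC hv χ hne hmem
    obtain ⟨z, hz, h4, hlt⟩ := SmallOrderGraph.invol_value (na hG) hne hv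
    have h22 := split hM hf hP ((h.mem_iff χ).2 hmem) y.2 hy1 (q := 2) Nat.prime_two (by norm_num) (v := v)
      (by rw [← hv]; exact pow_orderOf_eq_one v) (Subgroup.mem_centralizer_iff.1 hvC _ y.2).symm
      (S := (charDegree (χ : G → ℂ) : ℤ) + z) (by
        simp only [Finset.sum_range_succ, Finset.sum_range_zero, pow_zero, pow_one, val_one, hz]
        push_cast; ring)
    refine ⟨z, hz, hlt, ?_⟩
    norm_num at h22
    omega
  -- an involution of the centraliser commuting with an element of order five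
  have hfive : 5 ∣ e → k ∈ [56, 28, 12] → ∃ v : G,
      v ∈ Subgroup.centralizer ((P : Subgroup G) : Set G) ∧ orderOf v = 2 ∧
        ∀ χ : IrrCharacter G, χ ≠ oneChar → (χ ∈ X ∨ χ ∈ Y) → ∃ z : ℤ, (χ : G → ℂ) v = z ∧
          z ∈ zvals (charDegree (χ : G → ℂ)) := by
    intro h5 hk3
    haveI : Fact (Nat.Prime 2) := ⟨Nat.prime_two⟩
    have hfac : ∀ j m : ℕ, m % 2 = 1 → k = 2 ^ j * m → k.factorization 2 = j := by
      intro j m hm hkm
      rw [hkm, Nat.factorization_mul (by positivity) (by omega), Nat.factorization_pow, Finsupp.add_apply,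
        Finsupp.smul_apply, Nat.prime_two.factorization_self, Nat.factorization_eq_zero_of_not_dvd (by omega)]
      simp
    have hmod : 2 ^ k.factorization 2 % 5 ≠ 1 := by
      simp only [List.mem_cons, List.not_mem_nil, or_false] at hk3
      rcases hk3 with hk3 | hk3 | hk3
      · rw [hfac 3 7 rfl hk3]; norm_num
      · rw [hfac 2 7 rfl hk3]; norm_num
      · rw [hfac 2 3 rfl hk3]; norm_num
    obtain ⟨T, v, f, -, hTC, hvT, hv, hfo, hfv⟩ :=
      MTwentyTwo.ByOrder.exists_fixed P hC he h5 (q := 2) (by norm_num) hmod hk0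
    refine ⟨v, hTC hvT, hv, fun χ hne hmem => ?_⟩
    obtain ⟨z, hz, hlt, h44⟩ := hval2 v (hTC hvT) hv χ hne hmem
    refine ⟨z, hz, mem_zvals hlt h44 ?_⟩
    have m1 : ∀ x : G, x * v = v * x → orderOf x ∣ Nat.card (Subgroup.centralizer ({v} : Set G)) := fun x hx =>
      (Subgroup.centralizer ({v} : Set G)).orderOf_dvd_natCard (Subgroup.mem_centralizer_singleton_iff.2 hx)
    have h55 : 55 ∣ Nat.card (Subgroup.centralizer ({v} : Set G)) :=
      Nat.Coprime.mul_dvd_of_dvd_of_dvd (by norm_num : Nat.Coprime 5 11) (hfo ▸ m1 f hfv)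
        (hoy ▸ m1 _ (Subgroup.mem_centralizer_iff.1 (hTC hvT) _ y.2))
    have hcd := fix_class_dvd χ (q := 2) (S := (charDegree (χ : G → ℂ) : ℤ) + z) (by
      simp only [Finset.sum_range_succ, Finset.sum_range_zero, pow_zero, pow_one, val_one, hz]
      push_cast; ring) h55
    rw [hG, show 10200960 / 55 = 185472 from rfl, mul_add] at hcd
    exact Int.emod_eq_zero_of_dvd ((dvd_add_right (dvd_mul_left _ _)).1 hcd)
  have hinvl : ∀ v : G, (∀ χ : IrrCharacter G, χ ≠ oneChar → (χ ∈ X ∨ χ ∈ Y) → ∃ z : ℤ, (χ : G → ℂ) v = z ∧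
      z ∈ zvals (charDegree (χ : G → ℂ))) →
      (∀ χ ∈ X.erase oneChar, charDegree (χ : G → ℂ) ∈ degsInv k) ∧ charDegree (θ : G → ℂ) ∈ degsInv k := by
    intro v hv
    refine ⟨fun χ hχ => ?_, ?_⟩
    · obtain ⟨z, -, hz⟩ := hv χ (Finset.mem_erase.1 hχ).1 (Or.inl (Finset.mem_erase.1 hχ).2)
      exact mem_degsInv (hXd χ hχ) hz
    · obtain ⟨z, -, hz⟩ := hv θ hθne (Or.inr hθ)
      exact mem_degsInv hYd hz
  by_cases he2 : e = 2
  · -- automiser of order two
    subst he2
    obtain ⟨χ, hsing⟩ : ∃ χ, X.erase oneChar = {χ} := Finset.card_eq_one.1 hcardE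
    obtain ⟨hne, hχX⟩ := Finset.mem_erase.1 (show χ ∈ X.erase oneChar by rw [hsing]; simp)
    rw [hsing, Finset.sum_singleton] at hrel
    have hk2 : k ∈ [20160, 1680, 448, 360, 140, 96, 63, 30, 8] := by
      simpa [cases] using hcase
    have hx := two_table k hk2 _ (mem_sdeg (hXd χ (by rw [hsing]; simp)) (h.a_sign χ hχX) (hsX χ hχX))
      _ (mem_sdeg hYd h.sign hsY) hrel
    simp only [List.mem_cons, List.not_mem_nil, or_false] at hx
    have hd2 := (hrange χ hne).1
    obtain ⟨ha, hd, hδ, hg, hkk⟩ : a χ = 1 ∧ charDegree (χ : G → ℂ) ∈ [23, 45] ∧ δ = 1 ∧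
        charDegree (θ : G → ℂ) = charDegree (χ : G → ℂ) + 1 ∧
        (k = 8 ∨ (5 ∣ k ∧ charDegree (χ : G → ℂ) = 23) ∨ (7 ∣ k ∧ charDegree (χ : G → ℂ) = 45)) := by
      simp only [List.mem_cons, List.not_mem_nil, or_false]
      rcases h.a_sign χ hχX with e' | e' <;> rw [e'] at hx hrel ⊢ <;>
        rcases h.sign with e'' | e'' <;> rw [e''] at hrel ⊢ <;> omega
    by_cases hk8 : k = 8
    · -- the count of factorisations
      subst hk8
      obtain ⟨v, hvC, hv⟩ := MTwelve.OrderFront.exists_invol (Subgroup.centralizer ((P : Subgroup G) : Set G))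
        (hC ▸ by norm_num)
      obtain ⟨z, hz, hlt, h44⟩ := hval2 v hvC hv χ hne (Or.inl hχX)
      have hv2 : v ^ 2 = 1 := by rw [← hv]; exact pow_orderOf_eq_one v
      have hvv : v * v = 1 := by rw [← pow_two, hv2]
      have hθv : (θ : G → ℂ) v = 1 + (z : ℂ) := by
        have h2 := h.rel θ hθ v (by rw [hv]; norm_num)
        rw [← Finset.add_sum_erase X _ h1X, hsing, Finset.sum_singleton, hone, hδ, ha, hz] at h2
        simpa [oneChar] using h2
      have hsc := section_count hM hP h ⟨θ, hθ⟩ hf hyn hv2 hθ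
      rw [← Finset.add_sum_erase X _ h1X, hsing, Finset.sum_singleton, hone, hδ, ha, hz, hθv,
        regs_card hoy (by rw [hCy]), hG, val_one χ, val_one θ, hg] at hsc
      set cs := ∑ w ∈ regs (y : G), (GTwoSpectrum.pairs v ((y : G) * (w : G))).card
      have hN : Nat.card (Subgroup.normalizer ((P : Subgroup G) : Set G)) = 176 := by
        rw [← hf.card_centralizer_inf, hC]
      have hle : cs ≤ 1408 := by
        refine (pairs_le hP y.2 hy1 hvv).trans (le_of_eq ?_)
        rw [regs_card hoy (by rw [hCy]), hN]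
      have hdne : ((charDegree (χ : G → ℂ) : ℂ)) ≠ 0 := Nat.cast_ne_zero.2 (by omega)
      have hgne : ((charDegree (χ : G → ℂ) : ℂ)) + 1 ≠ 0 := by
        exact_mod_cast Nat.succ_ne_zero (charDegree (χ : G → ℂ))
      have hclv : Nat.card {x : G // IsConj v x} =
          10200960 / Nat.card (Subgroup.centralizer ({v} : Set G)) := by
        rw [← hG, ← card_conjClass_mul_centralizer v, Nat.mul_div_cancel _ Nat.card_pos]
      rw [hclv] at hsc
      set C := Nat.card (Subgroup.centralizer ({v} : Set G))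
      set d := charDegree (χ : G → ℂ)
      have hint : (8 : ℤ) * (((10200960 / C : ℕ) : ℤ) ^ 2) *
          ((d : ℤ) * ((d : ℤ) + 1) + z * z * ((d : ℤ) + 1) - (1 + z) ^ 2 * (d : ℤ)) =
          (10200960 * ((d : ℤ) * ((d : ℤ) + 1))) * (cs : ℤ) := by
        generalize (10200960 / C : ℕ) = q at hsc ⊢
        apply (Int.cast_injective (α := ℂ))
        simp only [oneChar] at hsc
        push_cast at hsc ⊢
        field_simp at hsc
        linear_combination -hsc
      have hCmem : C ∈ centOrders := by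
        have hPC : (P : Subgroup G) ≤ Subgroup.centralizer ({v} : Set G) := fun x hx =>
          Subgroup.mem_centralizer_singleton_iff.2 (Subgroup.mem_centralizer_iff.1 hvC x hx)
        obtain ⟨f, hf1, hf2⟩ := cent_split hPC
        set r := Nat.card ↥(Subgroup.normalizer ((P : Subgroup G) : Set G) ⊓ Subgroup.centralizer ({v} : Set G))
        have hr176 : r ∣ 11 * 2 ^ 4 := by
          rw [show 11 * 2 ^ 4 = 176 from rfl, ← hN]; exact Subgroup.card_dvd_of_le inf_le_left
        have hr11 : 11 ∣ r := by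
          rw [← hP]
          exact Subgroup.card_dvd_of_le (le_inf Subgroup.le_normalizer hPC)
        have hr2 : 2 ∣ r := hv ▸ Subgroup.orderOf_dvd_natCard _ ⟨Subgroup.centralizer_le_normalizer _ hvC,
          Subgroup.mem_centralizer_singleton_iff.2 rfl⟩
        refine mem_centOrders ?_ hf1 (hG ▸ Subgroup.card_subgroup_dvd_card _) hf2
        obtain ⟨c, hc⟩ := hr11
        rw [hc] at hr176
        obtain ⟨j, hj, rfl⟩ := (Nat.dvd_prime_pow Nat.prime_two).1 (Nat.dvd_of_mul_dvd_mul_left (by norm_num) hr176)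
        rw [hc] at hr2 ⊢
        interval_cases j <;> simp_all
      have htab := count_table d hd z
        (List.mem_map.2 ⟨(z + d).toNat, List.mem_range.2 (by omega), by omega⟩) h44 hlt C hCmem
      simp only at htab
      rw [hint] at htab
      have hpos : (0 : ℤ) < 10200960 * ((d : ℤ) * ((d : ℤ) + 1)) := by positivity
      rcases htab (Int.mul_emod_right _ _) with hh | hh
      · exact absurd hh (not_lt.2 (mul_nonneg hpos.le (Int.natCast_nonneg _)))
      · rw [mul_comm (10200960 * _) (cs : ℤ)] at hh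
        have := lt_of_mul_lt_mul_right hh hpos.le
        omega
    · -- an element of order five or seven of the centraliser
      obtain ⟨q, hq57, hqk, hdq⟩ : ∃ q, q ∈ [5, 7] ∧ q ∣ k ∧
          (charDegree (χ : G → ℂ), q) ∈ ([(23, 5), (45, 7)] : List (ℕ × ℕ)) := by
        rcases hkk with h8 | ⟨h5, e'⟩ | ⟨h7, e'⟩
        · exact absurd h8 hk8
        · exact ⟨5, by simp, h5, by simp [e']⟩
        · exact ⟨7, by simp, h7, by simp [e']⟩
      have hqp : q.Prime := by
        simp only [List.mem_cons, List.not_mem_nil, or_false] at hq57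
        rcases hq57 with rfl | rfl <;> norm_num
      haveI : Fact q.Prime := ⟨hqp⟩
      obtain ⟨v', hv'⟩ := exists_prime_orderOf_dvd_card'
        (G := Subgroup.centralizer ((P : Subgroup G) : Set G)) q (hC ▸ dvd_mul_of_dvd_right hqk 11)
      set v : G := (v' : G)
      have hv : orderOf v = q := by rw [Subgroup.orderOf_coe, hv']
      have hfix : ∀ k' : ℕ, k'.Coprime (Nat.card G) → ∀ g, (χ : G → ℂ) (g ^ k') = (χ : G → ℂ) g := fun k' hk' g =>
        rational_two hM hP hf h hχX hsing hd2 (fun θ' hθ' => by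
          have h1reg : ¬ 11 ∣ orderOf (1 : G) := by simp
          have h2 := h.regY θ' hθ' θ hθ 1 h1reg
          rw [val_one, val_one, Nat.cast_inj] at h2
          omega) hk' g
      obtain ⟨z, hz⟩ := SmallOrderGraph.int_of_pow_fixed (irr_isCharacter χ.2) fun k' hk' => hfix k' hk' v
      obtain ⟨m, hm, hlt⟩ := exists_fix hG hne hqp hv
      have hpow : ∀ j ∈ Finset.range (q - 1), (χ : G → ℂ) (v ^ (j + 1)) = (z : ℂ) := by
        intro j hj
        obtain ⟨c, -, hcq, hco⟩ := lift_coprime q hq57 (j + 1)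
          (by have := Finset.mem_range.1 hj; omega) (by omega)
        rw [← hcq, ← hv, pow_mod_orderOf, hfix c (hG ▸ hco), hz]
      have hS : ∑ j ∈ Finset.range q, (χ : G → ℂ) (v ^ j) =
          ((charDegree (χ : G → ℂ) : ℤ) + ((q : ℤ) - 1) * z : ℤ) := by
        rw [show q = (q - 1) + 1 by have := hqp.two_le; omega, Finset.sum_range_succ',
          Finset.sum_congr rfl hpow, Finset.sum_const, Finset.card_range, nsmul_eq_mul, pow_zero, val_one]
        rw [Nat.cast_add, Nat.cast_one]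
        push_cast
        ring
      have hdiv := split hM hf hP ((h.mem_iff χ).2 (Or.inl hχX)) y.2 hy1 hqp
        (fun e' => by subst e'; simp at hq57) (v := v)
        (by rw [← hv]; exact pow_orderOf_eq_one v) (Subgroup.mem_centralizer_iff.1 v'.2 _ y.2).symm hS
      rw [hS] at hm
      have hm' : (charDegree (χ : G → ℂ) : ℤ) + ((q : ℤ) - 1) * z = (q : ℤ) * m := by exact_mod_cast hm
      refine rational_table (charDegree (χ : G → ℂ), q) hdq m hlt ?_ ?_
      · simp only [List.mem_cons, List.not_mem_nil, or_false, Prod.mk.injEq] at hdq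
        rcases hdq with ⟨e1, rfl⟩ | ⟨e1, rfl⟩ <;> rw [e1] at hm' hdiv ⊢ <;> norm_num at hm' hdiv ⊢ <;> omega
      · simp only [List.mem_cons, List.not_mem_nil, or_false, Prod.mk.injEq] at hdq
        rcases hdq with ⟨e1, rfl⟩ | ⟨e1, rfl⟩ <;> rw [e1] at hm' ⊢ <;> norm_num at hm' ⊢ <;> omega
  by_cases hk12 : e = 5 ∧ k = 12
  · -- the count vanishes
    obtain ⟨rfl, rfl⟩ := hk12
    obtain ⟨v, hvC, hv, hvals⟩ := hfive (dvd_refl 5) (by simp)
    have hv2 : v ^ 2 = 1 := by rw [← hv]; exact pow_orderOf_eq_one v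
    have hsc := section_count hM hP h ⟨θ, hθ⟩ hf hyn hv2 hθ
    have hzero : ∑ w ∈ regs (y : G), (GTwoSpectrum.pairs v ((y : G) * (w : G))).card = 0 :=
      Finset.sum_eq_zero fun w hw => Finset.card_eq_zero.2
        (pairs_empty hP he y.2 hy1 (by rw [← pow_two, hv2]) hw)
    rw [hzero, Nat.cast_zero, mul_zero] at hsc
    have hS := (mul_eq_zero.1 hsc.symm).resolve_left (mul_ne_zero
      (pow_ne_zero _ (Nat.cast_ne_zero.2 (card_conjClass_ne_zero v)))
      (Nat.cast_ne_zero.2 (Finset.card_pos.2 ⟨1, one_mem_regs _⟩).ne'))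
    have hex : ∀ χ : IrrCharacter G, ∃ z : ℤ, χ ≠ oneChar → (χ ∈ X ∨ χ ∈ Y) →
        (χ : G → ℂ) v = z ∧ z ∈ zvals (charDegree (χ : G → ℂ)) := fun χ => by
      by_cases hc : χ ≠ oneChar ∧ (χ ∈ X ∨ χ ∈ Y)
      · obtain ⟨z, hz⟩ := hvals χ hc.1 hc.2
        exact ⟨z, fun _ _ => hz⟩
      · exact ⟨0, fun h1 h2 => absurd ⟨h1, h2⟩ hc⟩
    choose z hz using hex
    -- exact quotients
    have hquot : ∀ (χ : IrrCharacter G) (b : ℤ), b = 1 ∨ b = -1 → charDegree (χ : G → ℂ) ∈ degs 12 →
        ∃ c : ℤ, 77280 / (b * (charDegree (χ : G → ℂ) : ℤ)) = c ∧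
          (c : ℂ) = (b : ℂ) * 77280 / (χ : G → ℂ) 1 := by
      intro χ b hb hmem
      have hd0 : charDegree (χ : G → ℂ) ≠ 0 := (deg_pos χ.2).ne'
      obtain ⟨q, hq⟩ : charDegree (χ : G → ℂ) ∣ 77280 := by
        obtain ⟨-, h1⟩ := List.mem_filter.1 hmem
        simp only [Bool.and_eq_true, beq_iff_eq] at h1
        exact Nat.dvd_of_mod_eq_zero h1.1.2
      refine ⟨b * q, ?_, ?_⟩
      · have hq' : (77280 : ℤ) = (charDegree (χ : G → ℂ) : ℤ) * q := by exact_mod_cast hq
        rw [show (77280 : ℤ) = b * (charDegree (χ : G → ℂ) : ℤ) * (b * q) by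
          rcases hb with rfl | rfl <;> linear_combination hq']
        exact Int.mul_ediv_cancel_left _ (mul_ne_zero (by rcases hb with rfl | rfl <;> norm_num)
          (Nat.cast_ne_zero.2 hd0))
      · rw [val_one, show (77280 : ℂ) = ((charDegree (χ : G → ℂ) * q : ℕ) : ℂ) by rw [← hq]; norm_num]
        push_cast
        field_simp
    have hXq : ∀ χ ∈ X.erase oneChar, ((z χ * z χ * (77280 / (a χ * (charDegree (χ : G → ℂ) : ℤ))) : ℤ) : ℂ) =
        77280 * ((a χ : ℂ) * ((χ : G → ℂ) v) ^ 2 / (χ : G → ℂ) 1) := by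
      intro χ hχ
      obtain ⟨c, hc1, hc2⟩ := hquot χ (a χ) (h.a_sign χ (Finset.mem_erase.1 hχ).2) (hXd χ hχ)
      rw [hc1, Int.cast_mul, hc2, (hz χ (Finset.mem_erase.1 hχ).1 (Or.inl (Finset.mem_erase.1 hχ).2)).1]
      push_cast
      ring
    obtain ⟨c, hc1, hc2⟩ := hquot θ δ h.sign hYd
    obtain ⟨hzθ, hzθm⟩ := hz θ hθne (Or.inr hθ)
    have hEq : ∑ χ ∈ X.erase oneChar, z χ * z χ * (77280 / (a χ * (charDegree (χ : G → ℂ) : ℤ))) =
        z θ * z θ * (77280 / (δ * (charDegree (θ : G → ℂ) : ℤ))) - 77280 := by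
      apply (Int.cast_injective (α := ℂ))
      rw [Int.cast_sum, Finset.sum_congr rfl hXq, ← Finset.mul_sum, hc1]
      rw [← Finset.add_sum_erase X _ h1X, hone] at hS
      simp only [oneChar] at hS ⊢
      push_cast
      rw [hc2]
      push_cast at hS
      rw [hzθ] at hS
      linear_combination 77280 * hS
    have h1 := reach_of_multiset (pairVals (sdeg (degs 12) 1) 0)
      ((X.erase oneChar).val.map fun χ => ((a χ * (charDegree (χ : G → ℂ) : ℤ)),
        ((z χ * z χ * (77280 / (a χ * (charDegree (χ : G → ℂ) : ℤ))) : ℤ) : ZMod 64))) fun x hx => by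
        obtain ⟨χ, hχ, rfl⟩ := Multiset.mem_map.1 hx
        obtain ⟨hne, hX⟩ := Finset.mem_erase.1 hχ
        have := mem_pairVals (c := 0) (mem_sdeg (hXd χ hχ) (h.a_sign χ hX) (hsX χ hX))
          (z := z χ) (by
            rw [show (a χ * (charDegree (χ : G → ℂ) : ℤ)).natAbs = charDegree (χ : G → ℂ) by
              rcases h.a_sign χ hX with e' | e' <;> simp [e']]
            exact (hz χ hne (Or.inl hX)).2)
        simpa using this
    rw [Multiset.card_map] at h1
    change reach (pairVals (sdeg (degs 12) 1) 0) (X.erase oneChar).card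
      (∑ χ ∈ X.erase oneChar, ((a χ * (charDegree (χ : G → ℂ) : ℤ)),
        ((z χ * z χ * (77280 / (a χ * (charDegree (χ : G → ℂ) : ℤ))) : ℤ) : ZMod 64))) = true at h1
    have hmemY := mem_pairVals (c := 77280) (mem_sdeg hYd h.sign hsY) (z := z θ) (by
      rw [show (δ * (charDegree (θ : G → ℂ) : ℤ)).natAbs = charDegree (θ : G → ℂ) by
        rcases h.sign with e' | e' <;> simp [e']]
      exact hzθm)
    have htarget : (∑ χ ∈ X.erase oneChar, ((a χ * (charDegree (χ : G → ℂ) : ℤ)),
        ((z χ * z χ * (77280 / (a χ * (charDegree (χ : G → ℂ) : ℤ))) : ℤ) : ZMod 64))) =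
        (δ * (charDegree (θ : G → ℂ) : ℤ) - (if (77280 : ℤ) = 0 then 0 else 1),
          ((z θ * z θ * (77280 / (δ * (charDegree (θ : G → ℂ) : ℤ))) - 77280 : ℤ) : ZMod 64)) := by
      refine Prod.ext ?_ ?_
      · rw [Prod.fst_sum, if_neg (by norm_num)]
        dsimp only
        omega
      · rw [Prod.snd_sum]
        dsimp only
        rw [← Int.cast_sum, hEq]
    rw [hcardE, htarget, square_five _ hmemY] at h1
    exact Bool.false_ne_true h1
  simp only [cases, List.mem_cons, List.not_mem_nil, or_false, Prod.mk.injEq] at hcase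
  by_cases hk56 : e = 5 ∧ k = 56
  · obtain ⟨rfl, rfl⟩ := hk56
    obtain ⟨v, -, -, hvals⟩ := hfive (dvd_refl 5) (by simp)
    exact hlin _ (hinvl v hvals).1 (hinvl v hvals).2 4 rfl linear_five_inv
  by_cases hk28 : e = 10 ∧ k = 28
  · obtain ⟨rfl, rfl⟩ := hk28
    obtain ⟨v, -, -, hvals⟩ := hfive (by norm_num) (by simp)
    exact hlin _ (hinvl v hvals).1 (hinvl v hvals).2 9 rfl linear_ten_inv
  rcases hel with rfl | rfl | rfl
  · exact he2 rfl
  · refine hlin _ hXd hYd 4 rfl (linear_five k ?_)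
    simp only [List.mem_cons, List.not_mem_nil, or_false]
    omega
  · refine hlin _ hXd hYd 9 rfl (linear_ten k ?_)
    simp only [List.mem_cons, List.not_mem_nil, or_false]
    omega

end Cfsg.Agent.MTwentyThree.ByOrder.Eleven

namespace Cfsg.Agent.MTwentyThree.ByOrder

/-- A simple group of the order of the Mathieu group of degree twenty-three has a self-centralising Sylow subgroup
of order eleven, with automiser of order five. -/
theorem exists_eleven.{u} {G : Type u} [Group G] [Fintype G] [IsSimpleGroup G] (hG : Nat.card G = 10200960) :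
    ∃ P : Sylow 11 G, Nat.card P = 11 ∧ Nat.card (Subgroup.centralizer ((P : Subgroup G) : Set G)) = 11 ∧
      (Subgroup.centralizer ((P : Subgroup G) : Set G)).relIndex
        (Subgroup.normalizer ((P : Subgroup G) : Set G)) = 5 :=
  Eleven.exists_eleven hG

end Cfsg.Agent.MTwentyThree.ByOrder
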