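import Cfsg.Agent.Lib.Spor.MTwentyThreeOrder.Final
import Cfsg.Agent.Lib.Spor.MTwentyThreeOrder.SylowEleven

/-!
The centralisers of the elements of orders eleven and twenty-three, and of the remaining elements, in a simple group
of the order of the Mathieu group of degree twenty-three.
-/

set_option autoImplicit false
set_option linter.unusedSectionVars false
set_option linter.style.haveILetI false

namespace Cfsg.Agent.MTwentyThree.ByOrder

universe u

variable {G : Type u} [Group G] [Fintype G] [IsSimpleGroup G]

theorem cent_eleven (hG : Nat.card G = 10200960) {y : G} (hy : orderOf y = 11) :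
    Nat.card (Subgroup.centralizer ({y} : Set G)) = 11 := by
  haveI : Fact (Nat.Prime 11) := ⟨by norm_num⟩
  obtain ⟨P, hP, hC, -⟩ := exists_eleven hG
  exact cent_of_sylow (by rw [hG]; norm_num) hP hC hy

theorem cent_twentythree (hG : Nat.card G = 10200960) {y : G} (hy : orderOf y = 23) :
    Nat.card (Subgroup.centralizer ({y} : Set G)) = 23 := by
  haveI : Fact (Nat.Prime 23) := ⟨by norm_num⟩
  obtain ⟨P, hP, hC, -⟩ := exists_twentythree hG
  exact cent_of_sylow (by rw [hG]; norm_num) hP hC hy

theorem cent_dvd (hG : Nat.card G = 10200960) (g : G) (hg : g ≠ 1) (ha : ¬ 11 ∣ orderOf g)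
    (hb : ¬ 23 ∣ orderOf g) : Nat.card (Subgroup.centralizer ({g} : Set G)) ∣ 40320 :=
  cdvd_of_sylow hG (fun _ h => cent_eleven hG h) (fun _ h => cent_twentythree hG h) g hg ha hb

end Cfsg.Agent.MTwentyThree.ByOrder
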