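import Cfsg.Agent.Lib.Spor.MTwentyThreeOrder.Table
import Cfsg.Agent.Lib.Spor.MTwentyThreeOrder.FromSylow

/-!
The character data from the degrees of the irreducible characters of a simple group of the order of the Mathieu
group of degree twenty-three.
-/

set_option autoImplicit false
set_option linter.unusedSectionVars false
set_option linter.style.haveILetI false
set_option maxRecDepth 100000
set_option maxHeartbeats 1000000

namespace Cfsg.Agent.MTwentyThree.ByOrder

open Cfsg Cfsg.Agent.Char Cfsg.Agent.Small.Order459648 Cfsg.Agent.Char.PrimeSylowCount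
open Cfsg.Agent.MTwelve.OrderFront (val_one)
open scoped ComplexConjugate

universe u

local instance : Fact (Nat.Prime 23) := ⟨by norm_num⟩
local instance : Fact (Nat.Prime 11) := ⟨by norm_num⟩

/-- the degrees as a function -/
def tgt17 : Fin 17 → ℕ := ![1, 22, 45, 45, 230, 231, 231, 231, 253, 770, 770, 896, 896, 990, 990, 1035, 2024]

theorem five_rows_table : ((blkRows 5 4).all fun r => !((full 1 r).all fun d =>
      decide ((full 1 r).count d ≤ (List.ofFn tgt17).count d)) ||
    ([([231, 896, 896], 2024), ([231, 896, 2024], 896), ([896, 896, 2024], 231)].contains r)) = true := by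
  decide +kernel

theorem seven_rows_table : ([2, 3, 6].all fun e => (blkRows 7 e).all fun r => !((full (6 / e) r).all fun d =>
      decide ((full (6 / e) r).count d ≤ (List.ofFn tgt17).count d)) ||
    (e == 3 && r == ([1035, 2024], 990))) = true := by
  decide +kernel

variable {G : Type u} [Group G] [Fintype G] [IsSimpleGroup G] (T : Table G)
include T

theorem Table.dg_eq (i : Fin 17) : dg (T.c i) = tgt17 i := T.deg i

theorem Table.ne_one (i : Fin 17) (hi : i ≠ 0) : T.c i ≠ oneChar := fun e => hi (T.bij.1 (e.trans T.c_zero.symm))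

theorem Table.allowed {χ : IrrCharacter G} (hne : χ ≠ oneChar) : dg χ ∈ ByOrder.allowed :=
  dg_allowed T.card T.B23 T.B11 hne

open scoped _root_.Classical in
theorem Table.cnt_tgt (d : ℕ) : cnt G d ≤ (List.ofFn tgt17).count d := by
  rw [cnt, List.ofFn_eq_map, ← Multiset.coe_count, ← Multiset.map_coe, Multiset.count_map, ← Finset.card_map
    (Equiv.ofBijective T.c T.bij).symm.toEmbedding]
  refine le_trans (Finset.card_le_card (t := Finset.univ.filter fun i : Fin 17 => tgt17 i = d) ?_) (le_of_eq ?_)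
  · intro i hi
    obtain ⟨χ, hχ, rfl⟩ := Finset.mem_map.1 hi
    refine Finset.mem_filter.2 ⟨Finset.mem_univ _, ?_⟩
    rw [Equiv.coe_toEmbedding, ← T.dg_eq, ← (Finset.mem_filter.1 hχ).2]
    exact congrArg dg (Equiv.apply_symm_apply (Equiv.ofBijective T.c T.bij) χ)
  · simp only [Finset.card_def, Finset.filter_val, eq_comm]; rfl

open scoped _root_.Classical in
/-- A block is given by the residues of the degrees. -/
theorem Table.block_eq {p e : ℕ} [Fact p.Prime] (B : SelfBlk p e G) (SX SY : Finset (Fin 17))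
    (hX : ∀ i, i ∈ SX ↔ i ≠ 0 ∧ ¬ p ∣ tgt17 i ∧ (tgt17 i % p = 1 ∨ tgt17 i % p + 1 = p))
    (hY : ∀ i, i ∈ SY ↔ i ≠ 0 ∧ ¬ p ∣ tgt17 i ∧ (tgt17 i % p = e % p ∨ tgt17 i % p = (p - e % p) % p))
    (hsep : ∀ i, ¬ ((tgt17 i % p = 1 ∨ tgt17 i % p + 1 = p) ∧
      (tgt17 i % p = e % p ∨ tgt17 i % p = (p - e % p) % p))) :
    B.X.erase oneChar = SX.image T.c ∧ B.Y = SY.image T.c := by
  have hx : ∀ {χ}, χ ∈ B.X → (dg χ % p = 1 ∨ dg χ % p + 1 = p) := fun h => (sgn_eq B.pp B.two_lt h).1
  have hy : ∀ {χ}, χ ∈ B.Y → (dg χ % p = e % p ∨ dg χ % p = (p - e % p) % p) := fun h =>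
    (sgnE_eq B.pp (by have := B.two_le; omega) B.e_lt B.double_ne h).1
  constructor
  · ext χ
    obtain ⟨i, rfl⟩ := T.bij.2 χ
    rw [Finset.mem_erase, Finset.mem_image]
    constructor
    · rintro ⟨hne, h⟩
      refine ⟨i, (hX i).2 ⟨fun e => hne (e ▸ T.c_zero), T.dg_eq i ▸ (B.mem_iff).1 (Or.inl h), ?_⟩, rfl⟩
      exact T.dg_eq i ▸ hx h
    · rintro ⟨j, hj, e⟩
      obtain rfl := T.bij.1 e
      obtain ⟨hj0, hjd, hjr⟩ := (hX j).1 hj
      refine ⟨T.ne_one j hj0, ((B.mem_iff).2 (T.dg_eq j ▸ hjd)).resolve_right fun h => ?_⟩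
      exact hsep j ⟨hjr, T.dg_eq j ▸ hy h⟩
  · ext χ
    obtain ⟨i, rfl⟩ := T.bij.2 χ
    rw [Finset.mem_image]
    constructor
    · intro h
      refine ⟨i, (hY i).2 ⟨fun e1 => Finset.disjoint_left.1 B.pp.disj B.one_mem (?_ : oneChar ∈ B.Y),
        T.dg_eq i ▸ (B.mem_iff).1 (Or.inr h), T.dg_eq i ▸ hy h⟩, rfl⟩
      rwa [e1, T.c_zero] at h
    · rintro ⟨j, hj, e⟩
      obtain rfl := T.bij.1 e
      obtain ⟨hj0, hjd, hjr⟩ := (hY j).1 hj
      refine ((B.mem_iff).2 (T.dg_eq j ▸ hjd)).resolve_left fun h => hsep j ⟨T.dg_eq j ▸ hx h, hjr⟩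

/-- A principal block of small degree sum. -/
theorem Table.exists_rows {p m : ℕ} [Fact p.Prime] (hm : Nat.card G = p * m) (hp : ¬ p ∣ m) (hm1 : 1 < m)
    (hp2 : 2 < p) :
    ∃ (P : Sylow p G) (e t : ℕ) (M : Ideal AlgInt) (X Y : Finset (IrrCharacter G)) (a : IrrCharacter G → ℤ) (δ : ℤ)
      (θ : IrrCharacter G), (Subgroup.centralizer ((P : Subgroup G) : Set G)).relIndex
          (Subgroup.normalizer ((P : Subgroup G) : Set G)) = e ∧ Nat.card P = p ∧ e ∣ p - 1 ∧ e ≠ 1 ∧ 0 < e ∧
        e * t + 1 = p ∧ PrimePrincipal M P e X Y a δ ∧ (oneChar : IrrCharacter G) ∈ X ∧ a oneChar = 1 ∧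
        Y.card = t ∧ θ ∈ Y := by
  obtain ⟨P, n, e, k, hP, -, -, hnek, -, -, hep, he1, he⟩ := data (G := G) hm hp hm1
  have he0 : 0 < e := Nat.pos_of_ne_zero fun h => by rw [h, mul_zero, zero_mul] at hnek; omega
  obtain ⟨t, ht⟩ := hep
  have ht0 : 0 < t := Nat.pos_of_ne_zero fun h => by rw [h, mul_zero] at ht; omega
  obtain ⟨M, hM⟩ := exists_pModular (Fact.out : p.Prime)
  obtain ⟨X, Y, a, δ, h, h1X, hone, hYc⟩ :=
    Solv.BReyn.exists_principal_one_mem hM hP he (by omega) ht0 (by omega)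
  obtain ⟨θ, hθ⟩ : Y.Nonempty := Finset.card_pos.1 (by omega)
  exact ⟨P, e, t, M, X, Y, a, δ, θ, he, hP, ⟨t, ht⟩, he1, he0, by omega, h, h1X, hone, hYc, hθ⟩

theorem Table.seven : (∀ g : G, ¬ 7 ∣ orderOf g →
    (T.c 0 : G → ℂ) g - (T.c 15 : G → ℂ) g + (T.c 16 : G → ℂ) g = (T.c 13 : G → ℂ) g ∧
      (T.c 14 : G → ℂ) g = (T.c 13 : G → ℂ) g) ∧
    ∀ P : Sylow 7 G, (Subgroup.centralizer ((P : Subgroup G) : Set G)).relIndex
      (Subgroup.normalizer ((P : Subgroup G) : Set G)) = 3 := by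
  classical
  haveI : Fact (Nat.Prime 7) := ⟨by norm_num⟩
  obtain ⟨P, e, t, M, X, Y, a, δ, θ, he, hP, hep, he1, he0, het, h, h1X, hone, hYc, hθ⟩ :=
    T.exists_rows (p := 7) (m := 1457280) (by rw [T.card]) (by norm_num) (by norm_num) (by norm_num)
  have hel : e = 2 ∨ e = 3 ∨ e = 6 := by
    have : e ≤ 6 := Nat.le_of_dvd (by norm_num) hep
    interval_cases e <;> simp_all
  have hdouble : e * 2 ≠ 7 := by omega
  have hr := mem_blkRows h (by norm_num) he0 (by omega) hdouble h1X hone (fun χ hne => T.allowed hne) hθ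
  have ht : 6 / e = Y.card := by rcases hel with rfl | rfl | rfl <;> omega
  have hcnt := fun d => le_trans (full_le h h1X hθ d) (T.cnt_tgt d)
  have ht7 := List.all_eq_true.1 (List.all_eq_true.1 seven_rows_table e (by simpa using hel)) _ hr
  rw [ht] at ht7
  rw [List.all_eq_true.2 fun d _ => decide_eq_true (hcnt d)] at ht7
  simp only [Bool.not_true, Bool.false_or, Bool.and_eq_true, beq_iff_eq] at ht7
  obtain ⟨rfl, hrow⟩ := ht7
  obtain ⟨hXl, hθd⟩ := Prod.ext_iff.1 hrow
  simp only at hXl hθd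
  have hidx : ∀ i, T.c i ∈ X.erase oneChar ↔ (i = 15 ∨ i = 16) := by
    have hX : X.erase oneChar = ({15, 16} : Finset (Fin 17)).image T.c := by
      refine Finset.eq_of_subset_of_card_le (fun χ hχ => ?_) ?_
      · obtain ⟨i, rfl⟩ := T.bij.2 χ
        have hd : dg (T.c i) ∈ sortedDegs (X.erase oneChar) := by
          rw [← Multiset.mem_coe, sortedDegs_coe]; exact Multiset.mem_map_of_mem _ hχ
        rw [hXl, T.dg_eq] at hd
        exact Finset.mem_image.2 ⟨i, (by decide : ∀ j : Fin 17, tgt17 j ∈ [1035, 2024] →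
          j ∈ ({15, 16} : Finset (Fin 17))) i hd, rfl⟩
      · rw [Finset.card_erase_of_mem h1X, h.cardX, Finset.card_image_of_injective _ T.bij.1]; decide
    intro i
    rw [hX, Finset.mem_image]
    refine ⟨fun ⟨j, hj, e'⟩ => by obtain rfl := T.bij.1 e'; simpa using hj, fun hi => ⟨i, by simpa using hi, rfl⟩⟩
  have hXe : X.erase oneChar = ({T.c 15, T.c 16} : Finset (IrrCharacter G)) := by
    ext χ
    obtain ⟨i, rfl⟩ := T.bij.2 χ
    simp only [hidx, Finset.mem_insert, Finset.mem_singleton, T.bij.1.eq_iff]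
  have hYe : ∀ i : Fin 17, i = 13 ∨ i = 14 → T.c i ∈ Y := by
    have hYd : ∀ χ ∈ Y, dg χ = 990 := fun χ hχ => by
      have h1 := h.regY χ hχ θ hθ 1 (by rw [orderOf_one]; norm_num)
      rw [val_one, val_one] at h1
      rw [← hθd]
      exact_mod_cast h1
    have hY : Y = ({13, 14} : Finset (Fin 17)).image T.c := by
      refine Finset.eq_of_subset_of_card_le (fun χ hχ => ?_) ?_
      · obtain ⟨i, rfl⟩ := T.bij.2 χ
        have hd := hYd _ hχ
        rw [T.dg_eq] at hd
        exact Finset.mem_image.2 ⟨i, (by decide : ∀ j : Fin 17, tgt17 j = 990 →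
          j ∈ ({13, 14} : Finset (Fin 17))) i hd, rfl⟩
      · rw [← ht, Finset.card_image_of_injective _ T.bij.1]; decide
    intro i hi
    rw [hY]
    exact Finset.mem_image.2 ⟨i, by simpa using hi, rfl⟩
  have hδ : δ = if dg θ % 7 = 3 % 7 then 1 else -1 := delta_eq h (by norm_num) (by norm_num) hdouble hθ
  rw [hθd] at hδ
  norm_num at hδ
  refine ⟨fun g hg => ⟨?_, h.regY _ (hYe 14 (Or.inr rfl)) _ (hYe 13 (Or.inl rfl)) g hg⟩, fun Q => ?_⟩
  · have h13 := hYe 13 (Or.inl rfl)
    have h2 := h.rel _ h13 g hg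
    rw [← Finset.add_sum_erase X _ h1X, hone, hXe,
      Finset.sum_pair (fun e' => absurd (T.bij.1 e') (by decide))] at h2
    have ha : a (T.c 15) = -1 ∧ a (T.c 16) = 1 := by
      have h15 := (Finset.mem_erase.1 ((hidx 15).2 (Or.inl rfl))).2
      have h16 := (Finset.mem_erase.1 ((hidx 16).2 (Or.inr rfl))).2
      rw [a_eq h (by norm_num) h15, a_eq h (by norm_num) h16, T.dg_eq, T.dg_eq]
      decide
    rw [hδ, ha.1, ha.2, ← T.c_zero] at h2
    push_cast at h2
    linear_combination -h2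
  · obtain ⟨g, hg⟩ := MulAction.exists_smul_eq G P Q
    rw [← hg, ← he]
    set φ := MulAut.conj g with hφ
    have hmap : ((g • P : Sylow 7 G) : Subgroup G) = (P : Subgroup G).map φ.toMonoidHom := by
      rw [Sylow.smul_def, Sylow.pointwise_smul_def]; rfl
    have hc : Subgroup.centralizer (((P : Subgroup G).map φ.toMonoidHom : Subgroup G) : Set G) =
        (Subgroup.centralizer ((P : Subgroup G) : Set G)).map φ.toMonoidHom := by
      ext x
      rw [Subgroup.mem_map_equiv, Subgroup.mem_centralizer_iff, Subgroup.mem_centralizer_iff]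
      constructor
      · intro hx y hy
        have := congrArg φ.symm (hx (φ y) ⟨y, hy, rfl⟩)
        simpa using this
      · rintro hx _ ⟨y, hy, rfl⟩
        have := congrArg φ (hx y hy)
        simpa using this
    rw [hmap, hc, ← Subgroup.map_equiv_normalizer_eq, Subgroup.relIndex_map_map_of_injective _ _ φ.injective]

theorem Table.five_row : ∃ i : Fin 17, (i = 5 ∨ i = 6 ∨ i = 7) ∧ ∀ g : G, ¬ 5 ∣ orderOf g →
    (T.c 0 : G → ℂ) g + (T.c i : G → ℂ) g + (T.c 11 : G → ℂ) g + (T.c 12 : G → ℂ) g = (T.c 16 : G → ℂ) g := by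
  classical
  haveI : Fact (Nat.Prime 5) := ⟨by norm_num⟩
  obtain ⟨P, e, t, M, X, Y, a, δ, θ, he, hP, hep, he1, he0, het, h, h1X, hone, hYc, hθ⟩ :=
    T.exists_rows (p := 5) (m := 2040192) (by rw [T.card]) (by norm_num) (by norm_num) (by norm_num)
  have hel : e = 2 ∨ e = 4 := by
    have : e ≤ 4 := Nat.le_of_dvd (by norm_num) hep
    interval_cases e <;> simp_all
  have hr := mem_blkRows h (by norm_num) he0 (by omega) (by omega) h1X hone (fun χ hne => T.allowed hne) hθ
  rcases hel with rfl | rfl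
  · rw [five_two] at hr; simp at hr
  have ht : Y.card = 1 := by omega
  have hcnt := fun d => le_trans (full_le h h1X hθ d) (T.cnt_tgt d)
  have ht5 := List.all_eq_true.1 five_rows_table _ hr
  rw [ht] at hcnt
  rw [List.all_eq_true.2 fun d _ => decide_eq_true (hcnt d)] at ht5
  simp only [Bool.not_true, Bool.false_or, List.contains_iff_mem] at ht5
  set S := X.erase oneChar ∪ Y with hS
  have hY : Y = {θ} := by
    obtain ⟨θ', e'⟩ := Finset.card_eq_one.1 ht
    rw [e', Finset.mem_singleton.1 (e' ▸ hθ : θ ∈ ({θ'} : Finset _))]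
  have hfull : ∀ d, (S.filter fun χ => dg χ = d).card = [231, 896, 896, 2024].count d := fun d => by
    rw [hS, ← full_count h hθ d, ht]
    simp only [List.mem_cons, List.not_mem_nil, or_false] at ht5
    rcases ht5 with e' | e' | e' <;> rw [e'] <;> (refine List.Perm.count_eq ?_ d) <;> decide
  obtain ⟨φ, hφ⟩ : ∃ φ, φ ∈ S.filter fun χ => dg χ = 231 := Finset.card_pos.1 (by rw [hfull]; decide)
  obtain ⟨i, rfl⟩ := T.bij.2 φ
  obtain ⟨hiS, hi231⟩ := Finset.mem_filter.1 hφ
  rw [T.dg_eq] at hi231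
  have hi : i = 5 ∨ i = 6 ∨ i = 7 := (by decide : ∀ j : Fin 17, tgt17 j = 231 → j = 5 ∨ j = 6 ∨ j = 7) i hi231
  refine ⟨i, hi, fun g hg => ?_⟩
  have hdegS : ∀ χ ∈ S, dg χ ∈ [231, 896, 896, 2024] := fun χ hχ => by
    have hpos : 0 < (S.filter fun ψ => dg ψ = dg χ).card :=
      Finset.card_pos.2 ⟨χ, Finset.mem_filter.2 ⟨hχ, rfl⟩⟩
    rwa [hfull, List.count_pos_iff] at hpos
  have hSe : S = ({T.c i, T.c 11, T.c 12, T.c 16} : Finset (IrrCharacter G)) := by
    refine Finset.eq_of_subset_of_card_le (fun χ hχ => ?_) ?_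
    · obtain ⟨j, rfl⟩ := T.bij.2 χ
      have hd := hdegS _ hχ
      rw [T.dg_eq] at hd
      simp only [Finset.mem_insert, Finset.mem_singleton, T.bij.1.eq_iff]
      by_cases hj : tgt17 j = 231
      · left
        by_contra hne
        have h2 : ({T.c j, T.c i} : Finset (IrrCharacter G)) ⊆ S.filter fun ψ => dg ψ = 231 := fun ψ hψ => by
          rcases Finset.mem_insert.1 hψ with e' | e'
          · exact Finset.mem_filter.2 ⟨e' ▸ hχ, by rw [e', T.dg_eq, hj]⟩
          · rw [Finset.mem_singleton.1 e']; exact hφ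
        have h3 := Finset.card_le_card h2
        rw [hfull, Finset.card_pair (fun e' => hne (T.bij.1 e'))] at h3
        revert h3; decide
      · right
        exact (by decide : ∀ j : Fin 17, tgt17 j ∈ [231, 896, 896, 2024] → ¬tgt17 j = 231 →
          j = 11 ∨ j = 12 ∨ j = 16) j hd hj
    · have hXY : Disjoint (X.erase oneChar) Y := h.disj.mono_left (Finset.erase_subset _ _)
      rw [hS, Finset.card_union_of_disjoint hXY, Finset.card_erase_of_mem h1X, h.cardX, ht]
      refine (Finset.card_insert_le _ _).trans ?_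
      refine Nat.add_le_add_right ((Finset.card_insert_le _ _).trans ?_) 1
      refine Nat.add_le_add_right ((Finset.card_insert_le _ _).trans ?_) 1
      simp
  -- all signs are given by the residues
  let w : IrrCharacter G → ℂ := fun χ => if dg χ % 5 = 1 then 1 else -1
  have hzero : 1 + ∑ χ ∈ S, w χ * (χ : G → ℂ) g = 0 := by
    have hδ : δ = if dg θ % 5 = 4 % 5 then 1 else -1 := delta_eq h (by norm_num) (by norm_num) (by norm_num) hθ
    have hres := (sgnE_eq h (by norm_num) (by norm_num : 4 < 5) (by norm_num) hθ).1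
    have h2 := h.rel θ hθ g hg
    rw [← Finset.add_sum_erase X _ h1X, hone] at h2
    rw [hS, Finset.sum_union (h.disj.mono_left (Finset.erase_subset _ _)), hY, Finset.sum_singleton,
      Finset.sum_congr rfl (g := fun χ => (a χ : ℂ) * (χ : G → ℂ) g) fun χ hχ => by
        rw [a_eq h (by norm_num) (Finset.mem_erase.1 hχ).2]; simp only [w]; split_ifs <;> norm_num]
    have hw : w θ = -(δ : ℂ) := by
      rw [hδ]; simp only [w]
      rcases hres with e' | e' <;> rw [e'] <;> norm_num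
    have h1g : ((oneChar : IrrCharacter G) : G → ℂ) g = 1 := rfl
    rw [h1g, Int.cast_one, one_mul] at h2
    rw [hw]
    linear_combination -h2
  have hne : ∀ j k : Fin 17, j ≠ k → T.c j ≠ T.c k := fun j k hjk e' => hjk (T.bij.1 e')
  have hi11 : i ≠ 11 ∧ i ≠ 12 ∧ i ≠ 16 := by rcases hi with rfl | rfl | rfl <;> decide
  rw [hSe, Finset.sum_insert (by simp [hne _ _ hi11.1, hne _ _ hi11.2.1, hne _ _ hi11.2.2]),
    Finset.sum_insert (by simp [hne 11 12 (by decide), hne 11 16 (by decide)]),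
    Finset.sum_insert (by simp [hne 12 16 (by decide)]), Finset.sum_singleton] at hzero
  simp only [w, T.dg_eq] at hzero
  rw [hi231] at hzero
  have h0 : (T.c 0 : G → ℂ) g = 1 := by rw [T.c_zero]; rfl
  rw [show tgt17 11 = 896 from rfl, show tgt17 12 = 896 from rfl, show tgt17 16 = 2024 from rfl] at hzero
  norm_num at hzero
  rw [h0]
  linear_combination hzero

/-- The character data. -/
theorem Table.exists_cols : Nonempty (Cols G) := by
  classical
  obtain ⟨i, hi, h5⟩ := T.five_row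
  obtain ⟨h7, hidx⟩ := T.seven
  obtain ⟨hX23, hY23⟩ := T.block_eq T.B23 {1, 2, 3, 5, 6, 7, 11, 12, 13, 14} {9, 10} (by decide) (by decide)
    (by decide)
  obtain ⟨hX11, hY11⟩ := T.block_eq T.B11 {2, 3, 4, 15} {11, 12} (by decide) (by decide) (by decide)
  have hY23' : ∀ j : Fin 17, j = 9 ∨ j = 10 → T.c j ∈ T.B23.Y := fun j hj => by
    rw [hY23]; exact Finset.mem_image.2 ⟨j, by simpa using hj, rfl⟩
  have hY11' : ∀ j : Fin 17, j = 11 ∨ j = 12 → T.c j ∈ T.B11.Y := fun j hj => by
    rw [hY11]; exact Finset.mem_image.2 ⟨j, by simpa using hj, rfl⟩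
  have hsum : ∀ {p e : ℕ} [Fact p.Prime] (B : SelfBlk p e G) (SX : Finset (Fin 17)),
      B.X.erase oneChar = SX.image T.c → ∀ f : IrrCharacter G → ℂ,
        ∑ χ ∈ B.X, (B.a χ : ℂ) * f χ = f oneChar +
          ∑ j ∈ SX, (if tgt17 j % p = 1 then (1 : ℂ) else -1) * f (T.c j) := fun {p e} _ B SX hB f => by
    rw [← Finset.add_sum_erase B.X _ B.one_mem, B.one_sign, Int.cast_one, one_mul,
      Finset.sum_congr rfl (g := fun χ => (if dg χ % p = 1 then (1 : ℂ) else -1) * f χ) fun χ hχ => by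
        rw [a_eq B.pp B.two_lt (Finset.mem_erase.1 hχ).2]; split_ifs <;> norm_num,
      hB, Finset.sum_image fun x _ y _ h => T.bij.1 h]
    simp only [T.dg_eq]
  have hc0 : ∀ g : G, (T.c 0 : G → ℂ) g = 1 := fun g => by rw [T.c_zero]; rfl
  have h1g : ∀ g : G, ((oneChar : IrrCharacter G) : G → ℂ) g = 1 := fun _ => rfl
  let σ : Equiv.Perm (Fin 17) := Equiv.swap 5 i
  have hσfix : ∀ j : Fin 17, j ≠ 5 → j ≠ 6 → j ≠ 7 → σ j = j := fun j a5 a6 a7 =>
    Equiv.swap_apply_of_ne_of_ne a5 (by rcases hi with rfl | rfl | rfl <;> assumption)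
  have e0 := hσfix 0 (by decide) (by decide) (by decide)
  have e1 := hσfix 1 (by decide) (by decide) (by decide)
  have e2 := hσfix 2 (by decide) (by decide) (by decide)
  have e3 := hσfix 3 (by decide) (by decide) (by decide)
  have e4 := hσfix 4 (by decide) (by decide) (by decide)
  have e9 := hσfix 9 (by decide) (by decide) (by decide)
  have e10 := hσfix 10 (by decide) (by decide) (by decide)
  have e11 := hσfix 11 (by decide) (by decide) (by decide)
  have e12 := hσfix 12 (by decide) (by decide) (by decide)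
  have e13 := hσfix 13 (by decide) (by decide) (by decide)
  have e14 := hσfix 14 (by decide) (by decide) (by decide)
  have e15 := hσfix 15 (by decide) (by decide) (by decide)
  have e16 := hσfix 16 (by decide) (by decide) (by decide)
  refine ⟨{
    c := fun j => T.c (σ j)
    card := T.card
    bij := T.bij.comp σ.bijective
    c_zero := by rw [e0]; exact T.c_zero
    deg := fun j => ?_
    rel23 := fun g hg => ?_
    rel11 := fun g hg => ?_
    rel7 := fun g hg => by simpa only [e0, e13, e14, e15, e16] using h7 g hg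
    rel5 := fun g hg => ?_
    quad := fun t ht => ?_
    cdvd := fun g hg ha hb => cent_dvd T.card g hg ha hb
    cent23 := fun y hy => cent_twentythree T.card hy
    seven_index := hidx }⟩
  · have := T.dg_eq (σ j)
    rw [show tgt17 (σ j) = tgt17 j from (by decide : ∀ i : Fin 17, (i = 5 ∨ i = 6 ∨ i = 7) → ∀ j : Fin 17,
      tgt17 (Equiv.swap 5 i j) = tgt17 j) i hi j] at this
    exact this
  · refine ⟨?_, ?_⟩
    · have h := T.B23.pp.rel _ (hY23' 9 (Or.inl rfl)) g hg
      rw [hsum T.B23 _ hX23 (fun χ => (χ : G → ℂ) g), delta_eq T.B23.pp (by norm_num) T.B23.e_lt T.B23.double_ne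
        (hY23' 9 (Or.inl rfl)), T.dg_eq, h1g] at h
      simp [tgt17] at h
      simp only [e0, e1, e2, e3, e9, e11, e12, e13, e14, hc0]
      rcases hi with rfl | rfl | rfl <;>
        simp [σ, Equiv.swap_apply_def] <;> linear_combination -h
    · simp only [e9, e10]
      exact T.B23.pp.regY _ (hY23' 10 (Or.inr rfl)) _ (hY23' 9 (Or.inl rfl)) g hg
  · refine ⟨?_, ?_⟩
    · have h := T.B11.pp.rel _ (hY11' 11 (Or.inl rfl)) g hg
      rw [hsum T.B11 _ hX11 (fun χ => (χ : G → ℂ) g), delta_eq T.B11.pp (by norm_num) T.B11.e_lt T.B11.double_ne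
        (hY11' 11 (Or.inl rfl)), T.dg_eq, h1g] at h
      simp [tgt17] at h
      simp only [e0, e2, e3, e4, e11, e15, hc0]
      linear_combination -h
    · simp only [e11, e12]
      exact T.B11.pp.regY _ (hY11' 12 (Or.inr rfl)) _ (hY11' 11 (Or.inl rfl)) g hg
  · have h5g := h5 g hg
    simp only [e0, e11, e12, e16, show σ 5 = i from Equiv.swap_apply_left 5 i]
    exact h5g
  · have h := T.B11.quad (by decide) ht (hY11' 11 (Or.inl rfl))
    rw [hsum T.B11 _ hX11 (fun χ => (χ : G → ℂ) t * (χ : G → ℂ) t / (χ : G → ℂ) 1),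
      delta_eq T.B11.pp (by norm_num) T.B11.e_lt T.B11.double_ne (hY11' 11 (Or.inl rfl)), T.dg_eq, h1g, h1g] at h
    simp only [val_one] at h
    change (1 : ℂ) * 1 / 1 + (∑ j ∈ ({2, 3, 4, 15} : Finset (Fin 17)), (if tgt17 j % 11 = 1 then (1 : ℂ) else -1) *
      ((T.c j : G → ℂ) t * (T.c j : G → ℂ) t / (((dg (T.c j) : ℕ) : ℤ) : ℂ))) -
      ((if tgt17 11 % 11 = 5 % 11 then (1 : ℤ) else -1 : ℤ) : ℂ) *
        ((T.c 11 : G → ℂ) t * (T.c 11 : G → ℂ) t / (((dg (T.c 11) : ℕ) : ℤ) : ℂ)) = 0 at h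
    simp [T.dg_eq, tgt17] at h
    simp only [e2, e3, e4, e11, e15]
    linear_combination h

end Cfsg.Agent.MTwentyThree.ByOrder
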