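import Cfsg.Agent.Lib.Spor.MTwentyThreeOrder.DegreeData
import Cfsg.Agent.Lib.Spor.MTwentyThreeOrder.SylowTwentyThree
import Cfsg.Agent.Lib.Char.BrauerTuan.Pairs

/-!
Principal blocks of Sylow subgroups of prime order, for a group of the order of the Mathieu group of degree
twenty-three.
-/

set_option autoImplicit false
set_option linter.unusedSectionVars false
set_option linter.style.haveILetI false

namespace Cfsg.Agent.MTwentyThree.ByOrder

open Cfsg Cfsg.Agent.Char Cfsg.Agent.Small.Order459648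
open Cfsg.Agent.MTwelve.OrderFront (val_one)
open scoped ComplexConjugate

universe u

variable {G : Type u} [Group G] [Fintype G]

/-- the degree of a character -/
noncomputable def dg (χ : IrrCharacter G) : ℕ := charDegree (χ : G → ℂ)

/-- the sorted degrees of a set of characters -/
noncomputable def sortedDegs (T : Finset (IrrCharacter G)) : List ℕ := (T.val.map dg).sort (· ≤ ·)

theorem sortedDegs_coe (T : Finset (IrrCharacter G)) : ((sortedDegs T : List ℕ) : Multiset ℕ) = T.val.map dg :=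
  Multiset.sort_eq _ _

theorem sortedDegs_length (T : Finset (IrrCharacter G)) : (sortedDegs T).length = T.card := by
  rw [← Multiset.coe_card, sortedDegs_coe, Multiset.card_map]; rfl

theorem sortedDegs_sum (T : Finset (IrrCharacter G)) (f : ℕ → ℤ) :
    ((sortedDegs T).map f).sum = ∑ χ ∈ T, f (dg χ) := by
  rw [← Multiset.sum_coe, ← Multiset.map_coe, sortedDegs_coe, Multiset.map_map]; rfl

theorem mem_sortedDegs {T : Finset (IrrCharacter G)} {d : ℕ} (h : d ∈ sortedDegs T) : ∃ χ ∈ T, dg χ = d := by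
  rw [← Multiset.mem_coe, sortedDegs_coe, Multiset.mem_map] at h
  simpa using h

theorem count_sortedDegs [DecidableEq (IrrCharacter G)] (T : Finset (IrrCharacter G)) (d : ℕ) :
    (sortedDegs T).count d = (T.filter fun χ => dg χ = d).card := by
  rw [← Multiset.coe_count, sortedDegs_coe, Multiset.count_map, Finset.card_def, Finset.filter_val]
  simp [eq_comm]

section Principal

variable {p : ℕ} [hp : Fact p.Prime] {M : Ideal AlgInt} {P : Sylow p G} {e : ℕ}
  {X Y : Finset (IrrCharacter G)} {a : IrrCharacter G → ℤ} {δ : ℤ}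

theorem sgn_eq (h : PrimePrincipal M P e X Y a δ) (hp2 : 2 < p) {χ : IrrCharacter G} (hχ : χ ∈ X) :
    (dg χ % p = 1 ∨ dg χ % p + 1 = p) ∧ a χ * (dg χ : ℤ) = sgn p (dg χ) := by
  have h2 := h.a_congr χ hχ
  change (dg χ : ℤ) ≡ a χ [ZMOD p] at h2
  rcases h.a_sign χ hχ with e' | e' <;> rw [e'] at h2 ⊢
  · have h3 : dg χ % p = 1 := by
      have h4 : ((dg χ % p : ℕ) : ℤ) = ((1 : ℕ) : ℤ) := by
        rw [Int.natCast_mod, Nat.cast_one]
        exact h2.eq.trans (Int.emod_eq_of_lt (by norm_num) (by omega))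
      exact_mod_cast h4
    exact ⟨Or.inl h3, by simp [sgn, h3]⟩
  · have h3 : dg χ % p + 1 = p := by
      have h4 : ((dg χ % p : ℕ) : ℤ) = (p : ℤ) - 1 := by
        rw [Int.natCast_mod, h2.eq, ← Int.add_emod_right]
        exact Int.emod_eq_of_lt (by omega) (by omega) |>.trans (by ring)
      omega
    exact ⟨Or.inr h3, by
      have : dg χ % p ≠ 1 := by omega
      simp [sgn, this]⟩

theorem sgnE_eq (h : PrimePrincipal M P e X Y a δ) (he : 0 < e) (hep : e < p) (hodd : e * 2 ≠ p)
    {θ : IrrCharacter G} (hθ : θ ∈ Y) :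
    (dg θ % p = e % p ∨ dg θ % p = (p - e % p) % p) ∧ δ * (dg θ : ℤ) = sgnE p e (dg θ) := by
  have h2 := h.congrY θ hθ
  change (dg θ : ℤ) ≡ δ * (e : ℤ) [ZMOD p] at h2
  have he' : e % p = e := Nat.mod_eq_of_lt hep
  rcases h.sign with e' | e' <;> rw [e'] at h2 ⊢
  · have h3 : dg θ % p = e := by
      have h4 : ((dg θ % p : ℕ) : ℤ) = (e : ℤ) := by
        rw [Int.natCast_mod, h2.eq, one_mul]
        exact Int.emod_eq_of_lt (by omega) (by omega)
      exact_mod_cast h4
    exact ⟨Or.inl (h3.trans he'.symm), by simp [sgnE, h3, he']⟩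
  · have h3 : dg θ % p + e = p := by
      have h4 : ((dg θ % p : ℕ) : ℤ) = (p : ℤ) - e := by
        rw [Int.natCast_mod, h2.eq, ← Int.add_emod_right]
        exact Int.emod_eq_of_lt (by omega) (by omega) |>.trans (by ring)
      omega
    refine ⟨Or.inr (by rw [he', Nat.mod_eq_of_lt (show p - e < p by omega)]; omega), ?_⟩
    have : dg θ % p ≠ e := by omega
    simp [sgnE, he', this]

/-- The row of degrees of a principal block. -/
theorem mem_blkRows [DecidableEq (IrrCharacter G)] (h : PrimePrincipal M P e X Y a δ) (hp2 : 2 < p) (he : 0 < e)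
    (hep : e < p) (hodd : e * 2 ≠ p) (hone : (oneChar : IrrCharacter G) ∈ X) (hsign : a oneChar = 1)
    (hall : ∀ χ : IrrCharacter G, χ ≠ oneChar → dg χ ∈ allowed) {θ : IrrCharacter G} (hθ : θ ∈ Y) :
    (sortedDegs (X.erase oneChar), dg θ) ∈ blkRows p e := by
  have hθne : θ ≠ oneChar := fun e1 => Finset.disjoint_left.1 h.disj hone (e1 ▸ hθ)
  refine List.mem_flatMap.2 ⟨sortedDegs (X.erase oneChar), ?_, List.mem_map.2 ⟨dg θ, List.mem_filter.2 ⟨?_, ?_⟩, rfl⟩⟩
  · have hlen : (sortedDegs (X.erase oneChar)).length = e - 1 := by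
      rw [sortedDegs_length, Finset.card_erase_of_mem hone, h.cardX]
    rw [← hlen]
    refine mem_sl _ (allowed_sorted.filter _) _ (Multiset.pairwise_sort _ _) fun d hd => ?_
    obtain ⟨χ, hχ, rfl⟩ := mem_sortedDegs hd
    obtain ⟨hne, hχX⟩ := Finset.mem_erase.1 hχ
    exact List.mem_filter.2 ⟨hall χ hne, by simpa using (sgn_eq h hp2 hχX).1⟩
  · exact List.mem_filter.2 ⟨hall θ hθne, by simpa using (sgnE_eq h he hep hodd hθ).1⟩
  · rw [beq_iff_eq, sortedDegs_sum, ← (sgnE_eq h he hep hodd hθ).2,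
      Finset.sum_congr rfl fun χ hχ => (sgn_eq h hp2 (Finset.mem_erase.1 hχ).2).2.symm]
    have h2 := h.rel θ hθ 1 (by rw [orderOf_one]; exact hp.out.not_dvd_one)
    rw [← Finset.add_sum_erase X _ hone, hsign] at h2
    simp only [val_one] at h2
    have h3 : ((δ * (dg θ : ℤ) : ℤ) : ℂ) =
        ((1 + ∑ χ ∈ X.erase oneChar, a χ * (dg χ : ℤ) : ℤ) : ℂ) := by
      push_cast at h2 ⊢
      simp only [dg, oneChar, charDegree] at h2 ⊢
      simpa using h2
    exact (by exact_mod_cast h3.symm)

end Principal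

/-- The principal block of a self-centralising Sylow subgroup of prime order. -/
structure SelfBlk (p e : ℕ) [Fact p.Prime] (G : Type u) [Group G] [Fintype G] where
  /-- the Sylow subgroup -/
  P : Sylow p G
  /-- the maximal ideal -/
  M : Ideal AlgInt
  /-- the non-exceptional characters -/
  X : Finset (IrrCharacter G)
  /-- the exceptional characters -/
  Y : Finset (IrrCharacter G)
  /-- the signs -/
  a : IrrCharacter G → ℤ
  /-- the sign of the exceptional characters -/
  δ : ℤ
  cardP : Nat.card P = p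
  cent : Nat.card (Subgroup.centralizer ((P : Subgroup G) : Set G)) = p
  index : (Subgroup.centralizer ((P : Subgroup G) : Set G)).relIndex
    (Subgroup.normalizer ((P : Subgroup G) : Set G)) = e
  modular : IsPModular p M
  pp : PrimePrincipal M P e X Y a δ
  one_mem : (oneChar : IrrCharacter G) ∈ X
  one_sign : a oneChar = 1
  cardY : e * Y.card + 1 = p
  two_le : 2 ≤ e
  vanish : ∀ χ : IrrCharacter G, χ ∉ X → χ ∉ Y → ∀ y ∈ nonOne P, (χ : G → ℂ) (y : G) = 0
  dvd_rest : ∀ χ : IrrCharacter G, χ ∉ X → χ ∉ Y → p ∣ charDegree (χ : G → ℂ)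

theorem exists_selfBlk {p : ℕ} [Fact p.Prime] {e t : ℕ} (he2 : 2 ≤ e) (ht : 0 < t) (het : e * t + 1 = p)
    (P : Sylow p G) (hP : Nat.card P = p)
    (hC : Nat.card (Subgroup.centralizer ((P : Subgroup G) : Set G)) = p)
    (he : (Subgroup.centralizer ((P : Subgroup G) : Set G)).relIndex
      (Subgroup.normalizer ((P : Subgroup G) : Set G)) = e) :
    Nonempty (SelfBlk p e G) := by
  classical
  have hp : p.Prime := Fact.out
  obtain ⟨M, hM⟩ := exists_pModular hp
  obtain ⟨X, Y, a, δ, h, h1X, hone, hYc⟩ := Solv.BReyn.exists_principal_one_mem hM hP he he2 ht het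
  have hfrob : FrobSylow P e := he ▸ frobSylow_of_prime hP
  have hC' : Subgroup.centralizer ((P : Subgroup G) : Set G) = (P : Subgroup G) := by
    refine (Subgroup.eq_of_le_of_card_ge ?_ (le_of_eq (hC.trans hP.symm))).symm
    intro g hg
    rw [Subgroup.mem_centralizer_iff]
    intro b hb
    haveI : IsCyclic ↥(P : Subgroup G) := isCyclic_of_prime_card hP
    exact congrArg Subtype.val (IsCyclic.commutative.is_comm.comm (⟨b, hb⟩ : ↥(P : Subgroup G)) ⟨g, hg⟩)
  have hvan : ∀ χ : IrrCharacter G, χ ∉ X → χ ∉ Y → ∀ y ∈ nonOne P, (χ : G → ℂ) (y : G) = 0 := by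
    intro χ hX hY y hy
    have hy1 : (y : G) ≠ 1 := mem_nonOne.mp hy
    have hCy : Subgroup.centralizer ({(y : G)} : Set G) = (P : Subgroup G) := by
      rw [← centralizer_zpowers_eq, eq_zpowers_of_prime_sylow hP y.2 hy1, hC']
    have hχ : χ ∉ principalBlock M G := fun h' => by
      rcases (h.mem_iff χ).mp h' with h'' | h''
      · exact hX h''
      · exact hY h''
    have h0 := hfrob.nonprincipal_sum_zero hM hχ hy1
    rw [Finset.sum_eq_single (1 : Subgroup.centralizer ({(y : G)} : Set G))] at h0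
    · simpa using h0
    · intro v hv hv1
      exfalso
      have hvP : (v : G) ∈ (P : Subgroup G) := (SetLike.ext_iff.mp hCy _).mp v.2
      have h2 := (P : Subgroup G).orderOf_dvd_natCard hvP
      rw [show Nat.card (P : Subgroup G) = p from hP] at h2
      have h3 : orderOf (v : G) = p :=
        ((Nat.dvd_prime hp).mp h2).resolve_left fun h4 => hv1 (Subtype.ext (orderOf_eq_one_iff.mp h4))
      rw [Subgroup.orderOf_coe] at h3
      exact (Finset.mem_filter.mp hv).2 (dvd_of_eq h3.symm)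
    · intro h1
      exact absurd (Finset.mem_filter.mpr ⟨Finset.mem_univ _, by simp [hp.ne_one]⟩) h1
  refine ⟨⟨P, M, X, Y, a, δ, hP, hC, he, hM, h, h1X, hone, by rw [hYc]; exact het, he2, hvan, fun χ hX hY => ?_⟩⟩
  obtain ⟨n, hn⟩ := exists_sum_on_sylow (P := P) χ
  rw [Finset.sum_eq_single (1 : ↥(P : Subgroup G))] at hn
  · rw [OneMemClass.coe_one, char_one_eq_deg (irr_isCharacter χ.2), hP] at hn
    exact ⟨n, by exact_mod_cast hn⟩
  · exact fun y _ hy => hvan χ hX hY y (mem_nonOne.mpr fun e1 => hy (Subtype.ext e1))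
  · exact fun h1 => absurd (Finset.mem_univ _) h1

namespace SelfBlk

variable {p e : ℕ} [hp : Fact p.Prime] (B : SelfBlk p e G)
include B

theorem e_lt : e < p := by
  have h := B.cardY
  have : 0 < B.Y.card := Nat.pos_of_ne_zero fun h0 => by rw [h0] at h; have := hp.out.two_le; omega
  have : e ≤ e * B.Y.card := Nat.le_mul_of_pos_right _ this
  omega

theorem two_lt : 2 < p := by
  have := B.e_lt
  have := B.two_le
  omega

theorem double_ne : e * 2 ≠ p := fun h => by
  have h2 : 2 ∣ p := ⟨e, by omega⟩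
  have := (Nat.prime_dvd_prime_iff_eq Nat.prime_two hp.out).1 h2
  have := B.two_lt
  omega

theorem mem_iff {χ : IrrCharacter G} : (χ ∈ B.X ∨ χ ∈ B.Y) ↔ ¬ p ∣ dg χ := by
  refine ⟨fun h hd => ?_, fun h => ?_⟩
  · have h0 : dg χ % p = 0 := Nat.mod_eq_zero_of_dvd hd
    have := B.two_lt
    rcases h with hX | hY
    · have := (sgn_eq B.pp B.two_lt hX).1
      omega
    · have := B.two_le
      have := B.e_lt
      have h1 := (sgnE_eq B.pp (by omega) B.e_lt B.double_ne hY).1
      rw [Nat.mod_eq_of_lt B.e_lt, Nat.mod_eq_of_lt (show p - e < p by omega)] at h1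
      omega
  · by_contra hcon
    rw [not_or] at hcon
    exact h (B.dvd_rest χ hcon.1 hcon.2)

theorem exists_Y : ∃ θ, θ ∈ B.Y := by
  refine Finset.card_pos.1 (Nat.pos_of_ne_zero fun h0 => ?_)
  have h := B.cardY
  rw [h0] at h
  have := hp.out.two_le
  omega

/-- The block relation for an involution, with no pair of involutions giving an element of the Sylow subgroup. -/
theorem quad (he : Odd e) {t : G} (ht : orderOf t = 2) {θ : IrrCharacter G} (hθ : θ ∈ B.Y) :
    ∑ χ ∈ B.X, (B.a χ : ℂ) * ((χ : G → ℂ) t * (χ : G → ℂ) t / (χ : G → ℂ) 1) -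
      (B.δ : ℂ) * ((θ : G → ℂ) t * (θ : G → ℂ) t / (θ : G → ℂ) 1) = 0 := by
  classical
  have hpt : ¬ p ∣ orderOf t := fun h => by
    rw [ht] at h
    have := Nat.le_of_dvd (by norm_num) h
    have := B.two_lt
    omega
  obtain ⟨y, hy⟩ := SmallOrderGraph.nonOne_nonempty B.P B.cardP
  have hR : ((Finset.univ : Finset (G × G)).filter fun w => w.1 * t * w.1⁻¹ * (w.2 * t * w.2⁻¹) = (y : G)).card = 0 := by
    rw [Finset.card_eq_zero, Finset.filter_eq_empty_iff]
    rintro ⟨t1, t2⟩ - heq
    set s := t1 * t * t1⁻¹ with hs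
    set r := t2 * t * t2⁻¹ with hr
    have hy1 : (y : G) ≠ 1 := mem_nonOne.1 hy
    have hss : s * s = 1 := by
      rw [hs, show t1 * t * t1⁻¹ * (t1 * t * t1⁻¹) = t1 * t ^ 2 * t1⁻¹ by rw [sq]; group, ← ht, pow_orderOf_eq_one]
      group
    have hrr : r * r = 1 := by
      rw [hr, show t2 * t * t2⁻¹ * (t2 * t * t2⁻¹) = t2 * t ^ 2 * t2⁻¹ by rw [sq]; group, ← ht, pow_orderOf_eq_one]
      group
    have hinv : s * (y : G) * s⁻¹ = (y : G)⁻¹ := by
      rw [inv_eq_of_mul_eq_one_right hss, ← heq]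
      refine Eq.trans ?_ (mul_inv_rev s r).symm
      rw [inv_eq_of_mul_eq_one_right hss, inv_eq_of_mul_eq_one_right hrr]
      calc s * (s * r) * s = s * s * r * s := by group
        _ = r * s := by rw [hss, one_mul]
    have hzp := eq_zpowers_of_prime_sylow B.cardP y.2 hy1
    have hsN : s ∈ Subgroup.normalizer ((B.P : Subgroup G) : Set G) := by
      rw [Subgroup.mem_normalizer_iff]
      have hmem : ∀ x ∈ (B.P : Subgroup G), s * x * s⁻¹ ∈ (B.P : Subgroup G) := by
        intro x hx
        rw [← hzp] at hx ⊢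
        obtain ⟨j, rfl⟩ := hx
        refine ⟨-j, ?_⟩
        show (y : G) ^ (-j) = _
        rw [zpow_neg, ← inv_zpow, ← hinv, conj_zpow]
      refine fun x => ⟨hmem x, fun hx => ?_⟩
      have := hmem _ hx
      rw [inv_eq_of_mul_eq_one_right hss] at this
      rwa [show s * (s * x * s) * s = s * s * x * (s * s) by group, hss, one_mul, mul_one] at this
    have hN : Nat.card (Subgroup.normalizer ((B.P : Subgroup G) : Set G)) = p * e := by
      have h := Subgroup.card_mul_index ((Subgroup.centralizer ((B.P : Subgroup G) : Set G)).subgroupOf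
        (Subgroup.normalizer ((B.P : Subgroup G) : Set G)))
      rw [Solv.card_subgroupOf (Subgroup.centralizer_le_normalizer _), B.cent] at h
      rw [← h, show ((Subgroup.centralizer ((B.P : Subgroup G) : Set G)).subgroupOf
        (Subgroup.normalizer ((B.P : Subgroup G) : Set G))).index = e from B.index]
    have hos : orderOf s = 2 := by
      rw [hs, ← MulAut.conj_apply, ← MulEquiv.coe_toMonoidHom, orderOf_injective _ (MulAut.conj t1).injective, ht]
    have h2 := Subgroup.orderOf_dvd_natCard _ hsN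
    rw [hN, hos] at h2
    rcases Nat.prime_two.dvd_mul.1 h2 with h | h
    · have := (Nat.prime_dvd_prime_iff_eq Nat.prime_two hp.out).1 h
      have := B.two_lt
      omega
    · exact absurd (even_iff_two_dvd.2 h) (Nat.not_even_iff_odd.2 he)
  have h1 := BrauerTuan.pairs_formula_two t t (y : G)
  rw [hR, Nat.cast_zero, eq_comm, mul_eq_zero] at h1
  have h0 := h1.resolve_left (Nat.cast_ne_zero.2 Nat.card_pos.ne')
  rw [← Finset.sum_subset (Finset.subset_univ (B.X ∪ B.Y)) (fun χ _ hχ => by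
    rw [Finset.mem_union, not_or] at hχ
    rw [B.vanish χ hχ.1 hχ.2 y hy, map_zero, zero_mul]), Finset.sum_union B.pp.disj] at h0
  rw [Finset.sum_congr rfl (g := fun χ => (B.a χ : ℂ) * ((χ : G → ℂ) t * (χ : G → ℂ) t / (χ : G → ℂ) 1))
    (fun χ hχ => by rw [B.pp.a_val χ hχ y hy, map_intCast])] at h0
  rw [Finset.sum_congr rfl (s₁ := B.Y) (g := fun χ : IrrCharacter G => conj ((χ : G → ℂ) y) *
      ((θ : G → ℂ) t * (θ : G → ℂ) t / (θ : G → ℂ) 1))
    (fun χ hχ => by rw [B.pp.regY χ hχ θ hθ t hpt,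
      B.pp.regY χ hχ θ hθ 1 (by rw [orderOf_one]; exact hp.out.not_dvd_one)]),
    ← Finset.sum_mul, ← map_sum, Solv.BReyn.sum_exc B.modular B.cardP B.pp ⟨θ, hθ⟩ hy, map_neg, map_intCast] at h0
  rw [← h0]
  ring

end SelfBlk

end Cfsg.Agent.MTwentyThree.ByOrder
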