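import Cfsg.Agent.Lib.Spor.MTwentyThreeOrder.Scan
import Cfsg.Agent.Lib.Spor.MTwentyTwoOrder.Vals

/-!
The centralisers of involutions and of elements of order three in a simple group with the degrees and the principal
blocks of the Mathieu group of degree twenty-three.
-/

set_option autoImplicit false
set_option linter.unusedSectionVars false
set_option linter.style.haveILetI false
set_option maxRecDepth 4000
set_option maxHeartbeats 1000000

namespace Cfsg.Agent.MTwentyThree.ByOrder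

open Cfsg Cfsg.Agent.Char
open Cfsg.Agent.MTwelve.OrderFront (val_one class_dvd natAbs_lt one_add_sq_le int_value)
open Cfsg.Agent.Small.Order459648 (perfect oneChar)
open scoped ComplexConjugate

universe u

variable {G : Type u} [Group G] [Fintype G]

/-- What is used of the character table. -/
structure Cols (G : Type u) [Group G] [Fintype G] where
  /-- the characters -/
  c : Fin 17 → IrrCharacter G
  card : Nat.card G = 10200960
  bij : Function.Bijective c
  c_zero : c 0 = oneChar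
  deg : ∀ i : Fin 17, charDegree (c i : G → ℂ) = (![1, 22, 45, 45, 230, 231, 231, 231, 253, 770, 770, 896, 896, 990, 990, 1035, 2024] : Fin 17 → ℕ) i
  rel23 : ∀ g : G, ¬ 23 ∣ orderOf g →
    (c 0 : G → ℂ) g - (c 1 : G → ℂ) g - (c 2 : G → ℂ) g - (c 3 : G → ℂ) g + (c 5 : G → ℂ) g + (c 6 : G → ℂ) g +
      (c 7 : G → ℂ) g - (c 11 : G → ℂ) g - (c 12 : G → ℂ) g + (c 13 : G → ℂ) g + (c 14 : G → ℂ) g = (c 9 : G → ℂ) g ∧
    (c 10 : G → ℂ) g = (c 9 : G → ℂ) g
  rel11 : ∀ g : G, ¬ 11 ∣ orderOf g →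
    (c 0 : G → ℂ) g + (c 2 : G → ℂ) g + (c 3 : G → ℂ) g - (c 4 : G → ℂ) g + (c 15 : G → ℂ) g = (c 11 : G → ℂ) g ∧
    (c 12 : G → ℂ) g = (c 11 : G → ℂ) g
  rel7 : ∀ g : G, ¬ 7 ∣ orderOf g →
    (c 0 : G → ℂ) g - (c 15 : G → ℂ) g + (c 16 : G → ℂ) g = (c 13 : G → ℂ) g ∧ (c 14 : G → ℂ) g = (c 13 : G → ℂ) g
  rel5 : ∀ g : G, ¬ 5 ∣ orderOf g →
    (c 0 : G → ℂ) g + (c 5 : G → ℂ) g + (c 11 : G → ℂ) g + (c 12 : G → ℂ) g = (c 16 : G → ℂ) g
  quad : ∀ t : G, orderOf t = 2 →
    1 + ((c 2 : G → ℂ) t ^ 2 + (c 3 : G → ℂ) t ^ 2) / 45 - (c 4 : G → ℂ) t ^ 2 / 230 + (c 15 : G → ℂ) t ^ 2 / 1035 -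
      (c 11 : G → ℂ) t ^ 2 / 896 = 0
  cdvd : ∀ g : G, g ≠ 1 → ¬ 11 ∣ orderOf g → ¬ 23 ∣ orderOf g →
    Nat.card (Subgroup.centralizer ({g} : Set G)) ∣ 40320
  cent23 : ∀ y : G, orderOf y = 23 → Nat.card (Subgroup.centralizer ({y} : Set G)) = 23
  seven_index : ∀ P : Sylow 7 G, (Subgroup.centralizer ((P : Subgroup G) : Set G)).relIndex
    (Subgroup.normalizer ((P : Subgroup G) : Set G)) = 3

namespace Cols

variable (K : Cols G)

theorem ne_one_char (i : Fin 17) (hi : i ≠ 0) : K.c i ≠ oneChar := fun e => hi (K.bij.1 (e.trans K.c_zero.symm))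

theorem sum_eq (f : IrrCharacter G → ℂ) : ∑ χ, f χ = ∑ i, f (K.c i) :=
  (Fintype.sum_bijective K.c K.bij _ _ fun _ => rfl).symm

theorem sum17 (f : Fin 17 → ℤ) : ∑ i, f i = f 0 + f 1 + f 2 + f 3 + f 4 + f 5 + f 6 + f 7 + f 8 + f 9 + f 10 +
    f 11 + f 12 + f 13 + f 14 + f 15 + f 16 := by
  simp [Fin.sum_univ_succ]
  ring

/-- An integral column. -/
def Col (g : G) (v : Fin 17 → ℤ) : Prop := ∀ i, (K.c i : G → ℂ) g = v i

/-- The list of a column. -/
def listOf (v : Fin 17 → ℤ) : List ℤ :=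
  [v 0, v 1, v 2, v 3, v 4, v 5, v 6, v 7, v 8, v 9, v 10, v 11, v 12, v 13, v 14, v 15, v 16]

theorem Col.zero {g : G} {v : Fin 17 → ℤ} (h : K.Col g v) : v 0 = 1 := by
  have h0 := h 0
  rw [K.c_zero] at h0
  have : ((v 0 : ℤ) : ℂ) = ((1 : ℤ) : ℂ) := by rw [← h0]; simp [oneChar]
  exact_mod_cast this

theorem Col.dot {g k : G} {v w : Fin 17 → ℤ} (h : K.Col g v) (h' : K.Col k w) :
    (∑ χ : IrrCharacter G, (χ : G → ℂ) g * conj ((χ : G → ℂ) k)) = ((∑ i, v i * w i : ℤ) : ℂ) := by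
  rw [K.sum_eq]
  push_cast
  exact Finset.sum_congr rfl fun i _ => by rw [h i, h' i, map_intCast]

theorem Col.norm {g : G} {v : Fin 17 → ℤ} (h : K.Col g v) :
    ∑ i, v i * v i = (Nat.card (Subgroup.centralizer ({g} : Set G)) : ℤ) := by
  have h1 := Col.dot K h h
  rw [second_orth, if_pos (IsConj.refl g)] at h1
  have hcls := Subgroup.card_mul_index (Subgroup.centralizer ({g} : Set G))
  rw [← card_conjClass_eq_index] at hcls
  rw [← hcls] at h1
  push_cast at h1
  rw [mul_div_assoc, div_self (Nat.cast_ne_zero.2 (card_conjClass_ne_zero g)), mul_one] at h1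
  exact_mod_cast h1.symm

theorem Col.orth {g k : G} {v w : Fin 17 → ℤ} (h : K.Col g v) (h' : K.Col k w) (hne : ¬ IsConj g k) :
    ∑ i, v i * w i = 0 := by
  have h1 := Col.dot K h h'
  rw [second_orth, if_neg hne] at h1
  exact_mod_cast h1.symm

variable [IsSimpleGroup G]

include K in
theorem not_comm : ¬ IsMulCommutative G :=
  Lead.BlockDeg.not_comm (p := 23) (m := 443520) (by norm_num) (by rw [K.card]) (by norm_num)

include K in
/-- The Sylow three-subgroups have order nine. -/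
theorem card_sylow_three (T : Sylow 3 G) : Nat.card T = 9 := by
  haveI : Fact (Nat.Prime 3) := ⟨Nat.prime_three⟩
  rw [T.card_eq_multiplicity, K.card, show (10200960 : ℕ) = 3 ^ 2 * 1133440 from rfl,
    Nat.factorization_mul (by norm_num) (by norm_num), Nat.factorization_pow, Finsupp.add_apply,
    Finsupp.smul_apply, Nat.prime_three.factorization_self,
    Nat.factorization_eq_zero_of_not_dvd (by norm_num : ¬ 3 ∣ 1133440)]
  rfl

/-- The conditions on a column at an element of prime order `p` prime to the blocks. -/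
theorem col_scan {m : ℕ} {g : G} (hg : g ≠ 1) (h5 : ¬ 5 ∣ orderOf g) (h7 : ¬ 7 ∣ orderOf g)
    (h11 : ¬ 11 ∣ orderOf g) (h23 : ¬ 23 ∣ orderOf g) {v : Fin 17 → ℤ} (hv : K.Col g v)
    (hm : ∀ i : Fin 17, (m : ℤ) ∣ (charDegree (K.c i : G → ℂ) : ℤ) - v i) {fin : List ℤ → Bool}
    (hs : scan m (Nat.card (Subgroup.centralizer ({g} : Set G))) fin = true) : fin (listOf v) = true := by
  set C := Nat.card (Subgroup.centralizer ({g} : Set G)) with hC
  have hd : ∀ i : Fin 17, i ≠ 0 → okVal m C ((![1, 22, 45, 45, 230, 231, 231, 231, 253, 770, 770, 896, 896, 990, 990, 1035, 2024] : Fin 17 → ℕ) i) (v i) = true := by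
    intro i hi
    rw [← K.deg i]
    have hne := K.ne_one_char i hi
    simp only [okVal, Bool.and_eq_true, decide_eq_true_eq, beq_iff_eq]
    refine ⟨⟨⟨natAbs_lt K.not_comm hne hg (hv i), ?_⟩, Int.emod_eq_zero_of_dvd (hm i)⟩,
      Int.emod_eq_zero_of_dvd (class_dvd (K.c i) (hv i) rfl K.card)⟩
    have := one_add_sq_le hne (hv i)
    omega
  have h0 := Col.zero K hv
  have e23 := K.rel23 g h23
  have e11 := K.rel11 g h11
  have e7 := K.rel7 g h7
  have e5 := K.rel5 g h5
  simp only [show ∀ i, (K.c i : G → ℂ) g = v i from hv, h0, Int.cast_one] at e23 e11 e7 e5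
  have a10 : v 10 = v 9 := by exact_mod_cast e23.2
  have a12 : v 12 = v 11 := by exact_mod_cast e11.2
  have a14 : v 14 = v 13 := by exact_mod_cast e7.2
  have b23 : 1 - v 1 - v 2 - v 3 + v 5 + v 6 + v 7 - v 11 - v 12 + v 13 + v 14 = v 9 := by exact_mod_cast e23.1
  have b11 : 1 + v 2 + v 3 - v 4 + v 15 = v 11 := by exact_mod_cast e11.1
  have b7 : 1 - v 15 + v 16 = v 13 := by exact_mod_cast e7.1
  have b5 : 1 + v 5 + v 11 + v 12 = v 16 := by exact_mod_cast e5
  have hv1 : K.Col 1 (fun i => ((![1, 22, 45, 45, 230, 231, 231, 231, 253, 770, 770, 896, 896, 990, 990, 1035, 2024] : Fin 17 → ℕ) i : ℤ)) := fun i => by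
    rw [val_one, K.deg]
  have hdeg := Col.orth K hv hv1 fun hc => hg (isConj_one_left.1 hc)
  have hnorm := Col.norm K hv
  rw [sum17] at hdeg hnorm
  simp only [Matrix.cons_val] at hdeg
  rw [a12] at b23 b5; rw [a14] at b23
  have hC40 : C ≤ 40320 := Nat.le_of_dvd (by norm_num) (K.cdvd g hg h11 h23)
  have := scan_sound hs hC40 (a := v 16) (b := v 15) (e := v 11) (f := v 2) (f2 := v 3) (g := v 4) (h := v 1)
    (q := v 5) (r := v 6) (r2 := v 7) (o := v 8) (w := v 9) (th := v 13) (hd 16 (by decide)) (hd 15 (by decide))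
    (hd 11 (by decide)) (hd 2 (by decide)) (hd 3 (by decide)) (hd 4 (by decide)) (hd 1 (by decide))
    (hd 5 (by decide)) (hd 6 (by decide)) (hd 7 (by decide)) (hd 9 (by decide)) (hd 13 (by decide))
    b7 b5 b11 b23 ?_ ?_
  · simpa [listOf, h0, a10, a12, a14] using this
  · simp only [h0, a10, a12, a14] at hdeg
    norm_num at hdeg ⊢
    linarith
  · simp only [h0, a10, a12, a14] at hnorm
    norm_num at hnorm ⊢
    linarith

/-- the column at an involution, as a function -/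
def vT : Fin 17 → ℤ := ![1, 6, -3, -3, 22, 7, 7, 7, 13, -14, -14, 0, 0, -18, -18, 27, 8]

include K in
theorem invol {t : G} (ht : orderOf t = 2) :
    Nat.card (Subgroup.centralizer ({t} : Set G)) = 2688 ∧ K.Col t vT := by
  have hg : t ≠ 1 := fun e => by rw [e, orderOf_one] at ht; omega
  have hall : ∀ i, ∃ z : ℤ, (K.c i : G → ℂ) t = z ∧ (4 : ℤ) ∣ (charDegree (K.c i : G → ℂ) : ℤ) - z := by
    intro i
    by_cases hi : i = 0
    · subst hi
      refine ⟨1, by rw [K.c_zero]; simp [oneChar], ?_⟩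
      rw [K.deg]; norm_num
    obtain ⟨z, hz, h4, -⟩ := SmallOrderGraph.invol_value K.not_comm (K.ne_one_char i hi) ht
    exact ⟨z, hz, h4⟩
  choose v hv h4 using hall
  have hC : Nat.card (Subgroup.centralizer ({t} : Set G)) ∈ cMul 2 := by
    refine mem_cMul (by norm_num) (K.cdvd t hg (by rw [ht]; norm_num) (by rw [ht]; norm_num)) ?_
    have := orderOf_dvd_natCard (⟨t, Subgroup.mem_centralizer_singleton_iff.2 rfl⟩ :
      Subgroup.centralizer ({t} : Set G))
    rwa [Subgroup.orderOf_mk, ht] at this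
  have hf := K.col_scan (m := 4) hg (by rw [ht]; norm_num) (by rw [ht]; norm_num) (by rw [ht]; norm_num)
    (by rw [ht]; norm_num) hv h4 (List.all_eq_true.1 scan_two _ hC)
  have hq := K.quad t ht
  rw [hv 2, hv 3, hv 4, hv 15, hv 11] at hq
  have hq' : (10200960 : ℤ) + (v 2 * v 2 + v 3 * v 3) * 226688 - v 4 * v 4 * 44352 + v 15 * v 15 * 9856 -
      v 11 * v 11 * 11385 = 0 := by
    have : ((10200960 + (v 2 * v 2 + v 3 * v 3) * 226688 - v 4 * v 4 * 44352 + v 15 * v 15 * 9856 -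
      v 11 * v 11 * 11385 : ℤ) : ℂ) = 0 := by
      push_cast
      linear_combination (10200960 : ℂ) * hq
    exact_mod_cast this
  simp only [finTwo, listOf, hq', beq_self_eq_true, Bool.not_true, Bool.false_or, Bool.and_eq_true, beq_iff_eq,
    colT, List.cons.injEq, and_true] at hf
  obtain ⟨hc, e0, e1, e2, e3, e4, e5, e6, e7, e8, e9, e10, e11, e12, e13, e14, e15, e16⟩ := hf
  refine ⟨hc, fun i => ?_⟩
  rw [hv i]
  congr 1
  fin_cases i <;> assumption

include K in
theorem invol_conj {t u : G} (ht : orderOf t = 2) (hu : orderOf u = 2) : IsConj t u := by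
  by_contra h
  have h0 := Col.orth K (K.invol ht).2 (K.invol hu).2 h
  have h1 := Col.norm K (K.invol ht).2
  rw [h0, (K.invol ht).1] at h1
  norm_num at h1

include K in
theorem exists_invol : ∃ t : G, orderOf t = 2 := by
  haveI : Fact (Nat.Prime 2) := ⟨Nat.prime_two⟩
  exact exists_prime_orderOf_dvd_card' 2 (by rw [K.card]; norm_num)

include K in
theorem three_real {x : G} (hx : orderOf x = 3) : IsConj x x⁻¹ := by
  haveI : Fact (Nat.Prime 3) := ⟨Nat.prime_three⟩
  obtain ⟨T, hT⟩ := (IsPGroup.of_card (n := 1) (by rw [Nat.card_zpowers, hx, pow_one]) :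
    IsPGroup 3 (Subgroup.zpowers x)).exists_le_sylow
  exact MTwentyTwo.ByOrder.real_of_sylow_nine (perfect K.not_comm) T (K.card_sylow_three T)
    (hT (Subgroup.mem_zpowers x)) hx

include K in
theorem three {x : G} (hx : orderOf x = 3) : Nat.card (Subgroup.centralizer ({x} : Set G)) = 180 := by
  haveI : Fact (Nat.Prime 3) := ⟨Nat.prime_three⟩
  have hg : x ≠ 1 := fun e => by rw [e, orderOf_one] at hx; omega
  have hx3 : x ^ 3 = 1 := hx ▸ pow_orderOf_eq_one x
  have hall : ∀ i, ∃ z : ℤ, (K.c i : G → ℂ) x = z ∧ (3 : ℤ) ∣ (charDegree (K.c i : G → ℂ) : ℤ) - z := by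
    intro i
    obtain ⟨z, hz⟩ := int_value (K.c i) (g := x) fun k hk => by
      have hk3 : ¬ 3 ∣ k := fun h => by
        have h3 : Nat.gcd 3 (Nat.card G) = 1 := Nat.Coprime.coprime_dvd_left h hk
        rw [K.card] at h3
        norm_num at h3
      rw [pow_eq_pow_mod k hx3]
      rcases (show k % 3 = 1 ∨ k % 3 = 2 by omega) with e | e <;> rw [e]
      · rw [pow_one]
      · rw [eq_inv_of_mul_eq_one_left (show x ^ 2 * x = 1 by rw [← pow_succ]; exact hx3)]
        obtain ⟨c, hc⟩ := isConj_iff.1 (K.three_real hx)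
        rw [← hc, isClassFunction_character (irr_isCharacter (K.c i).2) x c]
    exact ⟨z, hz, MTwentyTwo.ByOrder.int_congr_deg Nat.prime_three hx hz⟩
  choose v hv h3 using hall
  have hC : Nat.card (Subgroup.centralizer ({x} : Set G)) ∈ cMul 9 := by
    refine mem_cMul (by norm_num) (K.cdvd x hg (by rw [hx]; norm_num) (by rw [hx]; norm_num)) ?_
    obtain ⟨T, hT⟩ := (IsPGroup.of_card (n := 1) (by rw [Nat.card_zpowers, hx, pow_one]) :
      IsPGroup 3 (Subgroup.zpowers x)).exists_le_sylow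
    have hc9 := K.card_sylow_three T
    rw [← hc9]
    refine Subgroup.card_dvd_of_le (H := (T : Subgroup G)) fun y hy => Subgroup.mem_centralizer_singleton_iff.2 ?_
    haveI := IsPGroup.isMulCommutative_of_card_eq_prime_sq (p := 3) (G := T) (hc9.trans (by norm_num))
    exact congrArg Subtype.val (mul_comm' (⟨y, hy⟩ : T) ⟨x, hT (Subgroup.mem_zpowers x)⟩)
  have hf := K.col_scan (m := 3) hg (by rw [hx]; norm_num) (by rw [hx]; norm_num) (by rw [hx]; norm_num)
    (by rw [hx]; norm_num) hv h3 (List.all_eq_true.1 scan_three _ hC)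
  obtain ⟨t, ht⟩ := K.exists_invol
  have ho := Col.orth K hv (K.invol ht).2 fun hc => by
    obtain ⟨c, rfl⟩ := isConj_iff.1 hc
    rw [show c * x * c⁻¹ = MulAut.conj c x from rfl, MulEquiv.orderOf_eq] at ht
    omega
  rw [sum17] at ho
  simp only [vT, Matrix.cons_val] at ho
  simp only [finThree, listOf, Bool.or_eq_true, Bool.not_eq_true', beq_eq_false_iff_ne, ne_eq, beq_iff_eq] at hf
  refine hf.resolve_left fun hne => hne ?_
  linarith

end Cols

end Cfsg.Agent.MTwentyThree.ByOrder
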