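import Cfsg.Agent.Lib.Spor.MTwentyThreeOrder.DegreeData

/-!
The certified checks of the column of a central involution of a simple group of the order of the
Mathieu group of degree twenty-three.
-/

set_option autoImplicit false
set_option maxRecDepth 100000
set_option maxHeartbeats 4000000

namespace Cfsg.Agent.MTwentyThree.ByOrder

theorem midCols_0 : midCols ([22, 22, 22, 231, 231, 990], 495) 2688 (-6) 18 22 27 = [] := by decide +kernel

theorem midCols_1 : midCols ([22, 22, 22, 231, 990, 990], 264) 2688 (-6) 18 22 27 = [] := by decide +kernel

theorem midCols_2 : midCols ([22, 22, 22, 528, 990, 990], 495) 2688 (-6) 18 22 27 = [] := by decide +kernel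

theorem midCols_3 : midCols ([22, 231, 231, 231, 990, 990], 770) 2688 (-6) 18 22 27 = [[(6, 36), (21, 147), (-36, 648)]] := by decide +kernel

theorem midCols_4 : midCols ([231, 231, 231, 231, 231, 231], 495) 2688 (-6) 18 22 27 = [] := by decide +kernel

theorem midCols_5 : midCols ([231, 231, 231, 231, 231, 990], 264) 2688 (-6) 18 22 27 = [] := by decide +kernel

theorem midCols_6 : midCols ([231, 231, 231, 231, 528, 990], 495) 2688 (-6) 18 22 27 = [] := by decide +kernel

theorem midCols_7 : midCols ([231, 231, 231, 528, 990, 990], 264) 2688 (-6) 18 22 27 = [] := by decide +kernel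

theorem midCols_8 : midCols ([231, 231, 528, 528, 990, 990], 495) 2688 (-6) 18 22 27 = [] := by decide +kernel

end Cfsg.Agent.MTwentyThree.ByOrder
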