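import Cfsg.Agent.Lib.Spor.MTwentyThreeOrder.Degrees
import Cfsg.Agent.Lib.Spor.MTwentyThreeOrder.DegreeCols
import Cfsg.Agent.Lib.Spor.MTwentyThreeOrder.Final
import Cfsg.Agent.Lib.Spor.MTwelve.OrderFront.Values

/-!
The column of a central involution on the eleven-block of a simple group of the order of the Mathieu group of
degree twenty-three.
-/

set_option autoImplicit false
set_option linter.unusedSectionVars false
set_option linter.style.haveILetI false
set_option maxHeartbeats 1000000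

namespace Cfsg.Agent.MTwentyThree.ByOrder

open Cfsg Cfsg.Agent.Char Cfsg.Agent.Small.Order459648
open Cfsg.Agent.MTwelve.OrderFront (val_one one_add_sq_le class_dvd column_eq)
open scoped ComplexConjugate

universe u

local instance : Fact (Nat.Prime 23) := ⟨by norm_num⟩
local instance : Fact (Nat.Prime 11) := ⟨by norm_num⟩

variable {G : Type u} [Group G] [Fintype G]

/-- The sign of a non-exceptional character. -/
theorem a_eq {p : ℕ} [Fact p.Prime] {M : Ideal AlgInt} {P : Sylow p G} {e : ℕ} {X Y : Finset (IrrCharacter G)}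
    {a : IrrCharacter G → ℤ} {δ : ℤ} (h : PrimePrincipal M P e X Y a δ) (hp2 : 2 < p) {χ : IrrCharacter G}
    (hχ : χ ∈ X) : a χ = if dg χ % p = 1 then 1 else -1 := by
  obtain ⟨h1, h2⟩ := sgn_eq h hp2 hχ
  have hd : (dg χ : ℤ) ≠ 0 := Nat.cast_ne_zero.2 (deg_pos χ.2).ne'
  refine mul_right_cancel₀ hd ?_
  rw [h2, sgn]
  split_ifs <;> ring

/-- The sign of the exceptional characters. -/
theorem delta_eq {p : ℕ} [Fact p.Prime] {M : Ideal AlgInt} {P : Sylow p G} {e : ℕ} {X Y : Finset (IrrCharacter G)}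
    {a : IrrCharacter G → ℤ} {δ : ℤ} (h : PrimePrincipal M P e X Y a δ) (he : 0 < e) (hep : e < p)
    (hodd : e * 2 ≠ p) {θ : IrrCharacter G} (hθ : θ ∈ Y) : δ = if dg θ % p = e % p then 1 else -1 := by
  obtain ⟨h1, h2⟩ := sgnE_eq h he hep hodd hθ
  have hd : (dg θ : ℤ) ≠ 0 := Nat.cast_ne_zero.2 (deg_pos θ.2).ne'
  refine mul_right_cancel₀ hd ?_
  rw [h2, sgnE]
  split_ifs <;> ring

variable [IsSimpleGroup G]

/-- The column of a central involution. -/
structure CCol (G : Type u) [Group G] [Fintype G] where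
  /-- the involution -/
  t : G
  /-- the order of the centraliser -/
  C : ℕ
  /-- the values -/
  z : IrrCharacter G → ℤ
  order : orderOf t = 2
  cent : Nat.card (Subgroup.centralizer ({t} : Set G)) = C
  mem_C : C ∈ cList
  val : ∀ χ : IrrCharacter G, (χ : G → ℂ) t = z χ
  one : z oneChar = 1
  mem : ∀ χ : IrrCharacter G, χ ≠ oneChar → z χ ∈ vals C (dg χ)

theorem exists_ccol (hG : Nat.card G = 10200960) (B23 : SelfBlk 23 11 G) (B11 : SelfBlk 11 5 G) :
    Nonempty (CCol G) := by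
  classical
  haveI : Fact (Nat.Prime 2) := ⟨Nat.prime_two⟩
  obtain ⟨S⟩ := (Sylow.nonempty : Nonempty (Sylow 2 G))
  have hS : Nat.card S = 128 := by
    rw [S.card_eq_multiplicity, hG, show (10200960 : ℕ) = 2 ^ 7 * 79695 from rfl,
      Nat.factorization_mul (by norm_num) (by norm_num), Nat.factorization_pow, Finsupp.add_apply,
      Finsupp.smul_apply, Nat.prime_two.factorization_self,
      Nat.factorization_eq_zero_of_not_dvd (by norm_num : ¬ 2 ∣ 79695)]
    rfl
  haveI : Nontrivial ↥(S : Subgroup G) := Finite.one_lt_card_iff_nontrivial.1 (by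
    rw [show Nat.card ↥(S : Subgroup G) = 128 from hS]; norm_num)
  have hcen := S.isPGroup'.center_nontrivial
  have h2 : 2 ∣ Nat.card (Subgroup.center ↥(S : Subgroup G)) := by
    obtain ⟨i, hi, he⟩ := (Nat.dvd_prime_pow Nat.prime_two).1
      (show Nat.card (Subgroup.center ↥(S : Subgroup G)) ∣ 2 ^ 7 from
        (Subgroup.card_subgroup_dvd_card _).trans
          (dvd_of_eq ((show Nat.card ↥(S : Subgroup G) = 128 from hS).trans (by norm_num))))
    rcases i with _ | i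
    · have := Finite.one_lt_card_iff_nontrivial.2 hcen
      omega
    · rw [he]; exact dvd_pow_self 2 (Nat.succ_ne_zero i)
  obtain ⟨w, hw⟩ := exists_prime_orderOf_dvd_card' 2 h2
  set t : G := ((w : ↥(S : Subgroup G)) : G)
  have ht : orderOf t = 2 := by rw [Subgroup.orderOf_coe, Subgroup.orderOf_coe, hw]
  have hle : (S : Subgroup G) ≤ Subgroup.centralizer ({t} : Set G) := fun s hs =>
    Subgroup.mem_centralizer_singleton_iff.2
      (congrArg Subtype.val (Subgroup.mem_center_iff.1 w.2 ⟨s, hs⟩))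
  have h128 : 128 ∣ Nat.card (Subgroup.centralizer ({t} : Set G)) :=
    (dvd_of_eq hS.symm).trans (Subgroup.card_dvd_of_le hle)
  have hd : Nat.card (Subgroup.centralizer ({t} : Set G)) ∣ 40320 :=
    cdvd_of_sylow hG (fun y hy => cent_of_sylow (by rw [hG]; norm_num) B11.cardP B11.cent hy)
      (fun y hy => cent_of_sylow (by rw [hG]; norm_num) B23.cardP B23.cent hy) t
      (fun e => by rw [e, orderOf_one] at ht; omega) (by rw [ht]; norm_num) (by rw [ht]; norm_num)
  have hmem : Nat.card (Subgroup.centralizer ({t} : Set G)) ∈ cList := by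
    obtain ⟨m, hm⟩ := h128
    have hle' : Nat.card (Subgroup.centralizer ({t} : Set G)) ≤ 40320 := Nat.le_of_dvd (by norm_num) hd
    rw [hm] at hd hle' ⊢
    have := List.all_eq_true.1 cList_table m (List.mem_range.2 (by omega))
    simpa [Nat.mod_eq_zero_of_dvd hd] using this
  have hint : ∀ χ : IrrCharacter G, ∃ z : ℤ, (χ : G → ℂ) t = z ∧ (χ = oneChar → z = 1) ∧
      (χ ≠ oneChar → z ∈ vals (Nat.card (Subgroup.centralizer ({t} : Set G))) (dg χ)) := by
    intro χ
    by_cases hne : χ = oneChar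
    · exact ⟨1, by subst hne; simp [oneChar], fun _ => rfl, fun h => absurd hne h⟩
    · obtain ⟨z, hz, h4, hlt⟩ := SmallOrderGraph.invol_value (na hG) hne ht
      refine ⟨z, hz, fun h => absurd h hne, fun _ => ?_⟩
      have hsq := one_add_sq_le hne hz
      have hle' : Nat.card (Subgroup.centralizer ({t} : Set G)) ≤ 40320 := Nat.le_of_dvd (by norm_num) hd
      have hb : z.natAbs ≤ 200 := by
        by_contra hb
        have h1 : (201 : ℤ) * 201 ≤ z * z := by
          rw [← Int.natAbs_mul_self' z]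
          exact mul_le_mul (by omega) (by omega) (by norm_num) (by omega)
        omega
      refine List.mem_filter.2 ⟨List.mem_map.2 ⟨(z + 201).toNat, List.mem_range.2 (by omega), by omega⟩, ?_⟩
      have hcl := class_dvd χ hz rfl hG
      simp only [Bool.and_eq_true, decide_eq_true_eq]
      exact ⟨⟨⟨by omega, hlt⟩, Int.emod_eq_zero_of_dvd h4⟩, Int.emod_eq_zero_of_dvd hcl⟩
  choose z hz h1 hm using hint
  exact ⟨⟨t, _, z, ht, rfl, hmem, hz, h1 _ rfl, hm⟩⟩

namespace CCol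

variable (K : CCol G)
include K

theorem sum_sq : ∑ χ : IrrCharacter G, K.z χ * K.z χ = (K.C : ℤ) := by
  have h := column_eq K.t
  rw [K.cent] at h
  have h2 : ((∑ χ : IrrCharacter G, K.z χ * K.z χ : ℤ) : ℝ) = ((K.C : ℤ) : ℝ) := by
    rw [Int.cast_sum, Int.cast_natCast, ← h]
    refine Finset.sum_congr rfl fun χ _ => ?_
    rw [K.val χ, Complex.norm_intCast, sq_abs, Int.cast_mul, sq]
  exact_mod_cast h2

theorem ne_one : K.t ≠ 1 := fun e => by
  have := K.order
  rw [e, orderOf_one] at this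
  omega

theorem sum_deg : ∑ χ : IrrCharacter G, (dg χ : ℤ) * K.z χ = 0 := by
  have h := second_orth K.t (1 : G)
  rw [if_neg fun hc => K.ne_one (isConj_one_left.1 hc)] at h
  have h2 : ((∑ χ : IrrCharacter G, (dg χ : ℤ) * K.z χ : ℤ) : ℂ) = ((0 : ℤ) : ℂ) := by
    rw [Int.cast_sum, Int.cast_zero, ← h]
    refine Finset.sum_congr rfl fun χ _ => ?_
    rw [K.val χ, val_one, map_intCast, Int.cast_mul, mul_comm]
    rfl
  exact_mod_cast h2

/-- The two relations of a self-centralising block. -/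
theorem block {p e : ℕ} [Fact p.Prime] (B : SelfBlk p e G) (he : Odd e) (hN : Nat.card G = 10200960)
    {θ : IrrCharacter G} (hθ : θ ∈ B.Y) :
    B.δ * K.z θ = 1 + ∑ χ ∈ B.X.erase oneChar, B.a χ * K.z χ ∧
    10200960 + ∑ χ ∈ B.X.erase oneChar, B.a χ * (K.z χ * K.z χ) * ((10200960 / dg χ : ℕ) : ℤ) -
      B.δ * (K.z θ * K.z θ) * ((10200960 / dg θ : ℕ) : ℤ) = 0 := by
  classical
  have hreg : ¬ p ∣ orderOf K.t := fun h => by
    rw [K.order] at h
    have := Nat.le_of_dvd (by norm_num) h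
    have := B.two_lt
    omega
  constructor
  · have h := B.pp.rel θ hθ K.t hreg
    rw [← Finset.add_sum_erase B.X _ B.one_mem, B.one_sign, K.val, K.val, K.one] at h
    have h2 : ((B.δ * K.z θ : ℤ) : ℂ) = ((1 + ∑ χ ∈ B.X.erase oneChar, B.a χ * K.z χ : ℤ) : ℂ) := by
      push_cast at h ⊢
      rw [h, one_mul]
      congr 1
      exact Finset.sum_congr rfl fun χ _ => by rw [K.val]
    exact_mod_cast h2
  · have h := B.quad he K.order hθ
    rw [← Finset.add_sum_erase B.X _ B.one_mem, B.one_sign, K.val, K.val, K.one] at h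
    have hdiv : ∀ χ : IrrCharacter G, (((10200960 / dg χ : ℕ) : ℤ) : ℂ) = (10200960 : ℂ) / (χ : G → ℂ) 1 := fun χ => by
      have hd : dg χ ∣ 10200960 := hN ▸ deg_dvd_card χ.2
      rw [Int.cast_natCast, Nat.cast_div hd (Nat.cast_ne_zero.2 (deg_pos χ.2).ne'), val_one]
      push_cast
      rfl
    have h2 : ((10200960 + ∑ χ ∈ B.X.erase oneChar, B.a χ * (K.z χ * K.z χ) * ((10200960 / dg χ : ℕ) : ℤ) -
        B.δ * (K.z θ * K.z θ) * ((10200960 / dg θ : ℕ) : ℤ) : ℤ) : ℂ) = ((0 : ℤ) : ℂ) := by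
      simp only [Int.cast_sub, Int.cast_add, Int.cast_sum, Int.cast_mul, hdiv, Int.cast_zero]
      rw [← mul_zero (10200960 : ℂ), ← h, mul_sub, mul_add, Finset.mul_sum]
      refine congrArg₂ _ (congrArg₂ _ ?_ (Finset.sum_congr rfl fun χ _ => ?_)) ?_
      · simp [oneChar]
      · rw [K.val]; ring
      · ring
    exact_mod_cast h2

end CCol

open scoped _root_.Classical in
/-- A finite set of characters of the given degree. -/
noncomputable def ofDeg (G : Type u) [Group G] [Fintype G] (d : ℕ) : Finset (IrrCharacter G) :=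
  (Finset.univ.erase oneChar).filter fun χ => dg χ = d

theorem mem_ofDeg {d : ℕ} {χ : IrrCharacter G} : χ ∈ ofDeg G d ↔ χ ≠ oneChar ∧ dg χ = d := by
  classical
  simp [ofDeg]

theorem card_ofDeg (d : ℕ) : (ofDeg G d).card = cnt G d := rfl

open scoped _root_.Classical in
theorem sum_three {G : Type u} [Group G] [Fintype G] {M : Type*} [AddCommMonoid M] {T : Finset (IrrCharacter G)}
    {a b : ℕ} {α β : IrrCharacter G} (hT : T = ofDeg G 45 ∪ (ofDeg G a ∪ ofDeg G b)) (hα : ofDeg G a = {α})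
    (hβ : ofDeg G b = {β}) (ha : a ≠ 45) (hb : b ≠ 45) (hab : a ≠ b) (f : IrrCharacter G → M) :
    ∑ χ ∈ T, f χ = (∑ χ ∈ ofDeg G 45, f χ) + (f α + f β) := by
  have hdis : ∀ {c d : ℕ}, c ≠ d → Disjoint (ofDeg G c) (ofDeg G d) := fun {c d} h =>
    Finset.disjoint_left.2 fun χ h1 h2 => h ((Finset.mem_filter.1 h1).2.symm.trans (Finset.mem_filter.1 h2).2)
  rw [hT, Finset.sum_union (Finset.disjoint_union_right.2 ⟨hdis ha.symm, hdis hb.symm⟩),
    Finset.sum_union (hdis hab), hα, hβ, Finset.sum_singleton, Finset.sum_singleton]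

/-- The characters of degree prime to eleven, with their values at a central involution. -/
theorem eleven_column (hG : Nat.card G = 10200960) (B23 : SelfBlk 23 11 G) (B11 : SelfBlk 11 5 G) (K : CCol G) :
    ∃ α β : IrrCharacter G, ofDeg G 230 = {α} ∧ ofDeg G 1035 = {β} ∧ (ofDeg G 45).card = 2 ∧
      (ofDeg G 896).card = 2 ∧
      (∀ χ : IrrCharacter G, χ ≠ oneChar → ¬ 11 ∣ dg χ → dg χ ∈ [45, 230, 1035, 896]) ∧
      1 ≤ cnt G 2024 ∧ (∀ χ ∈ ofDeg G 896, K.z χ = 0) ∧
      ((K.C = 896 ∧ ∑ χ ∈ ofDeg G 45, K.z χ = 2 ∧ ∑ χ ∈ ofDeg G 45, K.z χ * K.z χ = 34 ∧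
          K.z α = 22 ∧ K.z β = 19) ∨
        (K.C = 2688 ∧ ∑ χ ∈ ofDeg G 45, K.z χ = -6 ∧ ∑ χ ∈ ofDeg G 45, K.z χ * K.z χ = 18 ∧
          K.z α = 22 ∧ K.z β = 27)) := by
  classical
  obtain ⟨a, b, hab, ⟨θ, hθ, hθd, hlist⟩, hcnt, h2024, -⟩ := eleven_case hG B23 B11
  have hcard : ∀ d, ¬ 11 ∣ d → (ofDeg G d).card = [45, 45, a, b, 896, 896].count d := hcnt
  have hne : a ≠ 45 ∧ b ≠ 45 ∧ a ≠ b ∧ a ≠ 896 ∧ b ≠ 896 ∧ ¬ 11 ∣ a ∧ ¬ 11 ∣ b := by
    rcases hab with ⟨rfl, rfl⟩ | ⟨rfl, rfl⟩ <;> norm_num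
  obtain ⟨ha45, hb45, hanb, ha896, hb896, ha11, hb11⟩ := hne
  have h45 : (ofDeg G 45).card = 2 := by
    rw [hcard 45 (by norm_num)]; simp [List.count_cons, ha45, hb45]
  have h896 : (ofDeg G 896).card = 2 := by
    rw [hcard 896 (by norm_num)]; simp [List.count_cons, ha896, hb896]
  obtain ⟨α, hα⟩ : ∃ α, ofDeg G a = {α} := Finset.card_eq_one.1 (by
    rw [hcard a ha11]; simp [List.count_cons, ha45.symm, hanb.symm, ha896.symm])
  obtain ⟨β, hβ⟩ : ∃ β, ofDeg G b = {β} := Finset.card_eq_one.1 (by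
    rw [hcard b hb11]; simp [List.count_cons, hb45.symm, hanb, hb896.symm])
  have hmem : ∀ χ : IrrCharacter G, χ ≠ oneChar → ¬ 11 ∣ dg χ → dg χ ∈ [45, a, b, 896] := fun χ hne h11 => by
    have h := hcard (dg χ) h11
    have hpos : 0 < (ofDeg G (dg χ)).card := Finset.card_pos.2 ⟨χ, mem_ofDeg.2 ⟨hne, rfl⟩⟩
    rw [h, List.count_pos_iff] at hpos
    simpa using hpos
  have hα' := mem_ofDeg.1 (hα.symm ▸ Finset.mem_singleton_self α : α ∈ ofDeg G a)
  have hβ' := mem_ofDeg.1 (hβ.symm ▸ Finset.mem_singleton_self β : β ∈ ofDeg G b)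
  -- the non-exceptional characters
  have hX : B11.X.erase oneChar = ofDeg G 45 ∪ (ofDeg G a ∪ ofDeg G b) := by
    refine Finset.eq_of_subset_of_card_le (fun χ hχ => ?_) ?_
    · obtain ⟨hne, -⟩ := Finset.mem_erase.1 hχ
      have hd : dg χ ∈ sortedDegs (B11.X.erase oneChar) := by
        rw [← Multiset.mem_coe, sortedDegs_coe]
        exact Multiset.mem_map_of_mem _ hχ
      rw [hlist] at hd
      simp only [List.mem_cons, List.not_mem_nil, or_false] at hd
      simp only [Finset.mem_union, mem_ofDeg]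
      tauto
    · rw [Finset.card_erase_of_mem B11.one_mem, B11.pp.cardX]
      refine (Finset.card_union_le _ _).trans ?_
      refine (Nat.add_le_add_left (Finset.card_union_le _ _) _).trans ?_
      rw [h45, hα, hβ, Finset.card_singleton, Finset.card_singleton]
  have hYd : ∀ χ ∈ B11.Y, dg χ = 896 := fun χ hχ => by
    have h1 := B11.pp.regY χ hχ θ hθ 1 (by rw [orderOf_one]; norm_num)
    rw [val_one, val_one] at h1
    rw [← hθd]
    exact_mod_cast h1
  have hY : B11.Y = ofDeg G 896 := by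
    refine Finset.eq_of_subset_of_card_le (fun χ hχ => mem_ofDeg.2 ⟨fun e1 => ?_, hYd χ hχ⟩) ?_
    · exact Finset.disjoint_left.1 B11.pp.disj B11.one_mem (e1 ▸ hχ)
    · rw [h896]; have := B11.cardY; omega
  have hzy : ∀ χ ∈ ofDeg G 896, K.z χ = K.z θ := fun χ hχ => by
    have h1 := B11.pp.regY χ (hY ▸ hχ) θ hθ K.t (by rw [K.order]; norm_num)
    rw [K.val, K.val] at h1
    exact_mod_cast h1
  obtain ⟨hlin, hquad⟩ := K.block B11 (by decide) hG hθ
  have hδ : B11.δ = 1 := by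
    rw [delta_eq B11.pp (by norm_num) B11.e_lt B11.double_ne hθ, hθd]; norm_num
  have hcong : ∀ f : IrrCharacter G → ℤ, ∑ χ ∈ B11.X.erase oneChar, B11.a χ * f χ =
      (∑ χ ∈ ofDeg G 45, f χ) + (-f α + f β) := fun f => by
    rw [Finset.sum_congr rfl fun χ hχ => show B11.a χ * f χ = (if dg χ % 11 = 1 then (1 : ℤ) else -1) * f χ by
      rw [a_eq B11.pp B11.two_lt (Finset.mem_erase.1 hχ).2], sum_three hX hα hβ ha45 hb45 hanb,
      Finset.sum_congr rfl fun χ hχ => show (if dg χ % 11 = 1 then (1 : ℤ) else -1) * f χ = f χ by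
        rw [(mem_ofDeg.1 hχ).2]; norm_num, hα'.2, hβ'.2]
    rcases hab with ⟨rfl, rfl⟩ | ⟨rfl, rfl⟩ <;> norm_num
  rw [hδ, one_mul, hcong] at hlin
  have hquad' : 10200960 + ((∑ χ ∈ ofDeg G 45, K.z χ * K.z χ) * ((10200960 / 45 : ℕ) : ℤ) +
      (-(K.z α * K.z α * ((10200960 / a : ℕ) : ℤ)) + K.z β * K.z β * ((10200960 / b : ℕ) : ℤ))) -
      K.z θ * K.z θ * ((10200960 / 896 : ℕ) : ℤ) = 0 := by
    have h0 := hcong (fun χ => K.z χ * K.z χ * ((10200960 / dg χ : ℕ) : ℤ))
    have h1 : ∀ χ : IrrCharacter G, B11.a χ * (K.z χ * K.z χ) * ((10200960 / dg χ : ℕ) : ℤ) =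
        B11.a χ * (K.z χ * K.z χ * ((10200960 / dg χ : ℕ) : ℤ)) := fun χ => mul_assoc _ _ _
    have h2 : ∑ χ ∈ ofDeg G 45, K.z χ * K.z χ * ((10200960 / dg χ : ℕ) : ℤ) =
        (∑ χ ∈ ofDeg G 45, K.z χ * K.z χ) * ((10200960 / 45 : ℕ) : ℤ) := by
      rw [Finset.sum_mul]
      exact Finset.sum_congr rfl fun χ hχ => by rw [(mem_ofDeg.1 hχ).2]
    rw [h2, hα'.2, hβ'.2, ← Finset.sum_congr rfl fun χ _ => h1 χ] at h0
    rw [h0, hδ, hθd, one_mul] at hquad
    exact hquad
  -- the sum of the squares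
  have hsq : 1 + ((∑ χ ∈ ofDeg G 45, K.z χ * K.z χ) + (K.z α * K.z α + K.z β * K.z β)) +
      2 * (K.z θ * K.z θ) ≤ (K.C : ℤ) := by
    rw [← K.sum_sq, ← sum_three hX hα hβ ha45 hb45 hanb (fun χ => K.z χ * K.z χ)]
    have h2 : ∑ χ ∈ ofDeg G 896, K.z χ * K.z χ = 2 * (K.z θ * K.z θ) := by
      rw [Finset.sum_congr rfl fun χ hχ => by rw [hzy χ hχ], Finset.sum_const, h896, nsmul_eq_mul, Nat.cast_ofNat]
    rw [← h2, ← hY]
    have h3 : (1 : ℤ) + ∑ χ ∈ B11.X.erase oneChar, K.z χ * K.z χ = ∑ χ ∈ B11.X, K.z χ * K.z χ := by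
      rw [← Finset.add_sum_erase B11.X (fun χ => K.z χ * K.z χ) B11.one_mem, K.one, one_mul]
    rw [h3, ← Finset.sum_union B11.pp.disj]
    exact Finset.sum_le_sum_of_subset_of_nonneg (Finset.subset_univ _) fun χ _ _ => mul_self_nonneg _
  set s := ∑ χ ∈ ofDeg G 45, K.z χ with hs
  set q := ∑ χ ∈ ofDeg G 45, K.z χ * K.z χ with hq
  have hcol : (K.C, [(s, q), (K.z α, K.z α * K.z α), (K.z β, K.z β * K.z β)]) ∈ elevenCols a b := by
    refine List.mem_flatMap.2 ⟨K.C, K.mem_C, List.mem_map.2 ⟨_, List.mem_filter.2 ⟨?_, ?_⟩, rfl⟩⟩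
    · have hL : (s, q) = (((ofDeg G 45).toList.map K.z).sum, (((ofDeg G 45).toList.map K.z).map fun z => z * z).sum) := by
        rw [List.map_map, Finset.sum_map_toList, Finset.sum_map_toList]; rfl
      have h := mem_cols K.C (elevenW a b) [(ofDeg G 45).toList.map K.z, [K.z α], [K.z β]] ((K.C : ℤ) - 1) ?_ ?_
      · simpa [← hL] using h
      · refine List.Forall₂.cons ⟨?_, ?_⟩ (List.Forall₂.cons ⟨rfl, ?_⟩ (List.Forall₂.cons ⟨rfl, ?_⟩ List.Forall₂.nil))
        · rw [List.length_map, Finset.length_toList, h45]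
        · intro z hz
          obtain ⟨χ, hχ, rfl⟩ := List.mem_map.1 hz
          obtain ⟨hne, hd⟩ := mem_ofDeg.1 (Finset.mem_toList.1 hχ)
          exact hd ▸ K.mem χ hne
        · intro z hz
          rw [List.mem_singleton] at hz
          exact hz ▸ hα'.2 ▸ K.mem α hα'.1
        · intro z hz
          rw [List.mem_singleton] at hz
          exact hz ▸ hβ'.2 ▸ K.mem β hβ'.1
      · simp only [List.map_cons, List.map_nil, List.sum_cons, List.sum_nil, add_zero, sqW]
        rw [show (((ofDeg G 45).toList.map K.z).map fun z => z * z).sum = q from (Prod.ext_iff.1 hL).2.symm]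
        have := mul_self_nonneg (K.z θ)
        omega
    · simp only [elevenOk, Bool.and_eq_true, List.contains_iff_mem, decide_eq_true_eq, elevenW, linW, quadW, sqW]
      have hzθ : 1 + (1 * s + (-1 * K.z α + (1 * K.z β + 0))) = K.z θ := by rw [hlin]; ring
      refine ⟨⟨?_, ?_⟩, ?_⟩
      · rw [hzθ]
        exact hθd ▸ K.mem θ fun e1 => Finset.disjoint_left.1 B11.pp.disj B11.one_mem (e1 ▸ hθ)
      · rw [hzθ]; linear_combination hquad'
      · rw [hzθ]; omega
  rcases hab with ⟨rfl, rfl⟩ | ⟨rfl, rfl⟩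
  · rw [eleven_cols_a] at hcol
    simp only [List.mem_cons, List.not_mem_nil, or_false, Prod.mk.injEq, List.cons.injEq, and_true] at hcol
    refine ⟨α, β, hα, hβ, h45, h896, hmem, h2024, fun χ hχ => ?_, ?_⟩
    · rw [hzy χ hχ, hlin]
      omega
    · omega
  · rw [eleven_cols_b] at hcol
    simp at hcol

end Cfsg.Agent.MTwentyThree.ByOrder
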