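import Mathlib

/-!
The certified data for the degrees and the column of a central involution of a simple group of the order of the
Mathieu group of degree twenty-three.
-/

set_option autoImplicit false
set_option maxRecDepth 100000
set_option maxHeartbeats 4000000

namespace Cfsg.Agent.MTwentyThree.ByOrder

/-- one more possible entry -/
def slAux (a : ℕ) (f : ℕ → List (List ℕ)) : ℕ → List (List ℕ)
  | 0 => [[]]
  | k + 1 => (slAux a f k).map (a :: ·) ++ f (k + 1)

/-- the non-decreasing lists of a given length with entries in a list -/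
def sl : List ℕ → ℕ → List (List ℕ)
  | [] => fun k => if k = 0 then [[]] else []
  | a :: as => slAux a (sl as)

theorem mem_sl : ∀ (A : List ℕ), A.Pairwise (· < ·) → ∀ (l : List ℕ), l.Pairwise (· ≤ ·) → (∀ x ∈ l, x ∈ A) →
    l ∈ sl A l.length := by
  intro A
  induction A with
  | nil =>
    intro _ l _ hl
    cases l with
    | nil => simp [sl]
    | cons x xs => exact absurd (hl x (by simp)) (by simp)
  | cons a as ih =>
    intro hA l
    rw [List.pairwise_cons] at hA
    induction l with
    | nil => intro _ _; simp [sl, slAux]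
    | cons x xs ihx =>
      intro hs hl
      rw [List.pairwise_cons] at hs
      simp only [List.length_cons, sl, slAux, List.mem_append, List.mem_map]
      by_cases hx : x = a
      · exact Or.inl ⟨xs, ihx hs.2 fun y hy => hl y (by simp [hy]), by rw [hx]⟩
      · refine Or.inr ?_
        have hxa : x ∈ as := ((List.mem_cons.1 (hl x (by simp))).resolve_left hx)
        have := ih hA.2 (x :: xs) (List.pairwise_cons.2 hs) fun y hy => by
          rcases List.mem_cons.1 (hl y hy) with e | e
          · exfalso
            have h1 : a < x := hA.1 x hxa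
            rcases List.mem_cons.1 hy with e' | e'
            · exact hx (e'.symm.trans e)
            · have := hs.1 y e'
              omega
          · exact e
        simpa using this

/-- the possible degrees of the non-principal characters -/
def allowed : List ℕ := [12, 22, 23, 45, 115, 126, 138, 160, 230, 231, 252, 253, 264, 276, 368, 483, 495, 506, 528,
  644, 736, 759, 770, 896, 990, 1012, 1035, 1265, 1288, 1380, 1518, 1540, 1656, 1760, 1771, 1920, 2024, 2277, 2415,
  2530, 2760, 2772, 2898, 3036]

theorem allowed_table : ((List.range 3195).all fun d => decide (d ≤ 1) || d == 11 || 10200960 % d != 0 ||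
    [0, 1, 22, 11, 12].all (fun r => d % 23 != r) || [0, 1, 10, 5, 6].all (fun r => d % 11 != r) ||
    allowed.contains d) = true := by decide +kernel

theorem allowed_sorted : allowed.Pairwise (· < ·) := by decide +kernel

/-- the degree with the sign of its residue -/
def sgn (p d : ℕ) : ℤ := if d % p = 1 then (d : ℤ) else -(d : ℤ)

/-- the degree with the sign of its residue, for the exceptional characters -/
def sgnE (p e d : ℕ) : ℤ := if d % p = e % p then (d : ℤ) else -(d : ℤ)

/-- the possible non-exceptional degrees of a block -/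
def candX (p : ℕ) : List ℕ := allowed.filter fun d => d % p == 1 || d % p + 1 == p

/-- the possible exceptional degrees of a block -/
def candY (p e : ℕ) : List ℕ := allowed.filter fun d => d % p == e % p || d % p == (p - e % p) % p

/-- the rows of the principal block -/
def blkRows (p e : ℕ) : List (List ℕ × ℕ) :=
  (sl (candX p) (e - 1)).flatMap fun l => ((candY p e).filter fun g => 1 + (l.map (sgn p)).sum == sgnE p e g).map (l, ·)

theorem five_two : blkRows 5 2 = [] := by decide +kernel

/-- the degrees of a row with the multiplicity of the exceptional degree -/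
def full (t : ℕ) (r : List ℕ × ℕ) : List ℕ := r.1 ++ List.replicate t r.2

/-- the comparison of a five-row with an eleven-row -/
def compat (r5 r11 : List ℕ × ℕ) : Bool :=
  (full 1 r5).all fun d => d % 11 == 0 || decide ((full 1 r5).count d ≤ (full 2 r11).count d)

theorem compat_table : ((blkRows 11 5).all fun r11 => (blkRows 5 4).all fun r5 => !(compat r5 r11) ||
    (r11 == ([12, 23, 45, 45], 126)) ||
    ((r11 == ([45, 45, 230, 1035], 896) || r11 == ([45, 45, 483, 1288], 896)) &&
      (full 1 r5).contains 2024 && (full 1 r5).contains 231)) = true := by decide +kernel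

/-- the values of a rational column allowed at a degree -/
def vals (c d : ℕ) : List ℤ :=
  ((List.range 403).map fun i : ℕ => (i : ℤ) - 201).filter fun z => decide (z * z < (c : ℤ)) &&
    decide (z.natAbs < d) && decide (((d : ℤ) - z) % 4 = 0) &&
    decide (((10200960 / c : ℕ) : ℤ) * z % (d : ℤ) = 0)

/-- the possible orders of the centraliser of a central involution -/
def cList : List ℕ := [128, 384, 640, 896, 1152, 1920, 2688, 4480, 5760, 8064, 13440, 40320]

/-- the sums and the sums of squares of a given number of values with bounded squares -/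
def pairsV (b : ℤ) (V : List ℤ) : ℕ → List (ℤ × ℤ)
  | 0 => [(0, 0)]
  | m + 1 => ((pairsV b V m).flatMap fun p =>
      (V.filter fun z => decide (p.2 + z * z ≤ b)).map fun z => (p.1 + z, p.2 + z * z)).eraseDups

theorem mem_pairsV (b : ℤ) (V : List ℤ) : ∀ zs : List ℤ, (∀ z ∈ zs, z ∈ V) → (zs.map fun z => z * z).sum ≤ b →
    (zs.sum, (zs.map fun z => z * z).sum) ∈ pairsV b V zs.length := by
  intro zs
  induction zs with
  | nil => intro _ _; simp [pairsV]
  | cons z zs ih =>
    intro hV hb
    simp only [List.map_cons, List.sum_cons] at hb ⊢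
    have hz := mul_self_nonneg z
    have h := ih (fun w hw => hV w (by simp [hw])) (by linarith)
    simp only [List.length_cons, pairsV, List.mem_eraseDups, List.mem_flatMap, List.mem_map, List.mem_filter,
      decide_eq_true_eq]
    exact ⟨_, h, z, ⟨hV z (by simp), by linarith⟩, Prod.ext (add_comm _ _) (add_comm _ _)⟩

/-- the columns on groups of characters of equal degree -/
def cols (c : ℕ) : ℤ → List (ℤ × ℕ × ℕ) → List (List (ℤ × ℤ))
  | _, [] => [[]]
  | b, (_, m, d) :: ts => (pairsV b (vals c d) m).flatMap fun p => (cols c (b - p.2) ts).map (p :: ·)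

/-- the linear form -/
def linW : List (ℤ × ℕ × ℕ) → List (ℤ × ℤ) → ℤ
  | (w, _, _) :: ts, p :: ps => w * p.1 + linW ts ps
  | _, _ => 0

/-- the quadratic form -/
def quadW : List (ℤ × ℕ × ℕ) → List (ℤ × ℤ) → ℤ
  | (w, _, d) :: ts, p :: ps => w * p.2 * ((10200960 / d : ℕ) : ℤ) + quadW ts ps
  | _, _ => 0

/-- the squares -/
def sqW : List (ℤ × ℤ) → ℤ
  | p :: ps => p.2 + sqW ps
  | [] => 0

/-- the product with the degrees -/
def degW : List (ℤ × ℕ × ℕ) → List (ℤ × ℤ) → ℤ
  | (_, _, d) :: ts, p :: ps => (d : ℤ) * p.1 + degW ts ps
  | _, _ => 0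

theorem mem_cols (c : ℕ) : ∀ (ts : List (ℤ × ℕ × ℕ)) (zss : List (List ℤ)) (b : ℤ),
    List.Forall₂ (fun (t : ℤ × ℕ × ℕ) (zs : List ℤ) => zs.length = t.2.1 ∧ ∀ z ∈ zs, z ∈ vals c t.2.2) ts zss →
      sqW (zss.map fun zs => (zs.sum, (zs.map fun z => z * z).sum)) ≤ b →
        (zss.map fun zs => (zs.sum, (zs.map fun z => z * z).sum)) ∈ cols c b ts := by
  intro ts
  induction ts with
  | nil => intro zss b h _; cases h; simp [cols]
  | cons t ts ih =>
    intro zss b h hb
    obtain ⟨w, m, d⟩ := t
    have hnn : ∀ zss : List (List ℤ), 0 ≤ sqW (zss.map fun zs => (zs.sum, (zs.map fun z => z * z).sum)) := by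
      intro zss
      induction zss with
      | nil => simp [sqW]
      | cons zs zss ihz =>
        simp only [List.map_cons, sqW]
        have : 0 ≤ (zs.map fun z => z * z).sum := List.sum_nonneg fun x hx => by
          obtain ⟨z, -, rfl⟩ := List.mem_map.1 hx; exact mul_self_nonneg z
        linarith
    cases h with
    | @cons _ zs _ zss' hz hr =>
      simp only [List.map_cons, sqW] at hb ⊢
      have := hnn zss'
      have hq : 0 ≤ (zs.map fun z => z * z).sum := List.sum_nonneg fun x hx => by
        obtain ⟨z, -, rfl⟩ := List.mem_map.1 hx; exact mul_self_nonneg z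
      simp only [cols, List.mem_flatMap, List.mem_map]
      obtain ⟨hz1, hz2⟩ := hz
      refine ⟨_, ?_, _, ih zss' _ hr (by linarith), rfl⟩
      have h := mem_pairsV b (vals c d) zs hz2 (by linarith)
      rwa [show zs.length = m from hz1] at h

theorem cList_table : ((List.range 316).all fun m => 40320 % (128 * m) != 0 || cList.contains (128 * m)) = true := by
  decide +kernel

/-- the weights of the eleven-block -/
def elevenW (a b : ℕ) : List (ℤ × ℕ × ℕ) := [(1, 2, 45), (-1, 1, a), (1, 1, b)]

/-- the test on a column on the eleven-block; the exceptional value follows from the relation -/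
def elevenOk (a b c : ℕ) (ps : List (ℤ × ℤ)) : Bool :=
  (vals c 896).contains (1 + linW (elevenW a b) ps) &&
    decide (10200960 + quadW (elevenW a b) ps -
      (1 + linW (elevenW a b) ps) * (1 + linW (elevenW a b) ps) * ((10200960 / 896 : ℕ) : ℤ) = 0) &&
    decide (1 + sqW ps + 2 * ((1 + linW (elevenW a b) ps) * (1 + linW (elevenW a b) ps)) ≤ (c : ℤ))

/-- the columns allowed on the eleven-block -/
def elevenCols (a b : ℕ) : List (ℕ × List (ℤ × ℤ)) :=
  cList.flatMap fun c => ((cols c ((c : ℤ) - 1) (elevenW a b)).filter (elevenOk a b c)).map (c, ·)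

theorem eleven_cols_a : elevenCols 230 1035 =
    [(896, [(2, 34), (22, 484), (19, 361)]), (2688, [(-6, 18), (22, 484), (27, 729)])] := by decide +kernel

theorem eleven_cols_b : elevenCols 483 1288 = [] := by decide +kernel

/-- the degrees divisible by eleven of the non-exceptional characters of the twenty-three-block -/
def mid : List ℕ := [22, 231, 528, 990, 1540]

/-- the possible exceptional degrees of the twenty-three-block -/
def midY : List ℕ := [264, 495, 770, 1760, 2772]

/-- the squares of the known degrees -/
def known (e : List ℕ) (g : ℕ) : ℕ :=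
  1 + (2 * (45 * 45) + 2 * (896 * 896) + 230 * 230 + 1035 * 1035) + (e.map fun d => d * d).sum + 2 * (g * g)

theorem mid_table : (allowed.all fun d => d % 11 != 0 || [0, 2, 3, 4, 5, 6, 7, 8, 9, 10, 13, 14, 15, 16, 17, 18, 19,
    20, 21].contains (d % 23) || (if d % 23 == 1 || d % 23 == 22 then mid.contains d else midY.contains d)) = true := by
  decide +kernel

/-- the rows of the twenty-three-block -/
def midRows : List (List ℕ × ℕ) :=
  (sl mid 6).flatMap fun e => (midY.filter fun g =>
    decide (1 + (-45 - 45 - 896 - 896) + (e.map (sgn 23)).sum = sgnE 23 11 g) &&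
      decide (known e g + 64 * 64009 ≤ 10200960) && decide ((10200960 - known e g) % 64009 = 0)).map (e, ·)

theorem midRows_eq : midRows = [([22, 22, 22, 231, 231, 990], 495), ([22, 22, 22, 231, 990, 990], 264),
    ([22, 22, 22, 528, 990, 990], 495), ([22, 231, 231, 231, 990, 990], 770),
    ([231, 231, 231, 231, 231, 231], 495), ([231, 231, 231, 231, 231, 990], 264),
    ([231, 231, 231, 231, 528, 990], 495), ([231, 231, 231, 528, 990, 990], 264),
    ([231, 231, 528, 528, 990, 990], 495)] := by decide +kernel

/-- the groups of equal degrees in the twenty-three-block -/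
def midW (r : List ℕ × ℕ) : List (ℤ × ℕ × ℕ) :=
  (mid.filter fun d => decide (0 < r.1.count d)).map fun d => (if d % 23 = 1 then (1 : ℤ) else -1, r.1.count d, d)

/-- the exceptional value given by the relation -/
def midG (r : List ℕ × ℕ) (s : ℤ) (ps : List (ℤ × ℤ)) : ℤ :=
  (if r.2 % 23 = 11 then 1 else -1) * (1 - s + linW (midW r) ps)

/-- the tests on a column on the twenty-three-block, with the sums `s`, `q` of the two values at the degree
forty-five and `a`, `b` the two values at the degrees divisible by twenty-three -/
def midOk (r : List ℕ × ℕ) (c : ℕ) (s q a b : ℤ) (ps : List (ℤ × ℤ)) : Bool :=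
  (vals c r.2).contains (midG r s ps) &&
    decide (10200960 - q * ((10200960 / 45 : ℕ) : ℤ) + quadW (midW r) ps -
      (if r.2 % 23 = 11 then 1 else -1) * (midG r s ps * midG r s ps) * ((10200960 / r.2 : ℕ) : ℤ) = 0) &&
    decide (1 + q + a * a + b * b + sqW ps + 2 * (midG r s ps * midG r s ps) ≤ (c : ℤ)) &&
    decide ((1 + 45 * s + 230 * a + 1035 * b + degW (midW r) ps + 2 * ((r.2 : ℤ) * midG r s ps)) *
      (1 + 45 * s + 230 * a + 1035 * b + degW (midW r) ps + 2 * ((r.2 : ℤ) * midG r s ps)) ≤
      ((10200960 - known r.1 r.2 : ℕ) : ℤ) *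
        ((c : ℤ) - (1 + q + a * a + b * b + sqW ps + 2 * (midG r s ps * midG r s ps))))

/-- the columns allowed on a row of the twenty-three-block -/
def midCols (r : List ℕ × ℕ) (c : ℕ) (s q a b : ℤ) : List (List (ℤ × ℤ)) :=
  (cols c ((c : ℤ) - (1 + q + a * a + b * b)) (midW r)).filter (midOk r c s q a b)

theorem midCols_small : (midRows.all fun r => (midCols r 896 2 34 22 19).isEmpty) = true := by decide +kernel

end Cfsg.Agent.MTwentyThree.ByOrder
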