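import Cfsg.Agent.Lib.Spor.MTwentyThreeOrder.TableDef
import Cfsg.Agent.Lib.Spor.MTwentyThreeOrder.SylowEleven
import Cfsg.Agent.Lib.Char.HalfDegree.Group
import Cfsg.Agent.Lib.Char.SmallDegreeSylow
import Cfsg.Agent.Lib.Classical.Dickson.Tools

/-!
The rows of degrees of the principal blocks at five and eleven of a simple group of the order of the Mathieu
group of degree twenty-three.
-/

set_option autoImplicit false
set_option linter.unusedSectionVars false
set_option linter.style.haveILetI false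

namespace Cfsg.Agent.MTwentyThree.ByOrder

open Cfsg Cfsg.Agent.Char Cfsg.Agent.Small.Order459648 Cfsg.Agent.Char.PrimeSylowCount
open Cfsg.Agent.MTwelve.OrderFront (val_one one_add_sq_le)
open scoped ComplexConjugate

universe u

local instance : Fact (Nat.Prime 23) := ⟨by norm_num⟩
local instance : Fact (Nat.Prime 11) := ⟨by norm_num⟩

variable {G : Type u} [Group G] [Fintype G] [IsSimpleGroup G]

/-- No faithful character of degree eleven. -/
theorem dg_ne_eleven (hG : Nat.card G = 10200960) {χ : IrrCharacter G} (hne : χ ≠ oneChar) : dg χ ≠ 11 := by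
  classical
  intro hd
  obtain ⟨n, ρ, hρ⟩ := irr_isCharacter χ.2
  have h1 : ρ.character 1 = (n : ℂ) := SmallSylow.char_one_nat ρ
  have hn : n = 11 := by
    rw [← hd, dg, ← hρ, charDegree, h1, Complex.natCast_re, Nat.floor_natCast]
  subst hn
  have hinj : Function.Injective ρ := by
    intro a b hab
    refine inv_mul_eq_one.mp ?_
    by_contra hg
    refine SmallOrderGraph.norm_ne_deg (na hG) hne hg ?_
    have h2 : ρ.character (a⁻¹ * b) = ρ.character 1 := by
      show LinearMap.trace ℂ _ (ρ (a⁻¹ * b)) = LinearMap.trace ℂ _ (ρ 1)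
      rw [map_mul, ← hab, ← map_mul, inv_mul_cancel, map_one]
    change ‖(χ : G → ℂ) (a⁻¹ * b)‖ = (dg χ : ℝ)
    rw [← hρ, h2, h1, hd, Complex.norm_natCast]
  have hnn : ∀ H : Subgroup G, H.Normal → Nat.card H ≠ 23 := by
    intro H hH hc
    rcases IsSimpleGroup.eq_bot_or_eq_top_of_normal H hH with e | e
    · rw [e, Subgroup.card_bot] at hc; omega
    · rw [e, Subgroup.card_top, hG] at hc; omega
  obtain ⟨φ⟩ := HalfDegree.main (p := 23) (n := 11) (by norm_num) (by rw [hG]; norm_num)
    (by rw [hG]; norm_num) hnn ρ hinj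
  have h2 := Classical.Dickson.card_P2 (F := ZMod 23)
  have h3 := Nat.card_congr φ.toEquiv
  rw [← Subgroup.index_eq_card, Small.SmallOrders.center_eq_bot (na hG), Subgroup.index_bot, hG] at h3
  rw [ZMod.card, show Nat.gcd 2 (23 - 1) = 2 from rfl] at h2
  omega

/-- The residues of a degree at a self-centralising Sylow subgroup. -/
theorem SelfBlk.residue {p e : ℕ} [Fact p.Prime] (B : SelfBlk p e G) (χ : IrrCharacter G) :
    dg χ % p = 0 ∨ (dg χ % p = 1 ∨ dg χ % p + 1 = p) ∨ (dg χ % p = e % p ∨ dg χ % p = (p - e % p) % p) := by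
  by_cases h : p ∣ dg χ
  · exact Or.inl (Nat.mod_eq_zero_of_dvd h)
  rcases (B.mem_iff).2 h with hX | hY
  · exact Or.inr (Or.inl (sgn_eq B.pp B.two_lt hX).1)
  · exact Or.inr (Or.inr (sgnE_eq B.pp (by have := B.two_le; omega) B.e_lt B.double_ne hY).1)

/-- All degrees of non-principal characters are allowed. -/
theorem dg_allowed (hG : Nat.card G = 10200960) (B23 : SelfBlk 23 11 G) (B11 : SelfBlk 11 5 G)
    {χ : IrrCharacter G} (hne : χ ≠ oneChar) : dg χ ∈ allowed := by
  have hd : dg χ ∣ 10200960 := hG ▸ deg_dvd_card χ.2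
  have h1 : 1 < dg χ := one_lt_degree (na hG) hne
  have h := one_add_sq_le (g := (1 : G)) hne (val_one χ)
  have hC : Nat.card (Subgroup.centralizer ({1} : Set G)) ≤ 10200960 := hG ▸ Subgroup.card_le_card_group _
  have hlt : dg χ < 3195 := by
    by_contra hb
    change (1 : ℤ) + (dg χ : ℤ) * (dg χ : ℤ) ≤ _ at h
    have : (3195 : ℤ) * 3195 ≤ (dg χ : ℤ) * (dg χ : ℤ) := mul_le_mul (by omega) (by omega) (by norm_num) (by omega)
    omega
  have h11 := dg_ne_eleven hG hne
  have ht := List.all_eq_true.1 allowed_table (dg χ) (List.mem_range.2 hlt)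
  have r23 : ¬ ([0, 1, 22, 11, 12].all fun r => dg χ % 23 != r) = true := by
    have := B23.residue χ
    simp only [List.all_cons, List.all_nil, Bool.and_eq_true, bne_iff_ne, ne_eq, and_true]
    omega
  have r11 : ¬ ([0, 1, 10, 5, 6].all fun r => dg χ % 11 != r) = true := by
    have := B11.residue χ
    simp only [List.all_cons, List.all_nil, Bool.and_eq_true, bne_iff_ne, ne_eq, and_true]
    omega
  simp only [Bool.or_eq_true, decide_eq_true_eq, beq_iff_eq, bne_iff_ne, ne_eq] at ht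
  rcases ht with ((((h' | h') | h') | h') | h') | h'
  · omega
  · exact absurd h' h11
  · exact absurd (Nat.mod_eq_zero_of_dvd hd) h'
  · exact absurd h' r23
  · exact absurd h' r11
  · exact List.contains_iff_mem.1 h'

/-- the number of non-principal characters of a degree -/
noncomputable def cnt (G : Type u) [Group G] [Fintype G] (d : ℕ) : ℕ :=
  open scoped Classical in ((Finset.univ.erase (oneChar : IrrCharacter G)).filter fun χ => dg χ = d).card

open scoped Classical in
/-- The counts of a row. -/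
theorem full_count {p : ℕ} [Fact p.Prime] {M : Ideal AlgInt} {P : Sylow p G} {e : ℕ}
    {X Y : Finset (IrrCharacter G)} {a : IrrCharacter G → ℤ} {δ : ℤ} (h : PrimePrincipal M P e X Y a δ)
    {θ : IrrCharacter G} (hθ : θ ∈ Y) (d : ℕ) :
    (full Y.card (sortedDegs (X.erase oneChar), dg θ)).count d =
      ((X.erase oneChar ∪ Y).filter fun χ => dg χ = d).card := by
  have hY : ∀ χ ∈ Y, dg χ = dg θ := fun χ hχ => by
    have h1 := h.regY χ hχ θ hθ 1 (by rw [orderOf_one]; exact (Fact.out : p.Prime).not_dvd_one)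
    rw [val_one, val_one] at h1
    exact_mod_cast h1
  rw [full, List.count_append, count_sortedDegs, List.count_replicate, Finset.filter_union,
    Finset.card_union_of_disjoint (Finset.disjoint_filter_filter (h.disj.mono_left (Finset.erase_subset _ _)))]
  congr 1
  by_cases hd : dg θ = d
  · rw [if_pos (by simpa using hd), Finset.filter_true_of_mem fun χ hχ => (hY χ hχ).trans hd]
  · rw [if_neg (by simpa using hd), Finset.filter_false_of_mem fun χ hχ => by rw [hY χ hχ]; exact hd,
      Finset.card_empty]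

open scoped Classical in
theorem full_le {p : ℕ} [Fact p.Prime] {M : Ideal AlgInt} {P : Sylow p G} {e : ℕ}
    {X Y : Finset (IrrCharacter G)} {a : IrrCharacter G → ℤ} {δ : ℤ} (h : PrimePrincipal M P e X Y a δ)
    (hone : (oneChar : IrrCharacter G) ∈ X) {θ : IrrCharacter G} (hθ : θ ∈ Y) (d : ℕ) :
    (full Y.card (sortedDegs (X.erase oneChar), dg θ)).count d ≤ cnt G d := by
  rw [full_count h hθ]
  refine Finset.card_le_card (Finset.filter_subset_filter _ fun χ hχ => Finset.mem_erase.2 ⟨?_, Finset.mem_univ _⟩)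
  rcases Finset.mem_union.1 hχ with hX | hY
  · exact (Finset.mem_erase.1 hX).1
  · exact fun e1 => Finset.disjoint_left.1 h.disj hone (e1 ▸ hY)

open scoped Classical in
theorem SelfBlk.cnt_eq {p e : ℕ} [Fact p.Prime] (B : SelfBlk p e G) {θ : IrrCharacter G} (hθ : θ ∈ B.Y) {d : ℕ}
    (hd : ¬ p ∣ d) : cnt G d = (full B.Y.card (sortedDegs (B.X.erase oneChar), dg θ)).count d := by
  refine le_antisymm ?_ (full_le B.pp B.one_mem hθ d)
  rw [full_count B.pp hθ]
  refine Finset.card_le_card fun χ hχ => ?_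
  obtain ⟨h1, hdd⟩ := Finset.mem_filter.1 hχ
  refine Finset.mem_filter.2 ⟨?_, hdd⟩
  rcases (B.mem_iff).2 (hdd ▸ hd) with hX | hY
  · exact Finset.mem_union_left _ (Finset.mem_erase.2 ⟨(Finset.mem_erase.1 h1).1, hX⟩)
  · exact Finset.mem_union_right _ hY

/-- The row of the principal block at five. -/
theorem exists_five (hG : Nat.card G = 10200960)
    (hall : ∀ χ : IrrCharacter G, χ ≠ oneChar → dg χ ∈ allowed) :
    ∃ r ∈ blkRows 5 4, ∀ d, (full 1 r).count d ≤ cnt G d := by
  classical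
  haveI : Fact (Nat.Prime 5) := ⟨by norm_num⟩
  obtain ⟨P, n, e, k, hP, -, -, -, -, -, he4, he1, he⟩ :=
    data (G := G) (p := 5) (m := 2040192) (by rw [hG]) (by norm_num) (by norm_num)
  have hel : e = 2 ∨ e = 4 := by
    have : e ≤ 4 := Nat.le_of_dvd (by norm_num) he4
    interval_cases e <;> simp_all
  obtain ⟨t, ht, het⟩ : ∃ t, 0 < t ∧ e * t + 1 = 5 := by
    rcases hel with rfl | rfl
    exacts [⟨2, by norm_num⟩, ⟨1, by norm_num⟩]
  obtain ⟨M, hM⟩ := exists_pModular (show Nat.Prime 5 by norm_num)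
  obtain ⟨X, Y, a, δ, h, h1X, hone, hYc⟩ := Solv.BReyn.exists_principal_one_mem hM hP he (by omega) ht het
  obtain ⟨θ, hθ⟩ : Y.Nonempty := Finset.card_pos.1 (by omega)
  have hr := mem_blkRows h (by norm_num) (by omega) (by omega) (by omega) h1X hone hall hθ
  rcases hel with rfl | rfl
  · rw [five_two] at hr; simp at hr
  · refine ⟨_, hr, fun d => ?_⟩
    have := full_le h h1X hθ d
    rwa [show Y.card = 1 by omega] at this

/-- The counts of degrees prime to eleven, with two degrees of the five-block. -/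
theorem eleven_case (hG : Nat.card G = 10200960) (B23 : SelfBlk 23 11 G) (B11 : SelfBlk 11 5 G) :
    ∃ a b : ℕ, ((a = 230 ∧ b = 1035) ∨ (a = 483 ∧ b = 1288)) ∧
      (∃ θ ∈ B11.Y, dg θ = 896 ∧ sortedDegs (B11.X.erase oneChar) = [45, 45, a, b]) ∧
      (∀ d, ¬ 11 ∣ d → cnt G d = [45, 45, a, b, 896, 896].count d) ∧ 1 ≤ cnt G 2024 ∧ 1 ≤ cnt G 231 := by
  classical
  have hall := fun χ (hne : χ ≠ oneChar) => dg_allowed hG B23 B11 (χ := χ) hne
  obtain ⟨θ, hθ⟩ := B11.exists_Y
  have hY : B11.Y.card = 2 := by have := B11.cardY; omega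
  have hr := mem_blkRows B11.pp B11.two_lt (by norm_num) B11.e_lt B11.double_ne B11.one_mem B11.one_sign hall hθ
  have hcnt : ∀ d, ¬ 11 ∣ d → cnt G d = (full 2 (sortedDegs (B11.X.erase oneChar), dg θ)).count d := fun d hd => by
    rw [B11.cnt_eq hθ hd, hY]
  obtain ⟨r5, hr5, h5⟩ := exists_five hG hall
  have hc : compat r5 (sortedDegs (B11.X.erase oneChar), dg θ) = true := by
    refine List.all_eq_true.2 fun d _ => ?_
    simp only [Bool.or_eq_true, beq_iff_eq, decide_eq_true_eq]
    by_cases hd : 11 ∣ d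
    · exact Or.inl (Nat.mod_eq_zero_of_dvd hd)
    · exact Or.inr (hcnt d hd ▸ h5 d)
  have ht := List.all_eq_true.1 (List.all_eq_true.1 compat_table _ hr) _ hr5
  simp only [hc, Bool.not_true, Bool.false_or, Bool.or_eq_true, Bool.and_eq_true, beq_iff_eq,
    List.contains_iff_mem] at ht
  rcases ht with hbad | ⟨⟨hrow, h2024⟩, h231⟩
  · exfalso
    have hmem : ∀ d, ¬ 11 ∣ d → 0 < (full 2 ([12, 23, 45, 45], 126)).count d → ∃ χ : IrrCharacter G,
        χ ≠ oneChar ∧ dg χ = d := fun d hd h0 => by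
      rw [← hbad, ← hcnt d hd, cnt, Finset.card_pos] at h0
      obtain ⟨χ, hχ⟩ := h0
      obtain ⟨h1, h2⟩ := Finset.mem_filter.1 hχ
      exact ⟨χ, (Finset.mem_erase.1 h1).1, h2⟩
    obtain ⟨φ, hφ1, hφ⟩ := hmem 12 (by norm_num) (by decide)
    obtain ⟨ψ, hψ1, hψ⟩ := hmem 126 (by norm_num) (by decide)
    have key : ∀ {χ : IrrCharacter G}, (dg χ = 12 ∨ dg χ = 126) → χ ∈ B23.Y := fun {χ} hχ => by
      rcases (B23.mem_iff).2 (show ¬ 23 ∣ dg χ by rcases hχ with e | e <;> rw [e] <;> norm_num) with hX | hY'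
      · have := (sgn_eq B23.pp B23.two_lt hX).1
        omega
      · exact hY'
    have h1 := B23.pp.regY φ (key (Or.inl hφ)) ψ (key (Or.inr hψ)) 1 (by rw [orderOf_one]; norm_num)
    rw [val_one, val_one] at h1
    have h2 : dg φ = dg ψ := by exact_mod_cast h1
    omega
  · have hfull : ∀ d ∈ full 1 r5, 1 ≤ cnt G d := fun d hd => le_trans (List.count_pos_iff.2 hd) (h5 d)
    have hlist : ∀ a b : ℕ, (sortedDegs (B11.X.erase oneChar), dg θ) = ([45, 45, a, b], 896) →
        (∃ θ ∈ B11.Y, dg θ = 896 ∧ sortedDegs (B11.X.erase oneChar) = [45, 45, a, b]) ∧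
          ∀ d, ¬ 11 ∣ d → cnt G d = [45, 45, a, b, 896, 896].count d := fun a b e => by
      obtain ⟨e1, e2⟩ := Prod.ext_iff.1 e
      refine ⟨⟨θ, hθ, e2, e1⟩, fun d hd => ?_⟩
      rw [hcnt d hd, e]
      rfl
    rcases hrow with e | e
    · obtain ⟨h1, h2⟩ := hlist 230 1035 e
      exact ⟨230, 1035, Or.inl ⟨rfl, rfl⟩, h1, h2, hfull _ h2024, hfull _ h231⟩
    · obtain ⟨h1, h2⟩ := hlist 483 1288 e
      exact ⟨483, 1288, Or.inr ⟨rfl, rfl⟩, h1, h2, hfull _ h2024, hfull _ h231⟩

end Cfsg.Agent.MTwentyThree.ByOrder
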