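import Mathlib.Tactic

/-!
The searches for the columns at involutions and at elements of order three in a group with the degrees and the
principal blocks of the Mathieu group of degree twenty-three.
-/

set_option autoImplicit false
set_option maxRecDepth 100000

namespace Cfsg.Agent.MTwentyThree.ByOrder

/-- the degrees -/
def colDeg : List ℤ := [1, 22, 45, 45, 230, 231, 231, 231, 253, 770, 770, 896, 896, 990, 990, 1035, 2024]

/-- the column at an involution -/
def colT : List ℤ := [1, 6, -3, -3, 22, 7, 7, 7, 13, -14, -14, 0, 0, -18, -18, 27, 8]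

/-- a value allowed at an element with centraliser of order `C` -/
def okVal (m C d : ℕ) (z : ℤ) : Bool :=
  decide (z.natAbs < d) && decide (z * z < (C : ℤ)) && ((((d : ℤ) - z) % (m : ℤ)) == 0) &&
    ((((10200960 / C : ℕ) : ℤ) * z) % (d : ℤ) == 0)

/-- the allowed values -/
def okVals (m C d : ℕ) : List ℤ :=
  ((List.range 401).map fun i : ℕ => (i : ℤ) - 200).filter (okVal m C d)

theorem mem_okVals {m C d : ℕ} {z : ℤ} (hC : C ≤ 40320) (h : okVal m C d z = true) : z ∈ okVals m C d := by
  refine List.mem_filter.2 ⟨List.mem_map.2 ⟨(z + 200).toNat, List.mem_range.2 ?_, ?_⟩, h⟩ <;>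
  · simp only [okVal, Bool.and_eq_true, decide_eq_true_eq] at h
    have h1 : z * z < 40401 := lt_of_lt_of_le h.1.1.2 (by omega)
    have : -201 < z ∧ z < 201 := ⟨by nlinarith, by nlinarith⟩
    omega

/-- the search, with a test at the end -/
def scan (m C : ℕ) (fin : List ℤ → Bool) : Bool :=
  (okVals m C 2024).all fun a => (okVals m C 1035).all fun b =>
    let th := 1 - b + a
    let n0 := 1 + a * a + b * b + 2 * (th * th)
    !(okVal m C 990 th && decide (n0 ≤ (C : ℤ))) || (okVals m C 896).all fun e =>
      let q := a - 1 - 2 * e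
      let n1 := n0 + 2 * (e * e) + q * q
      !(okVal m C 231 q && decide (n1 ≤ (C : ℤ))) || (okVals m C 45).all fun f => (okVals m C 45).all fun f2 =>
        let g := 1 + f + f2 + b - e
        let n2 := n1 + f * f + f2 * f2 + g * g
        !(okVal m C 230 g && decide (n2 ≤ (C : ℤ))) || (okVals m C 22).all fun h => (okVals m C 231).all fun r =>
          !(decide (n2 + h * h + r * r ≤ (C : ℤ))) || (okVals m C 231).all fun r2 =>
            let w := 1 - h - f - f2 + q + r + r2 - 2 * e + 2 * th
            let n4 := n2 + h * h + r * r + r2 * r2 + 2 * (w * w)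
            let S := 1 + 22 * h + 45 * (f + f2) + 230 * g + 231 * (q + r + r2) + 1540 * w + 1792 * e + 1980 * th +
              1035 * b + 2024 * a
            !(okVal m C 770 w && decide (n4 ≤ (C : ℤ)) && (S % 253 == 0)) ||
              !(n4 + (-S / 253) * (-S / 253) == (C : ℤ)) ||
                fin [1, h, f, f2, g, q, r, r2, -S / 253, w, w, e, e, th, th, b, a]

theorem scan_sound {m C : ℕ} {fin : List ℤ → Bool} (hs : scan m C fin = true) (hC : C ≤ 40320)
    {a b e f f2 g h q r r2 o w th : ℤ} (ha : okVal m C 2024 a = true) (hb : okVal m C 1035 b = true)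
    (he : okVal m C 896 e = true) (hf : okVal m C 45 f = true) (hf2 : okVal m C 45 f2 = true)
    (hg : okVal m C 230 g = true) (hh : okVal m C 22 h = true) (hq : okVal m C 231 q = true)
    (hr : okVal m C 231 r = true) (hr2 : okVal m C 231 r2 = true) (hw : okVal m C 770 w = true)
    (hth : okVal m C 990 th = true) (h7 : 1 - b + a = th) (h5 : 1 + q + e + e = a) (h11 : 1 + f + f2 - g + b = e)
    (h23 : 1 - h - f - f2 + q + r + r2 - e - e + th + th = w)
    (hdeg : 1 + 22 * h + 45 * f + 45 * f2 + 230 * g + 231 * q + 231 * r + 231 * r2 + 253 * o + 770 * w + 770 * w +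
      896 * e + 896 * e + 990 * th + 990 * th + 1035 * b + 2024 * a = 0)
    (hnorm : 1 + h * h + f * f + f2 * f2 + g * g + q * q + r * r + r2 * r2 + o * o + w * w + w * w + e * e + e * e +
      th * th + th * th + b * b + a * a = (C : ℤ)) :
    fin [1, h, f, f2, g, q, r, r2, o, w, w, e, e, th, th, b, a] = true := by
  have eth : 1 - b + a = th := h7
  have eq' : a - 1 - 2 * e = q := by omega
  have eg : 1 + f + f2 + b - e = g := by omega
  have ew : 1 - h - f - f2 + q + r + r2 - 2 * e + 2 * th = w := by omega
  simp only [scan, List.all_eq_true, Bool.or_eq_true, Bool.not_eq_true', Bool.and_eq_false_iff,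
    decide_eq_false_iff_not, beq_eq_false_iff_ne, ne_eq] at hs
  have s := hs a (mem_okVals hC ha) b (mem_okVals hC hb)
  rw [eth] at s
  have nn : ∀ x : ℤ, 0 ≤ x * x := mul_self_nonneg
  have := nn h; have := nn f; have := nn f2; have := nn g; have := nn q; have := nn r; have := nn r2
  have := nn o; have := nn w; have := nn e; have := nn th; have := nn a; have := nn b
  rcases s with (s | s) | s
  · rw [hth] at s; exact absurd s (by simp)
  · exact absurd (by linarith) s
  have s := s e (mem_okVals hC he)
  rw [eq'] at s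
  rcases s with (s | s) | s
  · rw [hq] at s; exact absurd s (by simp)
  · exact absurd (by linarith) s
  have s := s f (mem_okVals hC hf) f2 (mem_okVals hC hf2)
  rw [eg] at s
  rcases s with (s | s) | s
  · rw [hg] at s; exact absurd s (by simp)
  · exact absurd (by linarith) s
  rcases s h (mem_okVals hC hh) r (mem_okVals hC hr) with s | s
  · exact absurd (by linarith) s
  have s := s r2 (mem_okVals hC hr2)
  rw [ew] at s
  set S := 1 + 22 * h + 45 * (f + f2) + 230 * g + 231 * (q + r + r2) + 1540 * w + 1792 * e + 1980 * th + 1035 * b +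
    2024 * a with hS
  have hSo : S = -(253 * o) := by rw [hS]; linarith
  have hdiv : -S / 253 = o := by omega
  rw [hdiv] at s
  rcases s with (((s | s) | s) | s) | s
  · rw [hw] at s; exact absurd s (by simp)
  · exact absurd (by linarith) s
  · exact absurd (by omega) s
  · exact absurd (by linarith) s
  · exact s

/-- the divisors of `40320` divisible by `m` -/
def cMul (m : ℕ) : List ℕ := ((List.range (40320 / m)).map fun j => m * (j + 1)).filter fun C => 40320 % C == 0

theorem mem_cMul {m C : ℕ} (hm : 0 < m) (hC : C ∣ 40320) (hmC : m ∣ C) : C ∈ cMul m := by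
  obtain ⟨j, rfl⟩ := hmC
  obtain ⟨j, rfl⟩ : ∃ i, j = i + 1 := ⟨j - 1, by rcases j with _ | j <;> simp at hC ⊢⟩
  refine List.mem_filter.2 ⟨List.mem_map.2 ⟨j, List.mem_range.2 ?_, rfl⟩, by simp [Nat.mod_eq_zero_of_dvd hC]⟩
  have h1 := Nat.le_of_dvd (by norm_num) hC
  exact Nat.lt_of_succ_le ((Nat.le_div_iff_mul_le hm).2 (by rw [mul_comm]; exact h1))

/-- the test at an involution: either the relation fails or the column is that of the Mathieu group -/
def finTwo (C : ℕ) : List ℤ → Bool
  | [x, h, f, f2, g, q, r, r2, o, w, w', e, e', th, th', b, a] =>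
    !(10200960 + (f * f + f2 * f2) * 226688 - g * g * 44352 + b * b * 9856 - e * e * 11385 == 0) ||
      (C == 2688 && [x, h, f, f2, g, q, r, r2, o, w, w', e, e', th, th', b, a] == colT)
  | _ => false

/-- the test at an element of order three -/
def finThree (C : ℕ) : List ℤ → Bool
  | [x, h, f, f2, g, q, r, r2, o, w, w', e, e', th, th', b, a] =>
    !(x + 6 * h - 3 * f - 3 * f2 + 22 * g + 7 * q + 7 * r + 7 * r2 + 13 * o - 14 * w - 14 * w' + 0 * e + 0 * e' -
        18 * th - 18 * th' + 27 * b + 8 * a == 0) || C == 180
  | _ => false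

theorem scan_two : ((cMul 2).all fun C => scan 4 C (finTwo C)) = true := by decide +kernel

theorem scan_three : ((cMul 9).all fun C => scan 3 C (finThree C)) = true := by decide +kernel

end Cfsg.Agent.MTwentyThree.ByOrder
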