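import Cfsg.Agent.Lib.Spor.MTwentyThreeOrder.Cols
import Cfsg.Agent.Lib.Spor.MTwentyThreeNse.Counts
import Cfsg.Agent.Lib.Solv.UniqueSub

/-!
The centralisers of elements of order seven in a simple group with the degrees and the principal blocks of the
Mathieu group of degree twenty-three, and the local data of such a group.
-/

set_option autoImplicit false
set_option linter.unusedSectionVars false
set_option linter.style.haveILetI false
set_option maxHeartbeats 800000

namespace Cfsg.Agent.MTwentyThree.ByOrder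

open Cfsg.Agent.Solv
open Cfsg.Agent.MTwentyThree.Nse (commCnt commCnt_eq_of_conj exists_conj_zpowers cnt_mul_normalizer conj_card_mul
  centralizer_le_normalizer exists_comm)

universe u

section General

variable {G : Type u} [Group G] [Finite G]

/-- Counting commuting pairs of members of two given orders in both ways. -/
theorem comm_pairs {p q : ℕ} {a b : ℕ} (ha : ∀ x : G, orderOf x = p → commCnt x q = a)
    (hb : ∀ y : G, orderOf y = q → commCnt y p = b) : CV.cnt G p * a = CV.cnt G q * b := by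
  classical
  haveI := Fintype.ofFinite G
  let e1 : {w : G × G // orderOf w.1 = p ∧ orderOf w.2 = q ∧ Commute w.1 w.2} ≃
      Σ x : {x : G // orderOf x = p}, {y : G // Commute x.1 y ∧ orderOf y = q} :=
    ⟨fun w => ⟨⟨w.1.1, w.2.1⟩, w.1.2, w.2.2.2, w.2.2.1⟩, fun s => ⟨(s.1.1, s.2.1), s.1.2, s.2.2.2, s.2.2.1⟩,
      fun _ => rfl, fun _ => rfl⟩
  let e2 : {w : G × G // orderOf w.1 = p ∧ orderOf w.2 = q ∧ Commute w.1 w.2} ≃
      Σ y : {y : G // orderOf y = q}, {x : G // Commute y.1 x ∧ orderOf x = p} :=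
    ⟨fun w => ⟨⟨w.1.2, w.2.2.1⟩, w.1.1, w.2.2.2.symm, w.2.1⟩,
      fun s => ⟨(s.2.1, s.1.1), s.2.2.2, s.1.2, s.2.2.1.symm⟩, fun _ => rfl, fun _ => rfl⟩
  have h := (Nat.card_congr e1).symm.trans (Nat.card_congr e2)
  rw [Nat.card_sigma, Nat.card_sigma] at h
  have h1 : ∀ x : {x : G // orderOf x = p}, Nat.card {y : G // Commute x.1 y ∧ orderOf y = q} = a := fun x =>
    ha x.1 x.2
  have h2 : ∀ y : {y : G // orderOf y = q}, Nat.card {x : G // Commute y.1 x ∧ orderOf x = p} = b := fun y =>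
    hb y.1 y.2
  rw [Finset.sum_congr rfl fun x _ => h1 x, Finset.sum_congr rfl fun x _ => h2 x, Finset.sum_const,
    Finset.sum_const, Finset.card_univ, Finset.card_univ, smul_eq_mul, smul_eq_mul,
    ← Nat.card_eq_fintype_card, ← Nat.card_eq_fintype_card] at h
  exact h

theorem commCnt_eq_cnt_cent (x : G) (q : ℕ) :
    commCnt x q = CV.cnt ↥(Subgroup.centralizer ({x} : Set G)) q :=
  Nat.card_congr
    { toFun := fun v => ⟨⟨v.1, Subgroup.mem_centralizer_singleton_iff.2 v.2.1.symm.eq⟩, by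
        rw [Subgroup.orderOf_mk]; exact v.2.2⟩
      invFun := fun v => ⟨v.1.1, (Subgroup.mem_centralizer_singleton_iff.1 v.1.2).symm, by
        rw [Subgroup.orderOf_coe]; exact v.2⟩
      left_inv := fun _ => rfl
      right_inv := fun _ => rfl }

theorem dvd_cent {x y : G} (h : Commute x y) :
    orderOf y ∣ Nat.card (Subgroup.centralizer ({x} : Set G)) := by
  have := orderOf_dvd_natCard (⟨y, Subgroup.mem_centralizer_singleton_iff.2 h.symm.eq⟩ :
    Subgroup.centralizer ({x} : Set G))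
  rwa [Subgroup.orderOf_mk] at this

/-- A two-group of order at least sixteen with one involution has one cyclic subgroup of order eight. -/
theorem exists_eight {H : Type u} [Group H] [Finite H] {n : ℕ} (hH : Nat.card H = 2 ^ n) (hn : 4 ≤ n)
    (h1 : ∀ s t : H, orderOf s = 2 → orderOf t = 2 → s = t) :
    ∃ a : H, orderOf a = 8 ∧ ∀ b : H, orderOf b = 8 → b ∈ Subgroup.zpowers a := by
  haveI : Fact (Nat.Prime 2) := ⟨Nat.prime_two⟩
  have hu : UniqueOrderP 2 H := fun x y hx hy hy1 => by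
    by_cases hx1 : x = 1
    · rw [hx1]; exact Subgroup.one_mem _
    · rw [h1 x y (orderOf_eq_prime hx hx1) (orderOf_eq_prime hy hy1)]
      exact Subgroup.mem_zpowers y
  have cyc : ∀ g : H, ∀ m : ℕ, 3 ≤ m → orderOf g = 2 ^ m → (∀ b : H, orderOf b = 8 → b ∈ Subgroup.zpowers g) →
      ∃ a : H, orderOf a = 8 ∧ ∀ b : H, orderOf b = 8 → b ∈ Subgroup.zpowers a := fun g m hm hg hall => by
    obtain ⟨k, rfl⟩ : ∃ k, m = k + 3 := ⟨m - 3, by omega⟩
    refine ⟨g ^ 2 ^ k, ?_, fun b hb => ?_⟩
    · rw [orderOf_pow' _ (by positivity), hg, pow_add, Nat.gcd_eq_right (dvd_mul_right _ _),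
        Nat.mul_div_cancel_left _ (by positivity)]
      norm_num
    · obtain ⟨i, rfl⟩ := hall b hb
      have h8 : (g ^ i) ^ 8 = 1 := hb ▸ pow_orderOf_eq_one _
      rw [← zpow_natCast, ← zpow_mul, ← orderOf_dvd_iff_zpow_eq_one, hg, pow_add] at h8
      push_cast at h8
      obtain ⟨j, hj⟩ := h8
      refine ⟨j, ?_⟩
      show (g ^ 2 ^ k) ^ j = g ^ i
      rw [← zpow_natCast, ← zpow_mul]
      congr 1
      push_cast
      linarith
  rcases cyclic_or_quaternion (IsPGroup.of_card hH) hu with hc | ⟨-, m, ⟨φ⟩⟩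
  · obtain ⟨g, hg⟩ := hc.exists_generator
    exact cyc g n (by omega) ((orderOf_eq_card_of_forall_mem_zpowers hg).trans hH) fun b _ => hg b
  · haveI : NeZero (2 ^ m) := ⟨by positivity⟩
    have hm : n = m + 2 := by
      have := Nat.card_congr φ.toEquiv
      rw [hH, Nat.card_eq_fintype_card, QuaternionGroup.card] at this
      exact Nat.pow_right_injective le_rfl (this.trans (by ring))
    refine cyc (φ.symm (QuaternionGroup.a 1)) (m + 1) (by omega) ?_ fun b hb => ?_
    · rw [MulEquiv.orderOf_eq, QuaternionGroup.orderOf_a_one, pow_succ, mul_comm]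
    · obtain ⟨c, rfl⟩ := φ.symm.surjective b
      rw [MulEquiv.orderOf_eq] at hb
      rcases c with i | i
      · refine ⟨(i.val : ℤ), ?_⟩
        show φ.symm (QuaternionGroup.a 1) ^ (i.val : ℤ) = φ.symm (QuaternionGroup.a i)
        rw [zpow_natCast, ← map_pow, QuaternionGroup.a_one_pow, ZMod.natCast_zmod_val]
      · rw [QuaternionGroup.orderOf_xa] at hb
        omega

end General

variable {G : Type u} [Group G] [Fintype G] [IsSimpleGroup G]

namespace Cols

variable (K : Cols G)

include K in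
theorem not_sq_seven : ¬ 7 ^ 2 ∣ Nat.card G := by rw [K.card]; norm_num

include K in
theorem seven_norm_cent {x : G} (hx : orderOf x = 7) :
    Nat.card (Subgroup.normalizer ((Subgroup.zpowers x : Subgroup G) : Set G)) =
      3 * Nat.card (Subgroup.centralizer ({x} : Set G)) := by
  haveI : Fact (Nat.Prime 7) := ⟨by norm_num⟩
  have hfac : (Nat.card G).factorization 7 = 1 := by
    rw [K.card, show (10200960 : ℕ) = 7 * 1457280 from rfl, Nat.factorization_mul (by norm_num) (by norm_num),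
      Finsupp.add_apply, Nat.Prime.factorization_self (by norm_num),
      Nat.factorization_eq_zero_of_not_dvd (by norm_num : ¬ 7 ∣ 1457280)]
  let P : Sylow 7 G := Sylow.ofCard (Subgroup.zpowers x) (by rw [Nat.card_zpowers, hx, hfac, pow_one])
  have hi := K.seven_index P
  change (Subgroup.centralizer ((Subgroup.zpowers x : Subgroup G) : Set G)).relIndex
    (Subgroup.normalizer ((Subgroup.zpowers x : Subgroup G) : Set G)) = 3 at hi
  rw [show Subgroup.centralizer ((Subgroup.zpowers x : Subgroup G) : Set G) =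
    Subgroup.centralizer ({x} : Set G) from by rw [Subgroup.zpowers_eq_closure, Subgroup.centralizer_closure]] at hi
  rw [← Subgroup.relIndex_bot_left, ← Subgroup.relIndex_mul_relIndex ⊥ _ _ bot_le (centralizer_le_normalizer x),
    Subgroup.relIndex_bot_left, hi, mul_comm]

include K in
/-- The possible orders of the centraliser of an element of order seven. -/
theorem seven_options {x : G} (hx : orderOf x = 7) :
    ∃ k : ℕ, Nat.card (Subgroup.centralizer ({x} : Set G)) = 7 * k ∧ (k = 2 ∨ k = 16 ∨ k = 128) ∧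
      CV.cnt G 7 * k = 2914560 := by
  haveI : Fact (Nat.Prime 7) := ⟨by norm_num⟩
  haveI : Fact (Nat.Prime 3) := ⟨Nat.prime_three⟩
  have hg : x ≠ 1 := fun e => by rw [e, orderOf_one] at hx; omega
  have hd := K.cdvd x hg (by rw [hx]; norm_num) (by rw [hx]; norm_num)
  obtain ⟨k, hk⟩ : 7 ∣ Nat.card (Subgroup.centralizer ({x} : Set G)) := hx ▸ dvd_cent (Commute.refl x)
  have h3 : ¬ 3 ∣ k := fun h => by
    obtain ⟨y, hy, hxy⟩ := exists_comm (p := 3) (x := x) (hk ▸ h.mul_left 7)
    have := dvd_cent hxy.symm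
    rw [K.three hy, hx] at this
    omega
  have hn := cnt_mul_normalizer (p := 7) K.not_sq_seven hx
  rw [K.seven_norm_cent hx, hk, K.card] at hn
  have hm : CV.cnt G 7 * k = 2914560 := by linarith
  have hkey := CV.key (G := G) 7 (by rw [K.card]; norm_num)
  rw [Nat.Prime.divisors (by norm_num : Nat.Prime 7), Finset.sum_pair (by norm_num), CV.cnt_one] at hkey
  refine ⟨k, hk, ?_, hm⟩
  have h640 : k ∣ 640 := by
    rw [hk] at hd
    have h5760 : k ∣ 5760 := Nat.dvd_of_mul_dvd_mul_left (by norm_num : 0 < 7) hd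
    exact (Nat.Coprime.pow_right 2 ((Nat.prime_three.coprime_iff_not_dvd.2 h3).symm)).dvd_of_dvd_mul_left
      (show k ∣ 3 ^ 2 * 640 from h5760)
  have hc : CV.cnt G 7 = 2914560 / k := by
    rw [← hm, Nat.mul_div_cancel _ (Nat.pos_of_dvd_of_pos h640 (by norm_num))]
  rw [hc] at hkey
  have hfin : ∀ k ∈ (Finset.range 641).filter (fun k => 640 % k = 0),
      (1 + 2914560 / k) % 7 = 0 → k = 2 ∨ k = 16 ∨ k = 128 := by decide +kernel
  exact hfin k (Finset.mem_filter.2 ⟨Finset.mem_range.2 (Nat.lt_succ_of_le (Nat.le_of_dvd (by norm_num) h640)),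
    Nat.mod_eq_zero_of_dvd h640⟩) (Nat.mod_eq_zero_of_dvd hkey)

include K in
theorem cnt_two : CV.cnt G 2 = 3795 := by
  obtain ⟨t, ht⟩ := K.exists_invol
  have he := conj_card_mul t
  have hs : Nat.card {g : G // IsConj t g} = CV.cnt G 2 := by
    refine Nat.card_congr (Equiv.subtypeEquivRight fun g => ⟨fun h => ?_, K.invol_conj ht⟩)
    obtain ⟨c, rfl⟩ := isConj_iff.mp h
    rw [show c * t * c⁻¹ = MulAut.conj c t from rfl, MulEquiv.orderOf_eq, ht]
  rw [hs, (K.invol ht).1, K.card] at he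
  omega

include K in
/-- An element of order seven with a large centraliser centralises exactly one involution. -/
theorem seven_one_invol {x : G} (hx : orderOf x = 7) {k : ℕ}
    (hk : k = 16 ∨ k = 128) (hm : CV.cnt G 7 * k = 2914560) : commCnt x 2 = 1 := by
  haveI : Fact (Nat.Prime 7) := ⟨by norm_num⟩
  obtain ⟨t, ht⟩ := K.exists_invol
  have ha : ∀ y : G, orderOf y = 7 → commCnt y 2 = commCnt x 2 := fun y hy => by
    obtain ⟨g, hg⟩ := exists_conj_zpowers (p := 7) K.not_sq_seven hx hy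
    exact commCnt_eq_of_conj hg 2
  have hb : ∀ u : G, orderOf u = 2 → commCnt u 7 = commCnt t 7 := fun u hu => by
    obtain ⟨g, rfl⟩ := isConj_iff.1 (K.invol_conj ht hu)
    exact commCnt_eq_of_conj (g := g) (MonoidHom.map_zpowers _ _) 7
  have hp := comm_pairs ha hb
  rw [K.cnt_two] at hp
  set j := commCnt x 2 with hj
  -- the involutions in the centraliser of `x` are odd in number
  have hjo : (1 + j) % 2 = 0 := by
    have h2 : 2 ∣ Nat.card (Subgroup.centralizer ({x} : Set G)) := by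
      obtain ⟨k', hk', hk2, hm'⟩ := K.seven_options hx
      rw [hk']
      rcases hk2 with rfl | rfl | rfl <;> norm_num
    have hkey := CV.key (G := ↥(Subgroup.centralizer ({x} : Set G))) 2 h2
    rw [Nat.Prime.divisors Nat.prime_two, Finset.sum_pair (by norm_num), CV.cnt_one, ← commCnt_eq_cnt_cent] at hkey
    omega
  -- the elements of order seven in the centraliser of `t`
  have hC : Nat.card (Subgroup.centralizer ({t} : Set G)) = 2688 := (K.invol ht).1
  rw [commCnt_eq_cnt_cent t 7] at hp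
  obtain ⟨y, hy⟩ := exists_prime_orderOf_dvd_card' (G := ↥(Subgroup.centralizer ({t} : Set G))) 7
    (by rw [hC]; norm_num)
  have hn := cnt_mul_normalizer (p := 7) (by rw [hC]; norm_num) hy
  have hd : CV.cnt ↥(Subgroup.centralizer ({t} : Set G)) 7 ∣ 16128 := ⟨_, by rw [hC] at hn; exact hn.symm⟩
  have hkey := CV.key (G := ↥(Subgroup.centralizer ({t} : Set G))) 7 (by rw [hC]; norm_num)
  rw [Nat.Prime.divisors (by norm_num : Nat.Prime 7), Finset.sum_pair (by norm_num), CV.cnt_one] at hkey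
  set d := CV.cnt ↥(Subgroup.centralizer ({t} : Set G)) 7
  have hdj : d * k = 768 * j := by
    have : 3795 * (d * k) = 3795 * (768 * j) := by
      rw [← mul_assoc, ← hp, mul_right_comm, hm]; ring
    omega
  have hj7 : j % 7 = 1 ∧ j ∣ 2688 := by
    rcases hk with rfl | rfl
    · have e : d = 48 * j := by omega
      rw [e] at hd hkey
      exact ⟨by omega, (Nat.dvd_of_mul_dvd_mul_left (by norm_num : 0 < 48)
        (show 48 * j ∣ 48 * 336 from hd)).trans (by norm_num)⟩
    · have e : d = 6 * j := by omega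
      rw [e] at hd hkey
      exact ⟨by omega, Nat.dvd_of_mul_dvd_mul_left (by norm_num : 0 < 6) (show 6 * j ∣ 6 * 2688 from hd)⟩
  have h21 : j ∣ 21 := by
    have hco : Nat.Coprime j (2 ^ 7) := Nat.Coprime.pow_right 7
      ((Nat.prime_two.coprime_iff_not_dvd.2 (by omega)).symm)
    exact hco.dvd_of_dvd_mul_left (show j ∣ 2 ^ 7 * 21 from hj7.2)
  have hle := Nat.le_of_dvd (by norm_num) h21
  interval_cases j <;> omega

include K in
theorem seven {x : G} (hx : orderOf x = 7) :
    Nat.card (Subgroup.centralizer ({x} : Set G)) = 14 ∧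
      Nat.card (Subgroup.normalizer ((Subgroup.zpowers x : Subgroup G) : Set G)) = 42 := by
  obtain ⟨k, hk, hk', hm⟩ := K.seven_options hx
  rcases hk' with rfl | hk'
  · exact ⟨hk, by rw [K.seven_norm_cent hx, hk]⟩
  exfalso
  haveI : Fact (Nat.Prime 7) := ⟨by norm_num⟩
  haveI : Fact (Nat.Prime 3) := ⟨Nat.prime_three⟩
  haveI : Fact (Nat.Prime 2) := ⟨Nat.prime_two⟩
  have hj := K.seven_one_invol hx hk' hm
  obtain ⟨n, hn, hkn⟩ : ∃ n, 4 ≤ n ∧ k = 2 ^ n := by
    rcases hk' with rfl | rfl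
    · exact ⟨4, le_rfl, rfl⟩
    · exact ⟨7, by norm_num, rfl⟩
  subst hkn
  set C := Subgroup.centralizer ({x} : Set G) with hCdef
  let S : Sylow 2 C := default
  have hS : Nat.card S = 2 ^ n := by
    rw [S.card_eq_multiplicity, hk, Nat.factorization_mul (by norm_num) (by positivity), Finsupp.add_apply,
      Nat.factorization_eq_zero_of_not_dvd (by norm_num : ¬ 2 ∣ 7), Nat.Prime.factorization_pow Nat.prime_two,
      Finsupp.single_eq_same, zero_add]
  let x' : C := ⟨x, Subgroup.mem_centralizer_singleton_iff.2 rfl⟩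
  have hx' : x' ∈ Subgroup.center C := Subgroup.mem_center_iff.2 fun g =>
    Subtype.ext (Subgroup.mem_centralizer_singleton_iff.1 g.2)
  have hnorm : (S : Subgroup C).Normal := by
    refine Subgroup.normalizer_eq_top_iff.1 (Subgroup.eq_top_of_card_eq _ ?_)
    have h1 : 7 ∣ Nat.card (Subgroup.normalizer ((S : Subgroup C) : Set C)) := by
      have := Subgroup.card_dvd_of_le ((Subgroup.zpowers_le.2 hx').trans
        (Subgroup.center_le_normalizer _) : Subgroup.zpowers x' ≤ Subgroup.normalizer ((S : Subgroup C) : Set C))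
      rwa [Nat.card_zpowers, Subgroup.orderOf_mk, hx] at this
    have h2 : 2 ^ n ∣ Nat.card (Subgroup.normalizer ((S : Subgroup C) : Set C)) :=
      hS ▸ Subgroup.card_dvd_of_le Subgroup.le_normalizer
    refine Nat.dvd_antisymm (Subgroup.card_subgroup_dvd_card _) ?_
    rw [hk]
    exact Nat.Coprime.mul_dvd_of_dvd_of_dvd (Nat.Coprime.pow_right n (by norm_num)) h1 h2
  have hin : ∀ b : C, (∃ i, orderOf b = 2 ^ i) → b ∈ (S : Subgroup C) := fun b ⟨i, hi⟩ => by
    obtain ⟨T, hT⟩ := (IsPGroup.of_card (n := i) (by rw [Nat.card_zpowers, hi]) :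
      IsPGroup 2 (Subgroup.zpowers b)).exists_le_sylow
    haveI := Sylow.unique_of_normal S hnorm
    rw [Subsingleton.elim S T]
    exact hT (Subgroup.mem_zpowers b)
  have huni : ∀ s t : (S : Subgroup C), orderOf s = 2 → orderOf t = 2 → s = t := by
    intro s t hs ht
    have hsub : Subsingleton {v : G // Commute x v ∧ orderOf v = 2} := (Nat.card_eq_one_iff_unique.1 hj).1
    have mk : ∀ v : (S : Subgroup C), orderOf v = 2 → Commute x (v.1 : G) ∧ orderOf (v.1 : G) = 2 := fun v hv =>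
      ⟨(Subgroup.mem_centralizer_singleton_iff.1 v.1.2).symm, by
        rw [Subgroup.orderOf_coe, Subgroup.orderOf_coe, hv]⟩
    have he := congrArg Subtype.val (@Subsingleton.elim _ hsub ⟨_, mk s hs⟩ ⟨_, mk t ht⟩)
    exact Subtype.ext (Subtype.ext he)
  obtain ⟨a, ha, hall⟩ := exists_eight (H := ↥(S : Subgroup C)) hS hn huni
  set a' : G := (a.1 : G) with ha'
  have hoa : orderOf a' = 8 := by rw [ha', Subgroup.orderOf_coe, Subgroup.orderOf_coe, ha]
  obtain ⟨f, hf⟩ := exists_prime_orderOf_dvd_card'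
    (G := ↥(Subgroup.normalizer ((Subgroup.zpowers x : Subgroup G) : Set G))) 3
    (by rw [K.seven_norm_cent hx]; exact dvd_mul_right _ _)
  set g : G := (f : G) with hg
  have hog : orderOf g = 3 := by rw [hg, Subgroup.orderOf_coe, hf]
  have hfa : g * a' * g⁻¹ ∈ Subgroup.zpowers a' := by
    have hmem : g * a' * g⁻¹ ∈ C := by
      refine Subgroup.mem_centralizer_singleton_iff.2 ?_
      obtain ⟨i, hi⟩ := (Subgroup.mem_normalizer_iff''.1 f.2 x).1 (Subgroup.mem_zpowers x)
      have hax : Commute a' x := Subgroup.mem_centralizer_singleton_iff.1 a.1.2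
      have h2 : Commute a' (g⁻¹ * x * g) := by
        rw [show g⁻¹ * x * g = x ^ i from hi.symm]; exact hax.zpow_right i
      have h3 := h2.map (MulAut.conj g).toMonoidHom
      simpa [mul_assoc] using h3.eq
    have ho : orderOf (g * a' * g⁻¹) = 8 := by
      rw [show g * a' * g⁻¹ = MulAut.conj g a' from rfl, MulEquiv.orderOf_eq, hoa]
    have hs : (⟨_, hmem⟩ : C) ∈ (S : Subgroup C) := hin _ ⟨3, by rw [Subgroup.orderOf_mk, ho]; norm_num⟩
    obtain ⟨i, hi⟩ := hall ⟨_, hs⟩ (by rw [Subgroup.orderOf_mk, Subgroup.orderOf_mk, ho])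
    exact ⟨i, congrArg (fun v : ↥(S : Subgroup C) => ((v.1 : C) : G)) hi⟩
  obtain ⟨i, hi⟩ := hfa
  replace hi : g * a' * g⁻¹ = a' ^ i := hi.symm
  have hstep : ∀ j : ℤ, g * a' ^ j * g⁻¹ = a' ^ (i * j) := fun j => by
    rw [← conj_zpow, hi, ← zpow_mul]
  have h3 : a' ^ (i * (i * i)) = a' := by
    rw [← hstep, ← hstep, ← hi]
    have e : g ^ 3 = 1 := hog ▸ pow_orderOf_eq_one g
    calc g * (g * (g * a' * g⁻¹) * g⁻¹) * g⁻¹ = g ^ 3 * a' * (g ^ 3)⁻¹ := by
          simp only [pow_succ, pow_zero, one_mul, mul_inv_rev, mul_assoc]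
      _ = a' := by rw [e]; group
  have hi1 : a' ^ i = a' := by
    have hz : ((i * (i * i) : ℤ) : ZMod 8) = ((1 : ℤ) : ZMod 8) := by
      rw [ZMod.intCast_eq_intCast_iff_dvd_sub]
      rw [show ((8 : ℕ) : ℤ) = ((orderOf a' : ℕ) : ℤ) by rw [hoa], orderOf_dvd_sub_iff_zpow_eq_zpow, zpow_one]
      exact h3.symm
    have hcube : ∀ z : ZMod 8, z * (z * z) = 1 → z = 1 := by decide
    push_cast at hz
    have hiz : ((i : ℤ) : ZMod 8) = ((1 : ℤ) : ZMod 8) := by simpa using hcube _ hz
    rw [ZMod.intCast_eq_intCast_iff_dvd_sub, show ((8 : ℕ) : ℤ) = ((orderOf a' : ℕ) : ℤ) by rw [hoa],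
      orderOf_dvd_sub_iff_zpow_eq_zpow, zpow_one] at hiz
    exact hiz.symm
  rw [hi1, mul_inv_eq_iff_eq_mul] at hi
  have hdvd := dvd_cent (show Commute g a' from hi)
  rw [K.three hog, hoa] at hdvd
  omega

include K in
theorem three_norm {x : G} (hx : orderOf x = 3) :
    Nat.card (Subgroup.normalizer ((Subgroup.zpowers x : Subgroup G) : Set G)) = 360 := by
  set N := Subgroup.normalizer ((Subgroup.zpowers x : Subgroup G) : Set G)
  set C := Subgroup.centralizer ({x} : Set G)
  have hx3 : x ^ 3 = 1 := hx ▸ pow_orderOf_eq_one x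
  have hne : x ≠ x⁻¹ := fun e => by
    have h2 : x ^ 2 = 1 := by rw [pow_two]; nth_rewrite 2 [e]; exact mul_inv_cancel x
    have := orderOf_dvd_of_pow_eq_one h2
    rw [hx] at this
    omega
  obtain ⟨c, hc⟩ := isConj_iff.1 (K.three_real hx)
  have hcases : ∀ b ∈ N, b * x * b⁻¹ = x ∨ b * x * b⁻¹ = x⁻¹ := fun b hb => by
    obtain ⟨i, hi⟩ := (Subgroup.mem_normalizer_iff.1 hb x).1 (Subgroup.mem_zpowers x)
    simp only at hi
    rw [← hi]
    show x ^ i = x ∨ x ^ i = x⁻¹
    have e : x ^ i = x ^ (i % 3) := by rw [← zpow_mod_orderOf x i, hx]; rfl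
    rcases (show i % 3 = 0 ∨ i % 3 = 1 ∨ i % 3 = 2 by omega) with h | h | h
    · exfalso
      rw [e, h, zpow_zero] at hi
      have h1 : x = 1 := by
        have := congrArg (fun v => b⁻¹ * v * b) hi
        simpa [mul_assoc] using this.symm
      rw [h1, orderOf_one] at hx
      omega
    · left; rw [e, h, zpow_one]
    · right; rw [e, h]
      exact eq_inv_of_mul_eq_one_left (by rw [← zpow_add_one]; exact_mod_cast hx3)
  have hcN : c ∈ N := by
    rw [Subgroup.mem_normalizer_iff_map_conj_eq, MonoidHom.map_zpowers]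
    show Subgroup.zpowers (c * x * c⁻¹) = _
    rw [hc, Subgroup.zpowers_inv]
  have hindex : (C.subgroupOf N).index = 2 := by
    rw [Subgroup.index_eq_two_iff]
    refine ⟨⟨c, hcN⟩, fun b => ?_⟩
    have key : ∀ v : N, v ∈ C.subgroupOf N ↔ (v : G) * x * (v : G)⁻¹ = x := fun v => by
      rw [Subgroup.mem_subgroupOf, Subgroup.mem_centralizer_singleton_iff, mul_inv_eq_iff_eq_mul]
    rw [xor_iff_or_and_not_and, key, key]
    have hbc : ((b * ⟨c, hcN⟩ : N) : G) * x * ((b * ⟨c, hcN⟩ : N) : G)⁻¹ = ((b : G) * x * (b : G)⁻¹)⁻¹ := by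
      rw [show ((b * ⟨c, hcN⟩ : N) : G) = (b : G) * c from rfl, conj_inv, ← hc]
      group
    rw [hbc]
    rcases hcases b b.2 with e | e <;> rw [e]
    · exact ⟨Or.inr rfl, fun h => hne h.1.symm⟩
    · rw [inv_inv]; exact ⟨Or.inl rfl, fun h => hne h.2.symm⟩
  have h := Subgroup.card_mul_index (C.subgroupOf N)
  rw [hindex, Nat.card_congr (Subgroup.subgroupOfEquivOfLe (centralizer_le_normalizer x)).toEquiv, K.three hx] at h
  exact h.symm

/-- The local data. -/
theorem loc (K : Cols G) : Nse.Loc G :=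
  ⟨K.card, fun _ _ => K.invol_conj, fun _ ht => (K.invol ht).1, fun _ hx => K.seven hx,
    fun _ hx => ⟨K.three hx, K.three_norm hx⟩⟩

end Cols

end Cfsg.Agent.MTwentyThree.ByOrder
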