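import Mathlib

/-!
Numerical facts for the Sylow subgroup of order twenty-three of a group of the order of the Mathieu group of
degree twenty-three.
-/

set_option autoImplicit false
set_option maxRecDepth 100000

namespace Cfsg.Agent.MTwentyThree.ByOrder

/-- the cases of the count of Sylow subgroups which are possible by arithmetic -/
def optOk (i e k : ℕ) : Bool :=
  (i == 1753 && e == 11) || i == 1 || (e == 2 && (k % 2 == 0 || [63, 385].contains k)) ||
    ((e == 11 || e == 22) && [12, 24, 70, 288, 576, 840, 1680].contains k) || (e == 22 && k == 35)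

theorem sylow_table : ((List.range 9643).all fun i => [2, 11, 22].all fun e =>
    (443520 % ((23 * i + 1) * e) != 0) || i == 0 || optOk i e (443520 / ((23 * i + 1) * e))) = true := by
  decide +kernel

theorem sylow_options {i e k : ℕ} (hi : i ≠ 0) (he : e = 2 ∨ e = 11 ∨ e = 22)
    (h : (23 * i + 1) * e * k = 443520) :
    (i = 1753 ∧ e = 11) ∨ i = 1 ∨ (e = 2 ∧ (2 ∣ k ∨ k ∈ [63, 385])) ∨
      ((e = 11 ∨ e = 22) ∧ k ∈ [12, 24, 70, 288, 576, 840, 1680]) ∨ (e = 22 ∧ k = 35) := by
  have hk : k ≠ 0 := fun e' => by rw [e', mul_zero] at h; omega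
  have hpos : 0 < (23 * i + 1) * e := Nat.pos_of_ne_zero fun e' => by rw [e', zero_mul] at h; omega
  have hle : (23 * i + 1) * e ≤ 443520 := h ▸ Nat.le_mul_of_pos_right _ (Nat.pos_of_ne_zero hk)
  have hlt : i < 9643 := by
    have : (23 * i + 1) * 2 ≤ (23 * i + 1) * e := Nat.mul_le_mul_left _ (by omega)
    omega
  have hq : 443520 / ((23 * i + 1) * e) = k := by rw [← h, Nat.mul_div_cancel_left _ hpos]
  have hm : 443520 % ((23 * i + 1) * e) = 0 := by rw [← h, Nat.mul_mod_right]
  have ht := List.all_eq_true.1 (List.all_eq_true.1 sylow_table i (List.mem_range.2 hlt)) e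
    (by simpa using he)
  rw [hq, hm] at ht
  simp [optOk, hi] at ht
  simp only [List.mem_cons, List.not_mem_nil, or_false, Nat.dvd_iff_mod_eq_zero]
  omega

/-- the possible degrees of the characters of degree prime to twenty-three -/
def dEven : List ℕ := (List.range 3195).filter fun d => decide (2 ≤ d) && (443520 % d == 0)

theorem two_degree : ∀ d ∈ dEven, ∀ a ∈ ([1, -1] : List ℤ), ((d : ℤ) - a) % 23 = 0 →
    ∀ g ∈ dEven, ∀ δ ∈ ([1, -1] : List ℤ), ((g : ℤ) - δ * 2) % 23 = 0 → δ * g = 1 + a * d →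
      d = 22 ∨ d = 45 := by
  decide +kernel

theorem odd_degree : ∀ d ∈ dEven, d % 23 ∈ [1, 22, 11, 12] → d % 2 = 1 → d ∈ [11, 35, 45, 231, 495] := by
  decide +kernel

theorem odd_degree_max : ∀ d ∈ [11, 35, 45, 231, 495], d % 23 ∈ [1, 22] → d ∈ [45, 231] := by decide +kernel

/-- the values of absolute value less than the degree -/
def valRange (d : ℕ) : List ℤ := (List.range (2 * d)).map fun i : ℕ => (i : ℤ) - (d : ℤ)

theorem mem_valRange {d : ℕ} {z : ℤ} (h : z.natAbs < d) : z ∈ valRange d :=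
  List.mem_map.2 ⟨(z + d).toNat, List.mem_range.2 (by omega), by omega⟩

theorem small_invol : ∀ d ∈ [22, 45], ∀ z ∈ valRange d, z.natAbs < d → ((d : ℤ) - z) % 92 ≠ 0 := by
  decide +kernel

theorem odd_invol : ∀ d ∈ [11, 35, 45, 231, 495], ∀ z ∈ valRange d, z.natAbs < d → ((d : ℤ) - z) % 92 = 0 →
    (40320 * z) % (d : ℤ) ≠ 0 := by
  decide +kernel

theorem seven_table : ∀ x ∈ [(22, 21120), (45, 21120), (22, 1152), (45, 1152), (231, 1152)],
    ∀ m ∈ List.range x.1, ((7 : ℤ) * (m : ℕ) - 7 * (x.1 : ℕ)) % 161 = 0 →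
      (((x.2 : ℕ) : ℤ) * (7 * (m : ℕ))) % ((x.1 : ℕ) : ℤ) ≠ 0 := by
  decide +kernel

theorem seven_index : ∀ x ∈ [(63, 9), (385, 55), (35, 5)], ∀ n ∈ List.range 56, n ∣ x.2 → n % 7 = 1 → n = 1 := by
  decide +kernel

end Cfsg.Agent.MTwentyThree.ByOrder
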