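import Cfsg.Agent.Lib.Spor.MTwentyThreeOrder.Column

/-!
The degrees of the irreducible characters of a simple group of the order of the Mathieu group of degree
twenty-three.
-/

set_option autoImplicit false
set_option linter.unusedSectionVars false
set_option linter.style.haveILetI false
set_option maxHeartbeats 2000000
set_option maxRecDepth 100000

namespace Cfsg.Agent.MTwentyThree.ByOrder

open Cfsg Cfsg.Agent.Char Cfsg.Agent.Small.Order459648
open Cfsg.Agent.MTwelve.OrderFront (val_one)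
open scoped ComplexConjugate

universe u

local instance : Fact (Nat.Prime 23) := ⟨by norm_num⟩
local instance : Fact (Nat.Prime 11) := ⟨by norm_num⟩

variable {G : Type u} [Group G] [Fintype G] [IsSimpleGroup G]

theorem sum_sq_dg (hG : Nat.card G = 10200960) : ∑ χ : IrrCharacter G, (dg χ : ℤ) * (dg χ : ℤ) = 10200960 := by
  have h := sum_sq_deg (G := G)
  rw [hG] at h
  have h2 : ((∑ χ : IrrCharacter G, (dg χ : ℤ) * (dg χ : ℤ) : ℤ) : ℂ) = ((10200960 : ℤ) : ℂ) := by
    push_cast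
    push_cast at h
    rw [← h]
    refine Finset.sum_congr rfl fun χ _ => ?_
    rw [val_one, sq]
    simp only [dg, Int.cast_natCast]
  exact_mod_cast h2

open scoped _root_.Classical in
/-- The sum over all characters along the parts. -/
theorem sum_parts {G : Type u} [Group G] [Fintype G] {M : Type*} [AddCommMonoid M] (B23 : SelfBlk 23 11 G)
    {α β : IrrCharacter G} {E : Finset (IrrCharacter G)} (hα : ofDeg G 230 = {α}) (hβ : ofDeg G 1035 = {β})
    (hmem : ∀ χ : IrrCharacter G, χ ≠ oneChar → ¬ 11 ∣ dg χ → dg χ ∈ [45, 230, 1035, 896])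
    (hE : ∀ χ, χ ∈ E ↔ χ ∈ B23.X ∧ χ ≠ oneChar ∧ 11 ∣ dg χ) (hY : ∀ χ ∈ B23.Y, 11 ∣ dg χ) (f : IrrCharacter G → M) :
    ∑ χ, f χ = f oneChar + (((∑ χ ∈ ofDeg G 45, f χ) + (f α + f β + ∑ χ ∈ ofDeg G 896, f χ)) +
      (((∑ χ ∈ E, f χ) + ∑ χ ∈ B23.Y, f χ) +
        ∑ χ ∈ (Finset.univ.erase oneChar).filter (fun χ => 11 ∣ dg χ ∧ 23 ∣ dg χ), f χ)) := by
  rw [← Finset.add_sum_erase Finset.univ f (Finset.mem_univ (oneChar : IrrCharacter G)),
    ← Finset.sum_filter_add_sum_filter_not (Finset.univ.erase oneChar) (fun χ => ¬ 11 ∣ dg χ)]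
  have hdis : ∀ {c d : ℕ}, c ≠ d → Disjoint (ofDeg G c) (ofDeg G d) := fun {c d} h =>
    Finset.disjoint_left.2 fun χ h1 h2 => h ((Finset.mem_filter.1 h1).2.symm.trans (Finset.mem_filter.1 h2).2)
  congr 2
  · have e : (Finset.univ.erase oneChar).filter (fun χ => ¬ 11 ∣ dg χ) =
        ofDeg G 45 ∪ ((ofDeg G 230 ∪ ofDeg G 1035) ∪ ofDeg G 896) := by
      ext χ
      simp only [ofDeg, Finset.mem_filter, Finset.mem_erase, Finset.mem_univ, and_true, Finset.mem_union]
      constructor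
      · rintro ⟨hne, h11⟩
        have := hmem χ hne h11
        simp only [List.mem_cons, List.not_mem_nil, or_false] at this
        tauto
      · rintro (⟨hne, hd⟩ | (⟨hne, hd⟩ | ⟨hne, hd⟩) | ⟨hne, hd⟩) <;> exact ⟨hne, by rw [hd]; norm_num⟩
    rw [e, Finset.sum_union (Finset.disjoint_union_right.2 ⟨Finset.disjoint_union_right.2
        ⟨hdis (by norm_num), hdis (by norm_num)⟩, hdis (by norm_num)⟩),
      Finset.sum_union (Finset.disjoint_union_left.2 ⟨hdis (by norm_num), hdis (by norm_num)⟩),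
      Finset.sum_union (hdis (by norm_num)), hα, hβ, Finset.sum_singleton, Finset.sum_singleton]
  · rw [← Finset.sum_filter_add_sum_filter_not
      ((Finset.univ.erase oneChar).filter fun χ => ¬ ¬ 11 ∣ dg χ) (fun χ => ¬ 23 ∣ dg χ), Finset.filter_filter,
      Finset.filter_filter]
    simp only [not_not]
    congr 1
    rw [← Finset.sum_union (Finset.disjoint_left.2 fun χ h1 h2 =>
      Finset.disjoint_left.1 B23.pp.disj ((hE χ).1 h1).1 h2)]
    refine Finset.sum_congr ?_ fun _ _ => rfl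
    ext χ
    simp only [Finset.mem_filter, Finset.mem_erase, Finset.mem_univ, and_true, Finset.mem_union, hE]
    constructor
    · rintro ⟨hne, h11, h23⟩
      rcases (B23.mem_iff).2 h23 with hX | hY'
      · exact Or.inl ⟨hX, hne, h11⟩
      · exact Or.inr hY'
    · rintro (⟨hX, hne, h11⟩ | hY')
      · exact ⟨hne, h11, (B23.mem_iff).1 (Or.inl hX)⟩
      · exact ⟨fun e1 => Finset.disjoint_left.1 B23.pp.disj B23.one_mem (e1 ▸ hY'), hY χ hY',
          (B23.mem_iff).1 (Or.inr hY')⟩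

/-- Sums along the groups of equal degree. -/
theorem mid_sums (r : List ℕ × ℕ) (E : Finset (IrrCharacter G)) (z : IrrCharacter G → ℤ)
    (hE : sortedDegs E = r.1) (hmid : ∀ χ ∈ E, dg χ ∈ mid) :
    open scoped _root_.Classical in
    let ps := (mid.filter fun d => decide (0 < r.1.count d)).map fun d =>
      ((((E.filter fun χ => dg χ = d).toList.map z).sum : ℤ),
        ((((E.filter fun χ => dg χ = d).toList.map z).map fun w => w * w).sum : ℤ))
    linW (midW r) ps = ∑ χ ∈ E, (if dg χ % 23 = 1 then (1 : ℤ) else -1) * z χ ∧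
      quadW (midW r) ps =
        ∑ χ ∈ E, (if dg χ % 23 = 1 then (1 : ℤ) else -1) * (z χ * z χ) * ((10200960 / dg χ : ℕ) : ℤ) ∧
      sqW ps = ∑ χ ∈ E, z χ * z χ ∧ degW (midW r) ps = ∑ χ ∈ E, (dg χ : ℤ) * z χ := by
  classical
  intro ps
  have hfib : ∀ f : IrrCharacter G → ℤ, ((mid.filter fun d => decide (0 < r.1.count d)).map fun d =>
      ∑ χ ∈ E.filter (fun χ => dg χ = d), f χ).sum = ∑ χ ∈ E, f χ := fun f => by
    have hnd : (mid.filter fun d => decide (0 < r.1.count d)).Nodup := List.Nodup.filter _ (by decide)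
    rw [← List.sum_toFinset _ hnd]
    refine Finset.sum_fiberwise_of_maps_to (fun χ hχ => List.mem_toFinset.2 (List.mem_filter.2 ⟨hmid χ hχ, ?_⟩)) f
    rw [decide_eq_true_eq, List.count_pos_iff, ← hE, ← Multiset.mem_coe, sortedDegs_coe]
    exact Multiset.mem_map_of_mem _ hχ
  rw [← hfib, ← hfib, ← hfib, ← hfib]
  simp only [ps, midW, List.map_map, Finset.sum_map_toList, Function.comp_def]
  generalize (mid.filter fun d => decide (0 < r.1.count d)) = L
  induction L with
  | nil => simp [linW, quadW, sqW, degW]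
  | cons d L ih =>
    obtain ⟨i1, i2, i3, i4⟩ := ih
    simp only [List.map_cons, List.sum_cons, linW, quadW, sqW, degW]
    refine ⟨?_, ?_, ?_, ?_⟩
    · rw [i1, Finset.mul_sum]
      congr 1
      exact Finset.sum_congr rfl fun χ hχ => by rw [(Finset.mem_filter.1 hχ).2]
    · rw [i2, Finset.mul_sum, Finset.sum_mul]
      congr 1
      exact Finset.sum_congr rfl fun χ hχ => by rw [(Finset.mem_filter.1 hχ).2]
    · rw [i3]
    · rw [i4, Finset.mul_sum]
      congr 1
      exact Finset.sum_congr rfl fun χ hχ => by rw [(Finset.mem_filter.1 hχ).2]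

/-- The degree list. -/
def degList : List ℕ := [1, 22, 45, 45, 230, 231, 231, 231, 253, 770, 770, 896, 896, 990, 990, 1035, 2024]

open scoped _root_.Classical in
theorem exists_table (hG : Nat.card G = 10200960) : Nonempty (Table G) := by
  obtain ⟨P, hP, hC, he⟩ := exists_twentythree hG
  obtain ⟨B23⟩ := exists_selfBlk (e := 11) (t := 2) (by norm_num) (by norm_num) (by norm_num) P hP hC he
  obtain ⟨Q, hQ, hCQ, heQ⟩ := exists_eleven hG
  obtain ⟨B11⟩ := exists_selfBlk (e := 5) (t := 2) (by norm_num) (by norm_num) (by norm_num) Q hQ hCQ heQ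
  obtain ⟨K⟩ := exists_ccol hG B23 B11
  obtain ⟨α, β, hα, hβ, h45, h896, hmem, h2024, hz896, hcases⟩ := eleven_column hG B23 B11 K
  have hα' := mem_ofDeg.1 (hα.symm ▸ Finset.mem_singleton_self α : α ∈ ofDeg G 230)
  have hβ' := mem_ofDeg.1 (hβ.symm ▸ Finset.mem_singleton_self β : β ∈ ofDeg G 1035)
  obtain ⟨θ, hθ⟩ := B23.exists_Y
  have hθne : θ ≠ oneChar := fun e1 => Finset.disjoint_left.1 B23.pp.disj B23.one_mem (e1 ▸ hθ)
  have hYc : B23.Y.card = 2 := by have := B23.cardY; omega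
  have hYd : ∀ χ ∈ B23.Y, dg χ = dg θ := fun χ hχ => by
    have h1 := B23.pp.regY χ hχ θ hθ 1 (by rw [orderOf_one]; norm_num)
    rw [val_one, val_one] at h1
    exact_mod_cast h1
  have hYz : ∀ χ ∈ B23.Y, K.z χ = K.z θ := fun χ hχ => by
    have h1 := B23.pp.regY χ hχ θ hθ K.t (by rw [K.order]; norm_num)
    rw [K.val, K.val] at h1
    exact_mod_cast h1
  have hgres := (sgnE_eq B23.pp (by norm_num) B23.e_lt B23.double_ne hθ).1
  have hg11 : 11 ∣ dg θ := by
    by_contra h
    have := hmem θ hθne h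
    simp only [List.mem_cons, List.not_mem_nil, or_false] at this
    omega
  have hY11 : ∀ χ ∈ B23.Y, 11 ∣ dg χ := fun χ hχ => hYd χ hχ ▸ hg11
  have hmidAll : ∀ χ : IrrCharacter G, χ ≠ oneChar → 11 ∣ dg χ →
      dg χ % 23 = 1 ∨ dg χ % 23 = 22 ∨ dg χ % 23 = 11 ∨ dg χ % 23 = 12 →
        if dg χ % 23 = 1 ∨ dg χ % 23 = 22 then dg χ ∈ mid else dg χ ∈ midY := by
    intro χ hne h11 hres
    have ht := List.all_eq_true.1 mid_table _ (dg_allowed hG B23 B11 hne)
    simp only [Bool.or_eq_true, bne_iff_ne, ne_eq, List.contains_iff_mem, List.mem_cons, List.not_mem_nil,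
      or_false] at ht
    rcases ht with (h' | h') | h'
    · exact absurd (Nat.mod_eq_zero_of_dvd h11) h'
    · omega
    · rcases hres with e | e | e | e <;> simp [e] at h' ⊢ <;> exact h'
  have hgY : dg θ ∈ midY := by
    have hres : dg θ % 23 = 11 ∨ dg θ % 23 = 12 := by omega
    have h := hmidAll θ hθne hg11 (by omega)
    rwa [if_neg (by omega)] at h
  -- the characters of the block of degree divisible by eleven
  set E := (B23.X.erase oneChar).filter fun χ => 11 ∣ dg χ with hEdef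
  have hE : ∀ χ, χ ∈ E ↔ χ ∈ B23.X ∧ χ ≠ oneChar ∧ 11 ∣ dg χ := fun χ => by
    simp only [hEdef, Finset.mem_filter, Finset.mem_erase]
    tauto
  have hEmid : ∀ χ ∈ E, dg χ ∈ mid := fun χ hχ => by
    obtain ⟨hX, hne, h11⟩ := (hE χ).1 hχ
    have hres := (sgn_eq B23.pp B23.two_lt hX).1
    have h := hmidAll χ hne h11 (by omega)
    rwa [if_pos (by omega)] at h
  have hdis : ∀ {c d : ℕ}, c ≠ d → Disjoint (ofDeg G c) (ofDeg G d) := fun {c d} h =>
    Finset.disjoint_left.2 fun χ h1 h2 => h ((mem_ofDeg.1 h1).2.symm.trans (mem_ofDeg.1 h2).2)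
  have hnot : (B23.X.erase oneChar).filter (fun χ => ¬ 11 ∣ dg χ) = ofDeg G 45 ∪ ofDeg G 896 := by
    ext χ
    simp only [Finset.mem_filter, Finset.mem_erase, Finset.mem_union, mem_ofDeg]
    constructor
    · rintro ⟨⟨hne, hX⟩, h11⟩
      have hres := (sgn_eq B23.pp B23.two_lt hX).1
      have := hmem χ hne h11
      simp only [List.mem_cons, List.not_mem_nil, or_false] at this
      rcases this with e | e | e | e
      · exact Or.inl ⟨hne, e⟩
      · omega
      · omega
      · exact Or.inr ⟨hne, e⟩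
    · intro h
      obtain ⟨hne, hd⟩ : χ ≠ oneChar ∧ (dg χ = 45 ∨ dg χ = 896) := by tauto
      have h11 : ¬ 11 ∣ dg χ := by rcases hd with e | e <;> rw [e] <;> norm_num
      refine ⟨⟨hne, ?_⟩, h11⟩
      refine ((B23.mem_iff).2 (by rcases hd with e | e <;> rw [e] <;> norm_num)).resolve_right fun hY => ?_
      exact h11 (hY11 χ hY)
  have hXsum : ∀ {M : Type} [AddCommMonoid M] (f : IrrCharacter G → M), ∑ χ ∈ B23.X.erase oneChar, f χ =
      (∑ χ ∈ ofDeg G 45, f χ) + (∑ χ ∈ ofDeg G 896, f χ) + ∑ χ ∈ E, f χ := fun {M} _ f => by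
    rw [← Finset.sum_filter_add_sum_filter_not (B23.X.erase oneChar) (fun χ => ¬ 11 ∣ dg χ), hnot,
      Finset.sum_union (hdis (by norm_num))]
    simp only [not_not]
    rfl
  have hEc : E.card = 6 := by
    have h := hXsum (fun _ : IrrCharacter G => (1 : ℕ))
    simp only [← Finset.card_eq_sum_ones, h45, h896] at h
    rw [Finset.card_erase_of_mem B23.one_mem, B23.pp.cardX] at h
    omega
  set R := (Finset.univ.erase oneChar).filter (fun χ : IrrCharacter G => 11 ∣ dg χ ∧ 23 ∣ dg χ) with hRdef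
  have hparts : ∀ {M : Type} [AddCommMonoid M] (f : IrrCharacter G → M), ∑ χ, f χ =
      f oneChar + (((∑ χ ∈ ofDeg G 45, f χ) + (f α + f β + ∑ χ ∈ ofDeg G 896, f χ)) +
        (((∑ χ ∈ E, f χ) + ∑ χ ∈ B23.Y, f χ) + ∑ χ ∈ R, f χ)) := fun {M} _ f =>
    sum_parts B23 hα hβ hmem hE hY11 f
  have hR : ∀ χ ∈ R, 253 ∣ dg χ := fun χ hχ => by
    obtain ⟨-, h11, h23⟩ := Finset.mem_filter.1 hχ
    exact Nat.Coprime.mul_dvd_of_dvd_of_dvd (by norm_num : Nat.Coprime 11 23) h11 h23
  obtain ⟨h0, hh0⟩ : ∃ h, h ∈ R ∧ dg h = 2024 := by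
    obtain ⟨h, hh⟩ := Finset.card_pos.1 (card_ofDeg (G := G) 2024 ▸ h2024 : 0 < (ofDeg G 2024).card)
    obtain ⟨hne, hd⟩ := mem_ofDeg.1 hh
    exact ⟨h, Finset.mem_filter.2 ⟨Finset.mem_erase.2 ⟨hne, Finset.mem_univ _⟩, by rw [hd]; norm_num⟩, hd⟩
  have hone : dg (oneChar : IrrCharacter G) = 1 := by simp [dg, charDegree, oneChar]
  have hconst : ∀ (d : ℕ) (f : IrrCharacter G → ℤ) (F : ℕ → ℤ), (∀ χ, f χ = F (dg χ)) →
      ∑ χ ∈ ofDeg G d, f χ = ((ofDeg G d).card : ℤ) * F d := fun d f F h => by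
    rw [Finset.sum_congr rfl fun χ hχ => by rw [h χ, (mem_ofDeg.1 hχ).2], Finset.sum_const, nsmul_eq_mul]
  have hYsum : ∀ (f : IrrCharacter G → ℤ) (v : ℤ), (∀ χ ∈ B23.Y, f χ = v) → ∑ χ ∈ B23.Y, f χ = 2 * v := fun f v h => by
    rw [Finset.sum_congr rfl h, Finset.sum_const, hYc, nsmul_eq_mul, Nat.cast_ofNat]
  -- the row
  set r : List ℕ × ℕ := (sortedDegs E, dg θ) with hrdef
  have hknown : ((known r.1 r.2 : ℕ) : ℤ) + ∑ χ ∈ R, (dg χ : ℤ) * (dg χ : ℤ) = 10200960 := by
    rw [← sum_sq_dg hG, hparts (fun χ => (dg χ : ℤ) * (dg χ : ℤ)), hYsum _ _ fun χ hχ => by rw [hYd χ hχ],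
      hconst 45 _ (fun d => (d : ℤ) * d) fun _ => rfl, hconst 896 _ (fun d => (d : ℤ) * d) fun _ => rfl, h45, h896,
      hone, hα'.2, hβ'.2, known]
    have h : ((((sortedDegs E).map fun d => d * d).sum : ℕ) : ℤ) = ∑ χ ∈ E, (dg χ : ℤ) * (dg χ : ℤ) := by
      rw [← Multiset.sum_coe, ← Multiset.map_coe, sortedDegs_coe, Multiset.map_map]
      change ((∑ χ ∈ E, dg χ * dg χ : ℕ) : ℤ) = _
      push_cast
      rfl
    simp only [hrdef]
    push_cast at h ⊢
    linear_combination h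
  have hRdvd : (64009 : ℤ) ∣ ∑ χ ∈ R, (dg χ : ℤ) * (dg χ : ℤ) := Finset.dvd_sum fun χ hχ => by
    obtain ⟨k, hk⟩ := hR χ hχ
    exact ⟨(k : ℤ) * k, by rw [hk]; push_cast; ring⟩
  have hR2024 : (64 * 64009 : ℤ) ≤ ∑ χ ∈ R, (dg χ : ℤ) * (dg χ : ℤ) := by
    refine le_trans (le_of_eq ?_) (Finset.single_le_sum (fun χ _ => mul_self_nonneg (dg χ : ℤ)) hh0.1)
    rw [hh0.2]; norm_num
  have hsgn : ∀ χ ∈ B23.X.erase oneChar, B23.a χ = if dg χ % 23 = 1 then 1 else -1 := fun χ hχ =>
    a_eq B23.pp B23.two_lt (Finset.mem_erase.1 hχ).2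
  have hδ : B23.δ = if dg θ % 23 = 11 then 1 else -1 :=
    delta_eq B23.pp (by norm_num) B23.e_lt B23.double_ne hθ
  have hwsum : ∀ f : IrrCharacter G → ℤ, ∑ χ ∈ B23.X.erase oneChar, B23.a χ * f χ =
      -(∑ χ ∈ ofDeg G 45, f χ) + -(∑ χ ∈ ofDeg G 896, f χ) +
        ∑ χ ∈ E, (if dg χ % 23 = 1 then (1 : ℤ) else -1) * f χ := fun f => by
    rw [Finset.sum_congr rfl fun χ hχ => show B23.a χ * f χ = (if dg χ % 23 = 1 then (1 : ℤ) else -1) * f χ by
      rw [hsgn χ hχ], hXsum]
    congr 1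
    congr 1 <;>
    · rw [← Finset.sum_neg_distrib]
      exact Finset.sum_congr rfl fun χ hχ => by rw [(mem_ofDeg.1 hχ).2]; norm_num
  have hrow : r ∈ midRows := by
    refine List.mem_flatMap.2 ⟨r.1, ?_, List.mem_map.2 ⟨r.2, List.mem_filter.2 ⟨hgY, ?_⟩, rfl⟩⟩
    · rw [show 6 = r.1.length by simp only [hrdef]; rw [sortedDegs_length, hEc]]
      refine mem_sl mid (by decide) _ (Multiset.pairwise_sort _ _) fun d hd => ?_
      obtain ⟨χ, hχ, rfl⟩ := mem_sortedDegs hd
      exact hEmid χ hχ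
    · simp only [Bool.and_eq_true, decide_eq_true_eq]
      refine ⟨⟨?_, by omega⟩, by omega⟩
      have h := hwsum (fun χ => (dg χ : ℤ))
      rw [hconst 45 _ (fun d => (d : ℤ)) fun _ => rfl, hconst 896 _ (fun d => (d : ℤ)) fun _ => rfl, h45, h896] at h
      have hlin := B23.pp.rel θ hθ 1 (by rw [orderOf_one]; norm_num)
      rw [← Finset.add_sum_erase B23.X _ B23.one_mem, B23.one_sign] at hlin
      simp only [val_one] at hlin
      have h3 : B23.δ * (dg θ : ℤ) = 1 + ∑ χ ∈ B23.X.erase oneChar, B23.a χ * (dg χ : ℤ) := by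
        have h4 : ((B23.δ * (dg θ : ℤ) : ℤ) : ℂ) =
            ((1 + ∑ χ ∈ B23.X.erase oneChar, B23.a χ * (dg χ : ℤ) : ℤ) : ℂ) := by
          push_cast at hlin ⊢
          simp only [dg, oneChar, charDegree] at hlin ⊢
          simpa using hlin
        exact_mod_cast h4
      simp only [hrdef]
      rw [(sgnE_eq B23.pp (by norm_num) B23.e_lt B23.double_ne hθ).2.symm, h3, h, sortedDegs_sum]
      have : ∀ χ : IrrCharacter G, sgn 23 (dg χ) = (if dg χ % 23 = 1 then (1 : ℤ) else -1) * (dg χ : ℤ) := fun χ => by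
        rw [sgn]; split_ifs <;> ring
      rw [Finset.sum_congr rfl fun χ _ => this χ]
      push_cast
      ring
  -- the column on the block
  obtain ⟨hlin, hquad⟩ := K.block B23 (by decide) hG hθ
  set s := ∑ χ ∈ ofDeg G 45, K.z χ with hs
  set q := ∑ χ ∈ ofDeg G 45, K.z χ * K.z χ with hq
  have h896z : ∀ f : IrrCharacter G → ℤ, (∀ χ, K.z χ = 0 → f χ = 0) → ∑ χ ∈ ofDeg G 896, f χ = 0 := fun f hf =>
    Finset.sum_eq_zero fun χ hχ => hf χ (hz896 χ hχ)
  rw [hwsum, h896z _ (fun χ h => h)] at hlin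
  have hquad' : 10200960 + (-(q * ((10200960 / 45 : ℕ) : ℤ)) + ∑ χ ∈ E, (if dg χ % 23 = 1 then (1 : ℤ) else -1) *
      (K.z χ * K.z χ) * ((10200960 / dg χ : ℕ) : ℤ)) -
      B23.δ * (K.z θ * K.z θ) * ((10200960 / dg θ : ℕ) : ℤ) = 0 := by
    have h0 := hwsum (fun χ => K.z χ * K.z χ * ((10200960 / dg χ : ℕ) : ℤ))
    have h2 : ∑ χ ∈ ofDeg G 45, K.z χ * K.z χ * ((10200960 / dg χ : ℕ) : ℤ) = q * ((10200960 / 45 : ℕ) : ℤ) := by
      rw [hq, Finset.sum_mul]
      exact Finset.sum_congr rfl fun χ hχ => by rw [(mem_ofDeg.1 hχ).2]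
    rw [h2, h896z _ fun χ h => by rw [h]; ring] at h0
    simp only [← mul_assoc] at h0 hquad ⊢
    rw [h0, neg_zero, add_zero] at hquad
    exact hquad
  set zss := (mid.filter fun d => decide (0 < r.1.count d)).map fun d =>
    (E.filter fun χ => dg χ = d).toList.map K.z with hzss
  have hms := mid_sums r E K.z rfl hEmid
  simp only at hms
  set ps := zss.map fun zs => (zs.sum, (zs.map fun z => z * z).sum) with hps
  have hps' : ps = (mid.filter fun d => decide (0 < r.1.count d)).map fun d =>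
      ((((E.filter fun χ => dg χ = d).toList.map K.z).sum : ℤ),
        ((((E.filter fun χ => dg χ = d).toList.map K.z).map fun w => w * w).sum : ℤ)) := by
    rw [hps, hzss, List.map_map]; rfl
  rw [← hps'] at hms
  obtain ⟨m1, m2, m3, m4⟩ := hms
  have hG0 : midG r s ps = K.z θ := by
    have hd : B23.δ * B23.δ = 1 := by rcases B23.pp.sign with e | e <;> rw [e] <;> norm_num
    have h3 : (if r.2 % 23 = 11 then (1 : ℤ) else -1) = B23.δ := hδ.symm
    rw [midG, m1, h3]
    linear_combination (K.z θ) * hd - B23.δ * hlin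
  have hsq : 1 + q + K.z α * K.z α + K.z β * K.z β + sqW ps + 2 * (K.z θ * K.z θ) +
      ∑ χ ∈ R, K.z χ * K.z χ = (K.C : ℤ) := by
    rw [← K.sum_sq, hparts (fun χ => K.z χ * K.z χ), hYsum _ _ fun χ hχ => by rw [hYz χ hχ], K.one, m3,
      h896z _ fun χ h => by rw [h]; ring]
    ring
  have hdeg : 1 + 45 * s + 230 * K.z α + 1035 * K.z β + degW (midW r) ps + 2 * ((r.2 : ℤ) * K.z θ) +
      ∑ χ ∈ R, (dg χ : ℤ) * K.z χ = 0 := by
    rw [← K.sum_deg, hparts (fun χ => (dg χ : ℤ) * K.z χ), hYsum _ _ fun χ hχ => by rw [hYz χ hχ, hYd χ hχ], K.one,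
      m4, h896z _ fun χ h => by rw [h]; ring, hone, hα'.2, hβ'.2,
      Finset.sum_congr rfl (s₁ := ofDeg G 45) fun χ hχ => by rw [(mem_ofDeg.1 hχ).2], ← Finset.mul_sum]
    push_cast
    ring
  have hRnn : (0 : ℤ) ≤ ∑ χ ∈ R, K.z χ * K.z χ := Finset.sum_nonneg fun χ _ => mul_self_nonneg _
  have hcol : ps ∈ midCols r K.C s q (K.z α) (K.z β) := by
    refine List.mem_filter.2 ⟨mem_cols K.C (midW r) zss _ ?_ ?_, ?_⟩
    · rw [hzss, midW, List.forall₂_map_left_iff, List.forall₂_map_right_iff, List.forall₂_same]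
      intro d _
      refine ⟨?_, fun z hz => ?_⟩
      · simp only [List.length_map, Finset.length_toList, hrdef, count_sortedDegs]
      · obtain ⟨χ, hχ, rfl⟩ := List.mem_map.1 hz
        obtain ⟨hχE, hd⟩ := Finset.mem_filter.1 (Finset.mem_toList.1 hχ)
        exact hd ▸ K.mem χ ((hE χ).1 hχE).2.1
    · rw [← hps]
      have := mul_self_nonneg (K.z θ)
      omega
    · simp only [midOk, Bool.and_eq_true, List.contains_iff_mem, decide_eq_true_eq]
      rw [hG0]
      refine ⟨⟨⟨K.mem θ hθne, ?_⟩, by omega⟩, ?_⟩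
      · rw [m2, show (if r.2 % 23 = 11 then (1 : ℤ) else -1) = B23.δ from hδ.symm]
        linear_combination hquad'
      · have hcs := Finset.sum_mul_sq_le_sq_mul_sq R (fun χ : IrrCharacter G => (dg χ : ℤ)) K.z
        simp only [sq] at hcs
        have hn : ((10200960 - known r.1 r.2 : ℕ) : ℤ) = ∑ χ ∈ R, (dg χ : ℤ) * (dg χ : ℤ) := by omega
        rw [hn]
        have e1 : ∑ χ ∈ R, (dg χ : ℤ) * K.z χ = -(1 + 45 * s + 230 * K.z α + 1035 * K.z β + degW (midW r) ps +
            2 * ((r.2 : ℤ) * K.z θ)) := by omega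
        have e2 : ∑ χ ∈ R, K.z χ * K.z χ = (K.C : ℤ) - (1 + q + K.z α * K.z α + K.z β * K.z β + sqW ps +
            2 * (K.z θ * K.z θ)) := by omega
        rw [e1, e2, neg_mul_neg] at hcs
        exact hcs
  have hfinal : r = ([22, 231, 231, 231, 990, 990], 770) := by
    rcases hcases with ⟨hc, h1, h2, h3, h4⟩ | ⟨hc, h1, h2, h3, h4⟩ <;> rw [hc, h1, h2, h3, h4] at hcol
    · have := List.all_eq_true.1 midCols_small r hrow
      rw [List.isEmpty_iff] at this
      rw [this] at hcol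
      simp at hcol
    · rw [midRows_eq] at hrow
      simp only [List.mem_cons, List.not_mem_nil, or_false] at hrow
      rcases hrow with e | e | e | e | e | e | e | e | e
      · rw [e, midCols_0] at hcol; simp at hcol
      · rw [e, midCols_1] at hcol; simp at hcol
      · rw [e, midCols_2] at hcol; simp at hcol
      · exact e
      · rw [e, midCols_4] at hcol; simp at hcol
      · rw [e, midCols_5] at hcol; simp at hcol
      · rw [e, midCols_6] at hcol; simp at hcol
      · rw [e, midCols_7] at hcol; simp at hcol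
      · rw [e, midCols_8] at hcol; simp at hcol
  obtain ⟨hrE, hrg⟩ := Prod.ext_iff.1 hfinal
  simp only [hrdef] at hrE hrg
  -- the remaining two characters
  have hRsum : ∑ χ ∈ R, (dg χ : ℤ) * (dg χ : ℤ) = 65 * 64009 := by
    have : known r.1 r.2 = 10200960 - 65 * 64009 := by
      rw [hfinal]
      decide
    omega
  have hrest : ∑ χ ∈ R.erase h0, (dg χ : ℤ) * (dg χ : ℤ) = 64009 := by
    rw [← Finset.add_sum_erase R _ hh0.1, hh0.2] at hRsum
    push_cast at hRsum
    omega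
  have hbig : ∀ χ ∈ R.erase h0, (64009 : ℤ) ≤ (dg χ : ℤ) * (dg χ : ℤ) := fun χ hχ => by
    have h253 : (253 : ℤ) ≤ (dg χ : ℤ) := by
      exact_mod_cast Nat.le_of_dvd (deg_pos χ.2) (hR χ (Finset.mem_of_mem_erase hχ))
    exact le_trans (le_of_eq (by norm_num)) (mul_le_mul h253 h253 (by norm_num) (by omega))
  have hone' : (R.erase h0).card = 1 := by
    have h := Finset.card_nsmul_le_sum _ _ _ hbig
    rw [hrest, nsmul_eq_mul] at h
    have h0' : (R.erase h0).card ≠ 0 := fun h' => by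
      rw [Finset.card_eq_zero.1 h', Finset.sum_empty] at hrest
      norm_num at hrest
    omega
  obtain ⟨f0, hf0⟩ := Finset.card_eq_one.1 hone'
  have hf0d : dg f0 = 253 := by
    rw [hf0, Finset.sum_singleton] at hrest
    have h2 : dg f0 ^ 2 = 253 ^ 2 := by
      rw [sq]
      exact_mod_cast hrest
    exact Nat.pow_left_injective (by norm_num) h2
  -- the fibres of the degree
  have hfib : ∀ d, (Finset.univ.filter fun χ : IrrCharacter G => dg χ = d).card = degList.count d := by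
    intro d
    rw [Finset.card_filter, hparts (fun χ => if dg χ = d then 1 else 0)]
    have hcE : (∑ χ ∈ E, if dg χ = d then 1 else 0) = [22, 231, 231, 231, 990, 990].count d := by
      rw [← Finset.card_filter, ← hrE, count_sortedDegs]
    rw [hcE, Finset.sum_congr rfl (s₁ := ofDeg G 45) fun χ hχ => by rw [(mem_ofDeg.1 hχ).2],
      Finset.sum_congr rfl (s₁ := ofDeg G 896) fun χ hχ => by rw [(mem_ofDeg.1 hχ).2],
      Finset.sum_congr rfl (s₁ := B23.Y) fun χ hχ => by rw [hYd χ hχ, hrg],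
      ← Finset.add_sum_erase R _ hh0.1, hf0, Finset.sum_singleton, hh0.2, hf0d, hone, hα'.2, hβ'.2,
      Finset.sum_const, Finset.sum_const, Finset.sum_const, h45, h896, hYc]
    have hp : ([1] ++ ([45, 45] ++ ([230, 1035] ++ [896, 896]) ++
        (([22, 231, 231, 231, 990, 990] ++ [770, 770]) ++ [2024, 253]))).Perm degList := by decide
    rw [← hp.count_eq]
    simp only [List.count_append, List.count_cons, List.count_nil, beq_iff_eq, smul_eq_mul, zero_add]
    simp only [eq_comm (b := d)]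
    omega
  -- the numbering
  let tgt : Fin 17 → ℕ :=
    (![1, 22, 45, 45, 230, 231, 231, 231, 253, 770, 770, 896, 896, 990, 990, 1035, 2024] : Fin 17 → ℕ)
  have htgt : ∀ d, (Finset.univ.filter fun i : Fin 17 => tgt i = d).card = degList.count d := fun d => by
    rw [show degList = List.ofFn tgt by decide, List.ofFn_eq_map, ← Multiset.coe_count, ← Multiset.map_coe,
      Multiset.count_map, Finset.card_def, Finset.filter_val]
    simp only [eq_comm]; rfl
  have hequiv : ∀ d, Nonempty ({i : Fin 17 // tgt i = d} ≃ {χ : IrrCharacter G // dg χ = d}) := fun d =>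
    ⟨Fintype.equivOfCardEq (by rw [Fintype.card_subtype, Fintype.card_subtype, hfib, htgt])⟩
  let φ := Equiv.ofFiberEquiv fun d => (hequiv d).some
  have hφ : ∀ i, dg (φ i) = tgt i := fun i => Equiv.ofFiberEquiv_map _ i
  refine ⟨⟨B23, B11, φ, hG, φ.bijective, ?_, hφ⟩⟩
  by_contra hne
  have h1 := one_lt_degree (na hG) hne
  have h2 : dg (φ 0) = 1 := hφ 0
  unfold dg at h2
  omega

end Cfsg.Agent.MTwentyThree.ByOrder
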