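import Cfsg.Agent.Lib.Spor.MTwentyThreeOrder.Blocks

/-!
The degrees of the irreducible characters and the two self-centralising principal blocks of a simple group of the
order of the Mathieu group of degree twenty-three.
-/

set_option autoImplicit false
set_option linter.unusedSectionVars false

namespace Cfsg.Agent.MTwentyThree.ByOrder

open Cfsg Cfsg.Agent.Char Cfsg.Agent.Small.Order459648

universe u

local instance : Fact (Nat.Prime 23) := ⟨by norm_num⟩
local instance : Fact (Nat.Prime 11) := ⟨by norm_num⟩

/-- The degrees with the two self-centralising blocks. -/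
structure Table (G : Type u) [Group G] [Fintype G] where
  /-- the block of twenty-three -/
  B23 : SelfBlk 23 11 G
  /-- the block of eleven -/
  B11 : SelfBlk 11 5 G
  /-- the characters -/
  c : Fin 17 → IrrCharacter G
  card : Nat.card G = 10200960
  bij : Function.Bijective c
  c_zero : c 0 = oneChar
  deg : ∀ i : Fin 17, charDegree (c i : G → ℂ) =
    (![1, 22, 45, 45, 230, 231, 231, 231, 253, 770, 770, 896, 896, 990, 990, 1035, 2024] : Fin 17 → ℕ) i

end Cfsg.Agent.MTwentyThree.ByOrder
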